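import Mathlib
import Cfsg.Agent.Lib.Invol.Order95040.Counting
import Cfsg.Agent.Lib.Block.OrderPrimeCases
import Cfsg.Agent.Lib.Block.SmallOrd.Degrees
import Cfsg.Agent.Lib.Fus.SmallOrders

/-!
The principal block at a prime dividing the group order exactly: values, relations and the counts of
products landing among the elements with nontrivial `p`-part centralising the Sylow subgroup.
-/

set_option autoImplicit false
set_option linter.style.haveILetI false
set_option linter.unusedSectionVars false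

namespace Cfsg.Agent.Invol.M22Ord

open scoped ComplexConjugate
open Cfsg Cfsg.Agent.Block Cfsg.Agent.Char Cfsg.Agent.Invol.M12Ord

universe u

/-- The principal block at `p` with automizer of order `e`: the nontrivial characters `X` with their signs,
and the characters `Y` taking the same values at the elements of order prime to `p`. -/
structure PBlk (G : Type u) [Group G] [Finite G] (p e : ℕ) where
  P : Sylow p G
  hP : Nat.card P = p
  he : (Subgroup.centralizer ((P : Subgroup G) : Set G)).relIndex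
    (Subgroup.normalizer ((P : Subgroup G) : Set G)) = e
  X : Finset (IrrCharacter G)
  Y : Finset (IrrCharacter G)
  y : IrrCharacter G
  y_mem : y ∈ Y
  s : IrrCharacter G → ℤ
  ε : ℤ
  card_X : X.card + 1 = e
  card_Y : Y.card * e = p - 1
  disj : Disjoint X Y
  triv_X : trivialIrr G ∉ X
  triv_Y : trivialIrr G ∉ Y
  s_sign : ∀ χ ∈ X, s χ = 1 ∨ s χ = -1
  ε_sign : ε = 1 ∨ ε = -1
  deg_X : ∀ χ ∈ X, (p : ℤ) ∣ (dg χ : ℤ) - s χ
  deg_Y : ∀ χ ∈ Y, (p : ℤ) ∣ (dg χ : ℤ) - ε * (e : ℤ)
  valX : ∀ χ ∈ X, ∀ u ∈ (P : Subgroup G), u ≠ 1 →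
    ∀ v ∈ Subgroup.centralizer ((P : Subgroup G) : Set G), ¬ p ∣ orderOf v →
      (χ : G → ℂ) (u * v) = (s χ : ℂ)
  rel : ∀ ψ ∈ Y, ∀ g : G, ¬ p ∣ orderOf g →
    (ε : ℂ) * (ψ : G → ℂ) g = 1 + ∑ χ ∈ X, (s χ : ℂ) * (χ : G → ℂ) g
  orth : ∀ g z : G, ¬ p ∣ orderOf g → p ∣ orderOf z →
    1 + ∑ χ ∈ X, (χ : G → ℂ) g * conj ((χ : G → ℂ) z) + ∑ χ ∈ Y, (χ : G → ℂ) g * conj ((χ : G → ℂ) z) = 0
  out : Nat.card (Subgroup.centralizer ((P : Subgroup G) : Set G)) = p → ∀ χ : IrrCharacter G,
    χ ≠ trivialIrr G → χ ∉ X → χ ∉ Y → p ∣ dg χ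

variable {G : Type u} [Group G] [Finite G] {p e : ℕ}

theorem exists_gen [Fact p.Prime] (P : Sylow p G) (hP : Nat.card P = p) :
    ∃ x ∈ (P : Subgroup G), x ≠ 1 ∧ orderOf x = p ∧ Subgroup.zpowers x = (P : Subgroup G) ∧
      Subgroup.centralizer ({x} : Set G) = Subgroup.centralizer ((P : Subgroup G) : Set G) := by
  obtain ⟨x, hx⟩ := exists_prime_orderOf_dvd_card' (G := (P : Subgroup G)) p (dvd_of_eq hP.symm)
  rw [← Subgroup.orderOf_coe] at hx
  have hz : Subgroup.zpowers (x : G) = (P : Subgroup G) :=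
    Subgroup.eq_of_le_of_card_ge (Subgroup.zpowers_le.2 x.2) (by rw [Nat.card_zpowers, hx]; exact hP.le)
  refine ⟨x, x.2, ne_one_of_orderOf hx (Fact.out : p.Prime).one_lt.ne', hx, hz, ?_⟩
  rw [← Subgroup.centralizer_closure, ← Subgroup.zpowers_eq_closure, hz]

theorem eq_out [Fact p.Prime] {M : Ideal AlgInt} (hM : IsPModular p M) (P : Sylow p G) (hP : Nat.card P = p)
    (hC : Nat.card (Subgroup.centralizer ((P : Subgroup G) : Set G)) = p) (χ : IrrCharacter G)
    (hχ : χ ∉ principalBlock M G) : p ∣ dg χ := by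
  obtain ⟨x, -, -, hx, -, hc⟩ := exists_gen P hP
  exact Cfsg.Agent.Block.SmallOrd.dvd_deg_of_notMem hM hx (hc ▸ hC) χ hχ

variable [IsSimpleGroup G]

/-- The principal block exists, for every automizer. -/
theorem exists_pblk (hna : ¬ IsMulCommutative G) [Fact p.Prime] (hodd : p ≠ 2) (P : Sylow p G)
    (hP : Nat.card P = p)
    (he : (Subgroup.centralizer ((P : Subgroup G) : Set G)).relIndex
      (Subgroup.normalizer ((P : Subgroup G) : Set G)) = e)
    (he1 : 1 < e) (hep : e ∣ p - 1) :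
    ∃ B : PBlk G p e, B.P = P ∧ (e + 1 = p → ∀ χ ∈ B.X, dg χ ≤ dg B.y) := by
  classical
  haveI := Fintype.ofFinite G
  have hp : p.Prime := Fact.out
  have hp3 : 3 ≤ p := by have := hp.two_le; omega
  obtain ⟨M, hM⟩ := exists_isPModular p hp
  by_cases hne : e = p - 1
  · subst hne
    obtain ⟨Z, s, hZc, htZ, hmem, hZ, hrel, -⟩ := OrdP.full hna hM hodd P hP he
    obtain ⟨y, hy, hmax⟩ := Finset.exists_max_image Z (fun χ => dg χ) (Finset.card_pos.1 (by omega))
    have hss : ((s y : ℤ) : ℂ) * (s y : ℂ) = 1 := by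
      rcases (hZ y hy).1 with h | h <;> rw [h] <;> norm_num
    refine ⟨{
      P := P, hP := hP, he := he, X := Z.erase y, Y := {y}, y := y, s := s, ε := -s y
      y_mem := Finset.mem_singleton_self y
      card_X := by rw [Finset.card_erase_of_mem hy]; omega
      card_Y := by simp
      disj := by simp
      triv_X := fun h => htZ (Finset.mem_of_mem_erase h)
      triv_Y := fun h => htZ (Finset.mem_singleton.1 h ▸ hy)
      s_sign := fun χ hχ => (hZ χ (Finset.mem_of_mem_erase hχ)).1
      ε_sign := by rcases (hZ y hy).1 with h | h <;> simp [h]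
      deg_X := fun χ hχ => Int.ModEq.dvd (hZ χ (Finset.mem_of_mem_erase hχ)).2.1.symm
      deg_Y := fun χ hχ => by
        rw [Finset.mem_singleton.1 hχ]
        have h1 : (p : ℤ) ∣ (dg y : ℤ) - s y := Int.ModEq.dvd (hZ y hy).2.1.symm
        have h2 : ((p - 1 : ℕ) : ℤ) = (p : ℤ) - 1 := by push_cast [Nat.cast_sub hp.one_le]; ring
        rw [h2, show (dg y : ℤ) - -s y * ((p : ℤ) - 1) = ((dg y : ℤ) - s y) + (p : ℤ) * s y by ring]
        exact dvd_add h1 (dvd_mul_right _ _)
      valX := fun χ hχ u hu hu1 v hv hvr =>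
        ((hZ χ (Finset.mem_of_mem_erase hχ)).2.2 u hu hu1 v hv hvr).1
      rel := fun ψ hψ g hg => by
        have h := hrel g hg
        rw [← Finset.add_sum_erase _ _ hy] at h
        rw [Finset.mem_singleton.1 hψ]
        push_cast
        linear_combination -h
      orth := fun g z hg hz => by
        have h0 := weak_orth hM (isPBlock_principalBlock (G := G) (M := M)) hg hz
        rw [finsum_mem_block, show (Finset.univ.filter fun ξ => ξ ∈ principalBlock M G) =
          insert (trivialIrr G) Z by ext ξ; simp [hmem], Finset.sum_insert htZ, trivial_value,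
          trivial_value, map_one, one_mul, ← Finset.sum_erase_add _ _ hy] at h0
        rw [Finset.sum_singleton, ← h0]
        ring
      out := fun hC χ h1 h2 h3 => eq_out hM P hP hC χ fun h => by
        rcases (hmem χ).1 h with h | h
        · exact h1 h
        · exact h2 (Finset.mem_erase.2 ⟨fun e => h3 (Finset.mem_singleton.2 e), h⟩) }, rfl,
      fun _ χ hχ => hmax χ (Finset.mem_of_mem_erase hχ)⟩
  · obtain ⟨X, Y, hXY, hdisj, hX, hY, s, ε, hdX, hε, hdY, -, hreg⟩ :=
      Cfsg.Agent.S4441.result p M hM hodd P hP e he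
    set τ := trivialIrr G with hτ
    have hτd : charDegree (τ : G → ℂ) = 1 := charDeg_trivial
    have hep' : e + 1 ≤ p - 1 := by
      have := Nat.le_of_dvd (by omega) hep
      omega
    have hτY : τ ∉ Y := fun h => by
      have h1 := hdY τ h
      rw [hτd, Nat.cast_one, Int.modEq_iff_dvd] at h1
      rcases hε with rfl | rfl
      · have := Int.le_of_dvd (by omega) h1; omega
      · have h2 : (p : ℤ) ∣ (e : ℤ) + 1 := by
          have := dvd_neg.2 h1
          simpa [add_comm] using this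
        have := Int.le_of_dvd (by omega) h2; omega
    have hτX : τ ∈ X := by
      have h := trivial_mem_principalBlock (G := G) hM
      rw [hXY] at h
      exact h.resolve_right hτY
    obtain ⟨hsτ, hsτd, -⟩ := hdX τ hτX
    have hsτ1 : s τ = 1 := by
      refine hsτ.resolve_right fun h => ?_
      rw [hτd, h, Nat.cast_one, Int.modEq_iff_dvd] at hsτd
      have := Int.le_of_dvd (by omega) (dvd_neg.2 hsτd)
      omega
    have hYc : Y.toFinset.card = (p - 1) / e := by
      rw [← hY, Nat.card_coe_set_eq, Set.ncard_eq_toFinset_card' Y]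
    have hYe : (p - 1) / e * e = p - 1 := Nat.div_mul_cancel hep
    obtain ⟨y, hy⟩ := Finset.card_pos.1 (show 0 < Y.toFinset.card by
      rcases Nat.eq_zero_or_pos Y.toFinset.card with h | h
      · rw [← hYc, h] at hYe; omega
      · exact h)
    refine ⟨{
      P := P, hP := hP, he := he, X := X.toFinset.erase τ, Y := Y.toFinset, y := y, y_mem := hy
      s := s, ε := ε
      card_X := by
        rw [Finset.card_erase_of_mem (Set.mem_toFinset.2 hτX), ← Set.ncard_eq_toFinset_card',
          ← Nat.card_coe_set_eq, hX]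
        omega
      card_Y := by rw [hYc]; exact hYe
      disj := Finset.disjoint_of_subset_left (Finset.erase_subset _ _) (Set.disjoint_toFinset.2 hdisj)
      triv_X := Finset.notMem_erase _ _
      triv_Y := fun h => hτY (Set.mem_toFinset.1 h)
      s_sign := fun χ hχ => (hdX χ (Set.mem_toFinset.1 (Finset.mem_of_mem_erase hχ))).1
      ε_sign := hε
      deg_X := fun χ hχ =>
        Int.ModEq.dvd (hdX χ (Set.mem_toFinset.1 (Finset.mem_of_mem_erase hχ))).2.1.symm
      deg_Y := fun χ hχ => Int.ModEq.dvd (hdY χ (Set.mem_toFinset.1 hχ)).symm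
      valX := fun χ hχ u hu hu1 v hv hvr =>
        (hdX χ (Set.mem_toFinset.1 (Finset.mem_of_mem_erase hχ))).2.2 u hu hu1 v hv hvr
      rel := fun ψ hψ g hg => by
        have h := hreg ψ (Set.mem_toFinset.1 hψ) g hg
        rw [finsum_mem_eq_toFinset_sum, ← Finset.add_sum_erase _ _ (Set.mem_toFinset.2 hτX), hsτ1] at h
        rw [h]
        simp [hτ, trivialIrr]
      orth := fun g z hg hz => by
        have h0 := weak_orth hM (isPBlock_principalBlock (G := G) (M := M)) hg hz
        rw [finsum_mem_block, show (Finset.univ.filter fun ξ => ξ ∈ principalBlock M G) =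
          X.toFinset ∪ Y.toFinset by ext ξ; simp [hXY],
          Finset.sum_union (Set.disjoint_toFinset.2 hdisj),
          ← Finset.add_sum_erase _ _ (Set.mem_toFinset.2 hτX), hτ, trivial_value, trivial_value,
          map_one, one_mul] at h0
        exact h0
      out := fun hC χ h1 h2 h3 => eq_out hM P hP hC χ fun h => by
        rw [hXY] at h
        rcases h with h | h
        · exact h2 (Finset.mem_erase.2 ⟨h1, Set.mem_toFinset.2 h⟩)
        · exact h3 (Set.mem_toFinset.2 h) }, rfl, fun h => absurd h (by omega)⟩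

namespace PBlk

variable [Fact p.Prime] (B : PBlk G p e)

/-- The centralizer of the Sylow subgroup. -/
abbrev C : Subgroup G := Subgroup.centralizer ((B.P : Subgroup G) : Set G)

theorem εε : B.ε * B.ε = 1 := by rcases B.ε_sign with h | h <;> rw [h] <;> norm_num

theorem deg_rel : B.ε * (dg B.y : ℤ) = 1 + ∑ χ ∈ B.X, B.s χ * (dg χ : ℤ) := by
  apply Int.cast_injective (α := ℂ)
  have h := B.rel B.y B.y_mem 1 (by rw [orderOf_one]; exact (Fact.out : p.Prime).not_dvd_one)
  simp only [value_one] at h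
  push_cast
  exact h

theorem eq_y {ψ : IrrCharacter G} (hψ : ψ ∈ B.Y) {g : G} (hg : ¬ p ∣ orderOf g) :
    (ψ : G → ℂ) g = (B.y : G → ℂ) g := by
  refine mul_left_cancel₀ ?_ ((B.rel ψ hψ g hg).trans (B.rel B.y B.y_mem g hg).symm)
  rcases B.ε_sign with h | h <;> rw [h] <;> norm_num

theorem dg_Y {ψ : IrrCharacter G} (hψ : ψ ∈ B.Y) : dg ψ = dg B.y := by
  apply Nat.cast_injective (R := ℂ)
  rw [← value_one, ← value_one]
  exact B.eq_y hψ (by rw [orderOf_one]; exact (Fact.out : p.Prime).not_dvd_one)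

include B in
theorem comm {u v : G} (hu : u ∈ (B.P : Subgroup G)) (hv : v ∈ B.C) : Commute u v :=
  Subgroup.mem_centralizer_iff.1 hv u hu

include B in
theorem pow_p {u : G} (hu : u ∈ (B.P : Subgroup G)) : u ^ p = 1 := by
  have := pow_card_eq_one' (x := (⟨u, hu⟩ : (B.P : Subgroup G)))
  rw [show Nat.card (B.P : Subgroup G) = p from B.hP] at this
  exact congrArg Subtype.val this

include B in
theorem orderOf_u {u : G} (hu : u ∈ (B.P : Subgroup G)) (h1 : u ≠ 1) : orderOf u = p :=
  orderOf_eq_prime (B.pow_p hu) h1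

include B in
theorem orderOf_uv {u v : G} (hu : u ∈ (B.P : Subgroup G)) (h1 : u ≠ 1) (hv : v ∈ B.C)
    (hr : ¬ p ∣ orderOf v) : p ∣ orderOf (u * v) := by
  rw [(B.comm hu hv).orderOf_mul_eq_mul_orderOf_of_coprime
    (by rw [B.orderOf_u hu h1]; exact (Fact.out : p.Prime).coprime_iff_not_dvd.2 hr), B.orderOf_u hu h1]
  exact dvd_mul_right _ _

include B in
/-- The values of the `Y`-part at the singular elements sum to `-ε`. -/
theorem sum_Y {u v : G} (hu : u ∈ (B.P : Subgroup G)) (h1 : u ≠ 1) (hv : v ∈ B.C)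
    (hr : ¬ p ∣ orderOf v) : ∑ ψ ∈ B.Y, (ψ : G → ℂ) (u * v) = -(B.ε : ℂ) := by
  have hone : ¬ p ∣ orderOf (1 : G) := by rw [orderOf_one]; exact (Fact.out : p.Prime).not_dvd_one
  have h := B.orth 1 (u * v) hone (B.orderOf_uv hu h1 hv hr)
  rw [Finset.sum_congr rfl (g := fun χ => ((B.s χ : ℂ)) * (χ : G → ℂ) 1) fun χ hχ => by
      rw [B.valX χ hχ u hu h1 v hv hr, map_intCast, mul_comm],
    ← B.rel B.y B.y_mem 1 hone,
    Finset.sum_congr rfl (s₁ := B.Y) (g := fun ψ => (B.y : G → ℂ) 1 * conj ((ψ : G → ℂ) (u * v)))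
      fun ψ hψ => by rw [B.eq_y hψ hone], ← Finset.mul_sum, ← map_sum] at h
  have h2 : (B.y : G → ℂ) 1 * ((B.ε : ℂ) + conj (∑ ψ ∈ B.Y, (ψ : G → ℂ) (u * v))) = 0 := by
    linear_combination h
  have h3 := (mul_eq_zero.1 h2).resolve_left (irr_one_ne_zero B.y)
  have h4 := congrArg conj (eq_neg_of_add_eq_zero_right h3)
  rwa [Complex.conj_conj, map_neg, map_intCast] at h4

include B in
/-- An integral value at an element centralising the Sylow subgroup is congruent to the sign. -/
theorem congr_X {χ : IrrCharacter G} (hχ : χ ∈ B.X) {v : G} (hv : v ∈ B.C) (hr : ¬ p ∣ orderOf v)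
    {a : ℤ} (ha : (χ : G → ℂ) v = a) : (p : ℤ) ∣ a - B.s χ := by
  obtain ⟨x, hx, hx1, -⟩ := exists_gen B.P B.hP
  exact congr_int χ (B.pow_p hx) (B.comm hx hv) hr (B.valX χ hχ x hx hx1 v hv hr) ha

include B in
theorem congr_Y {v : G} (hv : v ∈ B.C) (hr : ¬ p ∣ orderOf v) {a : IrrCharacter G → ℤ}
    (ha : ∀ χ ∈ B.X, (χ : G → ℂ) v = a χ) (hy : (B.y : G → ℂ) v = a B.y) :
    (p : ℤ) ∣ a B.y - B.ε * (e : ℤ) := by
  have h := B.rel B.y B.y_mem v hr
  rw [hy, Finset.sum_congr rfl (g := fun χ => ((B.s χ * a χ : ℤ) : ℂ)) fun χ hχ => by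
    rw [ha χ hχ]; push_cast; ring] at h
  have h' : B.ε * a B.y = 1 + ∑ χ ∈ B.X, B.s χ * a χ := by
    apply Int.cast_injective (α := ℂ); push_cast at h ⊢; exact h
  have h2 : (p : ℤ) ∣ B.ε * a B.y - (e : ℤ) := by
    have he' : (e : ℤ) = 1 + ∑ _χ ∈ B.X, (1 : ℤ) := by
      have := B.card_X
      simp only [Finset.sum_const, nsmul_eq_mul, mul_one]
      omega
    rw [h', he',
      add_sub_add_left_eq_sub, ← Finset.sum_sub_distrib]
    refine Finset.dvd_sum fun χ hχ => ?_
    rcases B.s_sign χ hχ with hs | hs <;> rw [hs]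
    · simpa [hs] using B.congr_X hχ hv hr (ha χ hχ)
    · have := dvd_neg.2 (B.congr_X hχ hv hr (ha χ hχ))
      rw [hs] at this
      rw [show (-1 : ℤ) * a χ - 1 = -(a χ - -1) by ring]
      exact this
  have := h2.mul_left B.ε
  rwa [mul_sub, ← mul_assoc, B.εε, one_mul] at this

end PBlk

end Cfsg.Agent.Invol.M22Ord
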