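import Mathlib
import Cfsg.Agent.Lib.Invol.Order443520.Block

/-!
Sums over the elements with nontrivial `p`-part centralising a Sylow subgroup of prime order, and the
resulting relations between the values at two elements.
-/

set_option autoImplicit false
set_option linter.style.haveILetI false
set_option linter.unusedSectionVars false

namespace Cfsg.Agent.Invol.M22Ord

open scoped ComplexConjugate
open Cfsg Cfsg.Agent.Block Cfsg.Agent.Char Cfsg.Agent.Invol.M12Ord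

universe u

variable {G : Type u} [Group G] [Finite G] [IsSimpleGroup G] {p e : ℕ} [Fact p.Prime]

namespace PBlk

variable (B : PBlk G p e)

open Classical in
/-- The elements of order prime to `p` centralising the Sylow subgroup. -/
noncomputable def V : Finset G :=
  (Set.toFinite {v : G | v ∈ B.C ∧ ¬ p ∣ orderOf v}).toFinset

theorem mem_V {v : G} : v ∈ B.V ↔ v ∈ B.C ∧ ¬ p ∣ orderOf v := by simp [V]

open Classical in
/-- The elements of order prime to `p` times the nontrivial elements of the Sylow subgroup. -/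
noncomputable def W : Finset G :=
  (((Set.toFinite {u : G | u ∈ (B.P : Subgroup G) ∧ u ≠ 1}).toFinset) ×ˢ B.V).image fun x => x.1 * x.2

theorem mem_W {z : G} : z ∈ B.W ↔ ∃ u v : G, u ∈ (B.P : Subgroup G) ∧ u ≠ 1 ∧ v ∈ B.C ∧
    ¬ p ∣ orderOf v ∧ u * v = z := by
  simp [W, mem_V, and_assoc]

include B in
theorem card_C {c : ℕ} (hC : Nat.card B.C = p * c) (hpc : ¬ p ∣ c) {v : G} (hv : v ∈ B.C)
    (hr : ¬ p ∣ orderOf v) : v ^ c = 1 := by
  have h1 := Subgroup.orderOf_dvd_natCard _ hv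
  rw [hC] at h1
  exact orderOf_dvd_iff_pow_eq_one.1
    (((Fact.out : p.Prime).coprime_iff_not_dvd.2 hr).symm.dvd_of_dvd_mul_left h1)

include B in
theorem pow_c_inj {c : ℕ} (hpc : ¬ p ∣ c) {u u' : G} (hu : u ∈ (B.P : Subgroup G))
    (hu' : u' ∈ (B.P : Subgroup G)) (h : u ^ c = u' ^ c) : u = u' := by
  have hcop : (Nat.card (B.P : Subgroup G)).Coprime c := by
    rw [show Nat.card (B.P : Subgroup G) = p from B.hP]
    exact (Fact.out : p.Prime).coprime_iff_not_dvd.2 hpc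
  have h2 : (⟨u, hu⟩ : (B.P : Subgroup G)) ^ c = (⟨u', hu'⟩ : (B.P : Subgroup G)) ^ c := Subtype.ext h
  exact congrArg Subtype.val ((powCoprime hcop).injective h2)

include B in
theorem uv_inj {c : ℕ} (hC : Nat.card B.C = p * c) (hpc : ¬ p ∣ c) {u u' v v' : G}
    (hu : u ∈ (B.P : Subgroup G)) (hu' : u' ∈ (B.P : Subgroup G)) (hv : v ∈ B.C) (hr : ¬ p ∣ orderOf v)
    (hv' : v' ∈ B.C) (hr' : ¬ p ∣ orderOf v') (h : u * v = u' * v') : u = u' ∧ v = v' := by
  have h1 := congrArg (fun z : G => z ^ c) h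
  simp only [(B.comm hu hv).mul_pow, (B.comm hu' hv').mul_pow, B.card_C hC hpc hv hr,
    B.card_C hC hpc hv' hr', mul_one] at h1
  obtain rfl := B.pow_c_inj hpc hu hu' h1
  exact ⟨rfl, mul_left_cancel h⟩

include B in
theorem eq_uv {c : ℕ} (hC : Nat.card B.C = p * c) (hpc : ¬ p ∣ c) {z : G} (hz : z ∈ B.C) :
    ∃ u v : G, u ∈ (B.P : Subgroup G) ∧ v ∈ B.C ∧ ¬ p ∣ orderOf v ∧ u * v = z := by
  have hp : p.Prime := Fact.out
  have hPC : (B.P : Subgroup G) ≤ B.C := by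
    haveI : IsCyclic (B.P : Subgroup G) := isCyclic_of_prime_card (p := p) B.hP
    exact fun a ha => Subgroup.mem_centralizer_iff.2 fun b hb =>
      congrArg Subtype.val (mul_comm' (⟨b, hb⟩ : (B.P : Subgroup G)) ⟨a, ha⟩)
  obtain ⟨k, l, hkl⟩ : ∃ k l : ℤ, (p : ℤ) * k + (c : ℤ) * l = 1 :=
    ⟨Nat.gcdA p c, Nat.gcdB p c, by
      rw [← Nat.gcd_eq_gcd_ab, show Nat.gcd p c = 1 from hp.coprime_iff_not_dvd.2 hpc]; simp⟩
  have hzC : z ^ ((p * c : ℕ) : ℤ) = 1 := by
    rw [zpow_natCast, ← hC]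
    exact congrArg Subtype.val (pow_card_eq_one' (x := (⟨z, hz⟩ : B.C)))
  refine ⟨z ^ ((c : ℤ) * l), z ^ ((p : ℤ) * k), ?_, zpow_mem hz _, ?_, ?_⟩
  · set w := z ^ ((c : ℤ) * l) with hw
    have hwp : w ^ p = 1 := by
      rw [hw, ← zpow_natCast, ← zpow_mul, show (c : ℤ) * l * (p : ℤ) = ((p * c : ℕ) : ℤ) * l by
        push_cast; ring, zpow_mul, hzC, one_zpow]
    have hwC : w ∈ B.C := zpow_mem hz _
    have hK : IsPGroup p ↥((B.P : Subgroup G) ⊔ Subgroup.zpowers w) := by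
      refine IsPGroup.to_sup_of_normal_left' B.P.isPGroup' ?_ ?_
      · rw [IsPGroup]
        intro g
        refine ⟨1, Subtype.ext ?_⟩
        obtain ⟨i, hi⟩ := Subgroup.mem_zpowers_iff.1 g.2
        rw [pow_one, SubmonoidClass.coe_pow, ← hi, ← zpow_natCast, ← zpow_mul, mul_comm, zpow_mul,
          zpow_natCast, hwp, one_zpow]
        rfl
      · exact Subgroup.zpowers_le.2 (Subgroup.centralizer_le_normalizer _ hwC)
    have h3 := B.P.is_maximal' hK le_sup_left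
    exact h3 ▸ Subgroup.mem_sup_right (Subgroup.mem_zpowers w)
  · intro hd
    have h1 : (z ^ ((p : ℤ) * k)) ^ c = 1 := by
      rw [← zpow_natCast, ← zpow_mul, show (p : ℤ) * k * (c : ℤ) = ((p * c : ℕ) : ℤ) * k by
        push_cast; ring, zpow_mul, hzC, one_zpow]
    exact hpc (hd.trans (orderOf_dvd_iff_pow_eq_one.2 h1))
  · rw [← zpow_add, add_comm, hkl, zpow_one]

include B in
theorem card_V {c : ℕ} (hC : Nat.card B.C = p * c) (hpc : ¬ p ∣ c) : B.V.card = c := by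
  have hp : p.Prime := Fact.out
  have hPC : (B.P : Subgroup G) ≤ B.C := by
    haveI : IsCyclic (B.P : Subgroup G) := isCyclic_of_prime_card (p := p) B.hP
    exact fun a ha => Subgroup.mem_centralizer_iff.2 fun b hb =>
      congrArg Subtype.val (mul_comm' (⟨b, hb⟩ : (B.P : Subgroup G)) ⟨a, ha⟩)
  let f : Prod ↥(B.P : Subgroup G) {v : G // v ∈ B.V} → B.C := fun x =>
    ⟨x.1.1 * x.2.1, mul_mem (hPC x.1.2) (B.mem_V.1 x.2.2).1⟩
  have hf : Function.Bijective f := by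
    constructor
    · rintro ⟨⟨u, hu⟩, ⟨v, hv⟩⟩ ⟨⟨u', hu'⟩, ⟨v', hv'⟩⟩ h
      obtain ⟨h1, h2⟩ := B.uv_inj hC hpc hu hu' (B.mem_V.1 hv).1 (B.mem_V.1 hv).2 (B.mem_V.1 hv').1
        (B.mem_V.1 hv').2 (congrArg Subtype.val h)
      subst h1 h2
      rfl
    · rintro ⟨z, hz⟩
      obtain ⟨u, v, hu, hv, hr, h⟩ := B.eq_uv hC hpc hz
      exact ⟨(⟨u, hu⟩, ⟨v, B.mem_V.2 ⟨hv, hr⟩⟩), Subtype.ext h⟩
  have h := Nat.card_congr (Equiv.ofBijective f hf)
  rw [Nat.card_prod, show Nat.card (B.P : Subgroup G) = p from B.hP, hC] at h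
  rw [Nat.card_eq_fintype_card, Fintype.card_coe] at h
  exact Nat.eq_of_mul_eq_mul_left hp.pos h

include B in
theorem card_W {c : ℕ} (hC : Nat.card B.C = p * c) (hpc : ¬ p ∣ c) : B.W.card = (p - 1) * c := by
  classical
  rw [W, Finset.card_image_of_injOn, Finset.card_product, B.card_V hC hpc]
  · congr 1
    rw [← Set.ncard_eq_toFinset_card]
    rw [show {u : G | u ∈ (B.P : Subgroup G) ∧ u ≠ 1} = ((B.P : Subgroup G) : Set G) \ {1} by
      ext; exact Iff.rfl, Set.ncard_sdiff_singleton_of_mem (one_mem (B.P : Subgroup G)),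
      ← Nat.card_coe_set_eq]
    rw [show Nat.card ((B.P : Subgroup G) : Set G) = p from B.hP]
  · intro a ha b hb h
    simp only [Finset.coe_product, Set.mem_prod, Finset.mem_coe, Set.Finite.mem_toFinset, Set.mem_ofPred_eq,
      mem_V] at ha hb
    obtain ⟨h1, h2⟩ := B.uv_inj hC hpc ha.1.1 hb.1.1 ha.2.1 ha.2.2 hb.2.1 hb.2.2 h
    exact Prod.ext h1 h2

include B in
theorem dvd_of_mem_W {z : G} (hz : z ∈ B.W) : p ∣ orderOf z := by
  obtain ⟨u, v, hu, h1, hv, hr, rfl⟩ := B.mem_W.1 hz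
  exact B.orderOf_uv hu h1 hv hr

include B in
/-- The elements carrying a member of `W` into `W` are those normalising the Sylow subgroup. -/
theorem conj_mem_W {c : ℕ} (hC : Nat.card B.C = p * c) (hpc : ¬ p ∣ c) {z : G} (hz : z ∈ B.W) (g : G) :
    g * z * g⁻¹ ∈ B.W ↔ g ∈ Subgroup.normalizer ((B.P : Subgroup G) : Set G) := by
  obtain ⟨u, v, hu, hu1, hv, hr, rfl⟩ := B.mem_W.1 hz
  constructor
  · intro h
    obtain ⟨u', v', hu', hu1', hv', hr', h'⟩ := B.mem_W.1 h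
    have h1 : g * u ^ c * g⁻¹ = u' ^ c := by
      calc g * u ^ c * g⁻¹ = g * (u * v) ^ c * g⁻¹ := by
            rw [(B.comm hu hv).mul_pow, B.card_C hC hpc hv hr, mul_one]
        _ = (g * (u * v) * g⁻¹) ^ c := (conj_pow (i := c)).symm
        _ = u' ^ c := by
            rw [← h', (B.comm hu' hv').mul_pow, B.card_C hC hpc hv' hr', mul_one]
    have huc : u ^ c ≠ 1 := fun e => hu1 (B.pow_c_inj hpc hu (one_mem _) (by rw [e, one_pow]))
    have hgen : Subgroup.zpowers (u ^ c) = (B.P : Subgroup G) :=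
      Subgroup.eq_of_le_of_card_ge (Subgroup.zpowers_le.2 (pow_mem hu c))
        (by rw [Nat.card_zpowers, B.orderOf_u (pow_mem hu c) huc]; exact B.hP.le)
    refine Subgroup.mem_normalizer_iff.2 fun w => ⟨fun hw => ?_, fun hw => ?_⟩
    · rw [← hgen] at hw
      obtain ⟨i, rfl⟩ := Subgroup.mem_zpowers_iff.1 hw
      rw [← conj_zpow, h1]
      exact zpow_mem (pow_mem hu' c) i
    · have hgen' : Subgroup.zpowers (u' ^ c) = (B.P : Subgroup G) := by
        have hne : u' ^ c ≠ 1 := fun e => hu1' (B.pow_c_inj hpc hu' (one_mem _) (by rw [e, one_pow]))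
        exact Subgroup.eq_of_le_of_card_ge (Subgroup.zpowers_le.2 (pow_mem hu' c))
          (by rw [Nat.card_zpowers, B.orderOf_u (pow_mem hu' c) hne]; exact B.hP.le)
      rw [← hgen'] at hw
      obtain ⟨i, hi⟩ := Subgroup.mem_zpowers_iff.1 hw
      rw [← h1, conj_zpow] at hi
      rw [← mul_left_cancel (mul_right_cancel hi)]
      exact zpow_mem (pow_mem hu c) i
  · intro hg
    refine B.mem_W.2 ⟨g * u * g⁻¹, g * v * g⁻¹, (Subgroup.mem_normalizer_iff.1 hg u).1 hu,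
      fun h => hu1 (conj_eq_one_iff.1 h), ?_, ?_, by group⟩
    · refine Subgroup.mem_centralizer_iff.2 fun w hw => ?_
      have hw' : g⁻¹ * w * g ∈ (B.P : Subgroup G) :=
        (Subgroup.mem_normalizer_iff.1 hg _).2 (by group; exact hw)
      have hc : (g⁻¹ * w * g) * v = v * (g⁻¹ * w * g) := Subgroup.mem_centralizer_iff.1 hv _ hw'
      calc w * (g * v * g⁻¹) = g * ((g⁻¹ * w * g) * v) * g⁻¹ := by group
        _ = g * (v * (g⁻¹ * w * g)) * g⁻¹ := by rw [hc]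
        _ = g * v * g⁻¹ * w := by group
    · have := (MulEquiv.orderOf_eq (MulAut.conj g) v).symm
      rw [MulAut.conj_apply] at this
      rwa [← this]

include B in
theorem card_N {c : ℕ} (hC : Nat.card B.C = p * c) :
    Nat.card (Subgroup.normalizer ((B.P : Subgroup G) : Set G)) = e * (p * c) := by
  have h := Subgroup.relIndex_mul_relIndex (⊥ : Subgroup G) B.C
    (Subgroup.normalizer ((B.P : Subgroup G) : Set G)) bot_le (Subgroup.centralizer_le_normalizer _)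
  rw [Subgroup.relIndex_bot_left, Subgroup.relIndex_bot_left, B.he, hC] at h
  rw [← h]; ring

/-- The sum of a character over `W`. -/
noncomputable def Wsum (χ : IrrCharacter G) : ℂ := ∑ z ∈ B.W, (χ : G → ℂ) z

theorem Wsum_X {χ : IrrCharacter G} (hχ : χ ∈ B.X) : B.Wsum χ = (B.W.card : ℂ) * (B.s χ : ℂ) := by
  rw [Wsum, Finset.sum_congr rfl (g := fun _ => (B.s χ : ℂ)) fun z hz => ?_, Finset.sum_const, nsmul_eq_mul]
  obtain ⟨u, v, hu, h1, hv, hr, rfl⟩ := B.mem_W.1 hz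
  exact B.valX χ hχ u hu h1 v hv hr

theorem Wsum_Y : ∑ ψ ∈ B.Y, B.Wsum ψ = -((B.W.card : ℂ) * (B.ε : ℂ)) := by
  simp only [Wsum]
  rw [Finset.sum_comm, Finset.sum_congr rfl (g := fun _ => -(B.ε : ℂ)) fun z hz => ?_,
    Finset.sum_const, nsmul_eq_mul, mul_neg]
  obtain ⟨u, v, hu, h1, hv, hr, rfl⟩ := B.mem_W.1 hz
  exact B.sum_Y hu h1 hv hr

theorem Wsum_one : B.Wsum (trivialIrr G) = (B.W.card : ℂ) := by
  simp [Wsum, trivial_value]

include B in
theorem sum_normSq_Wsum {c : ℕ} (hC : Nat.card B.C = p * c) (hpc : ¬ p ∣ c) :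
    ∑ χ : IrrCharacter G, Complex.normSq (B.Wsum χ) = ((B.W.card * (e * (p * c)) : ℕ) : ℝ) := by
  classical
  haveI := Fintype.ofFinite G
  apply Complex.ofReal_injective
  push_cast
  simp only [← Complex.mul_conj, Wsum, map_sum, Finset.sum_mul_sum]
  rw [Finset.sum_comm, Finset.sum_congr rfl (g := fun z => ∑ z' ∈ B.W,
    (if IsConj z z' then (cn z : ℂ) else 0)) fun z _ => ?_]
  swap
  · rw [Finset.sum_comm]
    exact Finset.sum_congr rfl fun z' _ => by
      rw [sum_irr_mul_conj]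
      split_ifs with h
      · exact congrArg Nat.cast (cn_eq_of_isConj h).symm
      · rfl
  have key : ∀ z ∈ B.W, ∑ z' ∈ B.W, (if IsConj z z' then (cn z : ℂ) else 0) = ((e * (p * c) : ℕ) : ℂ) := by
    intro z hz
    rw [← B.card_N hC, Finset.sum_congr rfl (g := fun z' => ((Nat.card {g : G // g * z * g⁻¹ = z'} : ℕ) : ℂ))
      fun z' _ => by rw [OrdP.card_fiber]; split_ifs <;> simp [cn], ← Nat.cast_sum]
    congr 1
    rw [Nat.card_eq_fintype_card (α := Subgroup.normalizer ((B.P : Subgroup G) : Set G))]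
    simp only [Nat.card_eq_fintype_card, Fintype.card_subtype]
    rw [← Finset.card_biUnion]
    · congr 1
      ext g
      simp only [Finset.mem_biUnion, Finset.mem_filter, Finset.mem_univ, true_and, exists_eq_right']
      exact B.conj_mem_W hC hpc hz g
    · intro a _ b _ hab
      simp only [Function.onFun, Finset.disjoint_left, Finset.mem_filter, Finset.mem_univ, true_and]
      exact fun g h1 h2 => hab (h1.symm.trans h2)
  rw [Finset.sum_congr rfl key, Finset.sum_const, nsmul_eq_mul]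
  push_cast
  ring

/-- Outside the principal block the sums over `W` vanish. -/
theorem Wsum_out {c : ℕ} (hC : Nat.card B.C = p * c) (hpc : ¬ p ∣ c) {χ : IrrCharacter G}
    (h0 : χ ≠ trivialIrr G) (hX : χ ∉ B.X) (hY : χ ∉ B.Y) : B.Wsum χ = 0 := by
  classical
  have hp : p.Prime := Fact.out
  set w : ℝ := (B.W.card : ℝ) with hw
  set S := insert (trivialIrr G) (B.X ∪ B.Y) with hS
  have hall := B.sum_normSq_Wsum hC hpc
  rw [← Finset.sum_sdiff (Finset.subset_univ S)] at hall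
  have hXsum : ∑ ψ ∈ B.X, Complex.normSq (B.Wsum ψ) = (B.X.card : ℝ) * w ^ 2 := by
    rw [Finset.sum_congr rfl (g := fun _ => w ^ 2) fun ψ hψ => ?_, Finset.sum_const, nsmul_eq_mul]
    rw [B.Wsum_X hψ, Complex.normSq_mul, Complex.normSq_natCast, Complex.normSq_intCast]
    rcases B.s_sign ψ hψ with h | h <;> rw [h] <;> push_cast <;> ring
  have hYsum : w ^ 2 ≤ (B.Y.card : ℝ) * ∑ ψ ∈ B.Y, Complex.normSq (B.Wsum ψ) := by
    have h1 : ‖∑ ψ ∈ B.Y, B.Wsum ψ‖ ≤ ∑ ψ ∈ B.Y, ‖B.Wsum ψ‖ := norm_sum_le _ _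
    rw [B.Wsum_Y, norm_neg, norm_mul, Complex.norm_natCast, Complex.norm_intCast,
      show |((B.ε : ℤ) : ℝ)| = 1 by rcases B.ε_sign with h | h <;> rw [h] <;> simp, mul_one] at h1
    simp only [Complex.normSq_eq_norm_sq]
    calc w ^ 2 ≤ (∑ ψ ∈ B.Y, ‖B.Wsum ψ‖) ^ 2 := pow_le_pow_left₀ (Nat.cast_nonneg _) h1 2
      _ ≤ _ := sq_sum_le_card_mul_sum_sq
  have hSsum : ∑ ψ ∈ S, Complex.normSq (B.Wsum ψ) =
      w ^ 2 + ∑ ψ ∈ B.X, Complex.normSq (B.Wsum ψ) + ∑ ψ ∈ B.Y, Complex.normSq (B.Wsum ψ) := by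
    rw [hS, Finset.sum_insert (by simp [B.triv_X, B.triv_Y]), Finset.sum_union B.disj, B.Wsum_one,
      Complex.normSq_natCast, hw]
    ring
  rw [hSsum, hXsum, B.card_W hC hpc] at hall
  push_cast at hall
  have hXc : (B.X.card : ℝ) + 1 = (e : ℝ) := by exact_mod_cast B.card_X
  have hYc : (B.Y.card : ℝ) * (e : ℝ) = ((p - 1 : ℕ) : ℝ) := by exact_mod_cast B.card_Y
  have hp1 : ((p - 1 : ℕ) : ℝ) + 1 = (p : ℝ) := by rw [Nat.cast_sub hp.one_le]; simp
  have hw' : w = ((p - 1 : ℕ) : ℝ) * (c : ℝ) := by rw [hw, B.card_W hC hpc]; push_cast; ring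
  rw [← hw'] at hall
  have hYpos : 0 < (B.Y.card : ℝ) := by exact_mod_cast Finset.card_pos.2 ⟨B.y, B.y_mem⟩
  have hepos : (0 : ℝ) ≤ e := Nat.cast_nonneg _
  have hlow : (B.Y.card : ℝ) * (w * ((e : ℝ) * ((p : ℝ) * c))) ≤
      (B.Y.card : ℝ) * (w ^ 2 + (B.X.card : ℝ) * w ^ 2 + ∑ ψ ∈ B.Y, Complex.normSq (B.Wsum ψ)) := by
    have e1 : (B.Y.card : ℝ) * (w * ((e : ℝ) * ((p : ℝ) * c))) =
        (B.Y.card : ℝ) * (e : ℝ) * w ^ 2 + w ^ 2 := by
      calc (B.Y.card : ℝ) * (w * ((e : ℝ) * ((p : ℝ) * c)))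
          = w * (p : ℝ) * (((B.Y.card : ℝ) * e) * c) := by ring
        _ = (B.Y.card : ℝ) * (e : ℝ) * w ^ 2 + w ^ 2 := by rw [hYc, ← hw', ← hp1]; ring
    rw [e1, ← hXc]
    nlinarith
  have h2 := le_of_mul_le_mul_left hlow hYpos
  have hnn := Finset.sum_nonneg fun ψ (_ : ψ ∈ Finset.univ \ S) => Complex.normSq_nonneg (B.Wsum ψ)
  have hzero : ∑ ψ ∈ Finset.univ \ S, Complex.normSq (B.Wsum ψ) = 0 := by linarith
  exact Complex.normSq_eq_zero.1 ((Finset.sum_eq_zero_iff_of_nonneg fun ψ _ => Complex.normSq_nonneg _).1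
    hzero χ (Finset.mem_sdiff.2 ⟨Finset.mem_univ _, by simp [hS, h0, hX, hY]⟩))

end PBlk

end Cfsg.Agent.Invol.M22Ord
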