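import Mathlib
import Cfsg.Agent.Lib.Invol.Order443520.Singular

/-!
Counts of products of two conjugates landing among the singular elements centralising a Sylow subgroup of
prime order, written in the values of the characters in the principal block.
-/

set_option autoImplicit false
set_option linter.style.haveILetI false
set_option linter.unusedSectionVars false

namespace Cfsg.Agent.Invol.M22Ord

open scoped ComplexConjugate
open Cfsg Cfsg.Agent.Block Cfsg.Agent.Char Cfsg.Agent.Invol.M12Ord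

universe u

/-- Numerator and denominator of one plus the sum of the fractions in a list of pairs. -/
def qfold : List (ℤ × ℤ) → ℤ × ℤ
  | [] => (1, 1)
  | (d, k) :: l => ((qfold l).1 * d + k * (qfold l).2, (qfold l).2 * d)

theorem qfold_spec : ∀ l : List (ℤ × ℤ), (∀ x ∈ l, 0 < x.1) →
    0 < (qfold l).2 ∧
      ((qfold l).1 : ℂ) = ((qfold l).2 : ℂ) * (1 + (l.map fun x => (x.2 : ℂ) / (x.1 : ℂ)).sum)
  | [], _ => ⟨one_pos, by simp [qfold]⟩
  | (d, k) :: l, h => by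
    obtain ⟨h1, h2⟩ := qfold_spec l fun x hx => h x (List.mem_cons_of_mem _ hx)
    have hd : (0 : ℤ) < d := h (d, k) List.mem_cons_self
    have hd' : (d : ℂ) ≠ 0 := Int.cast_ne_zero.2 hd.ne'
    refine ⟨mul_pos h1 hd, ?_⟩
    simp only [qfold, List.map_cons, List.sum_cons]
    push_cast
    rw [h2]
    field_simp
    ring

variable {G : Type u} [Group G] [Finite G] [IsSimpleGroup G] {p e : ℕ} [Fact p.Prime]

namespace PBlk

variable (B : PBlk G p e)

/-- One plus the signed sum of the products of two columns over the degrees in the block. -/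
noncomputable def Q (a b : IrrCharacter G → ℤ) : ℂ :=
  1 + ∑ χ ∈ B.X, ((B.s χ * (a χ * b χ) : ℤ) : ℂ) / (dg χ : ℂ) -
    ((B.ε * (a B.y * b B.y) : ℤ) : ℂ) / (dg B.y : ℂ)

theorem Q_eq_qfold (a b : IrrCharacter G → ℤ) (l : List (ℤ × ℤ))
    (hl : (l : Multiset (ℤ × ℤ)) = ((dg B.y : ℤ), -(B.ε * (a B.y * b B.y))) ::ₘ
      B.X.val.map fun χ => ((dg χ : ℤ), B.s χ * (a χ * b χ))) :
    0 < (qfold l).2 ∧ ((qfold l).1 : ℂ) = ((qfold l).2 : ℂ) * B.Q a b := by
  have hpos : ∀ x ∈ l, 0 < x.1 := by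
    intro x hx
    have hx' : x ∈ (l : Multiset (ℤ × ℤ)) := hx
    rw [hl, Multiset.mem_cons, Multiset.mem_map] at hx'
    rcases hx' with rfl | ⟨χ, -, rfl⟩ <;> exact Int.natCast_pos.2 (charDeg_pos _)
  obtain ⟨h1, h2⟩ := qfold_spec l hpos
  refine ⟨h1, h2.trans ?_⟩
  congr 1
  have h3 : ((l : Multiset (ℤ × ℤ)).map fun x => (x.2 : ℂ) / (x.1 : ℂ)).sum =
      (l.map fun x => (x.2 : ℂ) / (x.1 : ℂ)).sum := by simp
  rw [← h3, hl, Multiset.map_cons, Multiset.sum_cons, Multiset.map_map, Q]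
  show 1 + (_ + ∑ χ ∈ B.X, _) = _
  push_cast
  simp only [Function.comp_apply, Int.cast_mul, Int.cast_natCast, neg_div]
  ring

variable {x y : G} {a b : IrrCharacter G → ℤ}

/-- The sum over `W` of the class multiplication sums. -/
theorem W_sum (hx : ¬ p ∣ orderOf x) (hy : ¬ p ∣ orderOf y)
    (ha : ∀ χ : IrrCharacter G, (χ : G → ℂ) x = a χ) (hb : ∀ χ : IrrCharacter G, (χ : G → ℂ) y = b χ)
    {c : ℕ} (hC : Nat.card B.C = p * c) (hpc : ¬ p ∣ c) :
    ∑ χ : IrrCharacter G, ((a χ * b χ : ℤ) : ℂ) * B.Wsum χ / (dg χ : ℂ) = (B.W.card : ℂ) * B.Q a b := by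
  classical
  have h1 : a (trivialIrr G) = 1 := Int.cast_injective (α := ℂ) (by rw [← ha, Int.cast_one]; rfl)
  have h2 : b (trivialIrr G) = 1 := Int.cast_injective (α := ℂ) (by rw [← hb, Int.cast_one]; rfl)
  rw [← Finset.sum_sdiff (Finset.subset_univ (insert (trivialIrr G) (B.X ∪ B.Y))),
    Finset.sum_eq_zero (fun χ hχ => by
      simp only [Finset.mem_sdiff, Finset.mem_univ, true_and, Finset.mem_insert, Finset.mem_union, not_or] at hχ
      rw [B.Wsum_out hC hpc hχ.1 hχ.2.1 hχ.2.2, mul_zero, zero_div]), zero_add,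
    Finset.sum_insert (by simp [B.triv_X, B.triv_Y]), Finset.sum_union B.disj, B.Wsum_one, h1, h2, dg_trivial,
    Finset.sum_congr rfl (s₁ := B.X) (g := fun χ => (B.W.card : ℂ) *
      (((B.s χ * (a χ * b χ) : ℤ) : ℂ) / (dg χ : ℂ))) fun χ hχ => by
        rw [B.Wsum_X hχ]; push_cast; ring,
    Finset.sum_congr rfl (s₁ := B.Y) (g := fun ψ =>
      ((a B.y * b B.y : ℤ) : ℂ) / (dg B.y : ℂ) * B.Wsum ψ) fun ψ hψ => by
        have e1 : a ψ = a B.y := Int.cast_injective (α := ℂ) (by rw [← ha, ← ha]; exact B.eq_y hψ hx)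
        have e2 : b ψ = b B.y := Int.cast_injective (α := ℂ) (by rw [← hb, ← hb]; exact B.eq_y hψ hy)
        rw [e1, e2, B.dg_Y hψ]; ring,
    ← Finset.mul_sum, ← Finset.mul_sum, B.Wsum_Y, Q]
  push_cast
  ring

/-- The count of the products of conjugates of `x` and `y` falling in `W`. -/
theorem count (hx : ¬ p ∣ orderOf x) (hy : ¬ p ∣ orderOf y)
    (ha : ∀ χ : IrrCharacter G, (χ : G → ℂ) x = a χ) (hb : ∀ χ : IrrCharacter G, (χ : G → ℂ) y = b χ)
    {c : ℕ} (hC : Nat.card B.C = p * c) (hpc : ¬ p ∣ c) :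
    ∃ K : ℕ, (Nat.card G : ℂ) * (B.W.card : ℂ) * B.Q a b = (K : ℂ) * (cn x : ℂ) * (cn y : ℂ) := by
  classical
  refine ⟨∑ z ∈ B.W, {y' : G | IsConj y⁻¹ y' ∧ IsConj (z * y') x}.ncard, ?_⟩
  have hci : cn y⁻¹ = cn y := by
    show Nat.card _ = Nat.card _
    congr 2
    congr 1
    ext g
    simp only [Subgroup.mem_centralizer_singleton_iff]
    exact Commute.inv_right_iff (a := g) (b := y)
  rw [mul_assoc, ← B.W_sum hx hy ha hb hC hpc, Nat.cast_sum, Finset.sum_mul, Finset.sum_mul,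
    ← Finset.sum_congr rfl (fun z _ => (triple z y⁻¹ x).trans (by rw [hci]; ring)), ← Finset.mul_sum,
    Finset.sum_comm]
  congr 1
  refine Finset.sum_congr rfl fun χ _ => ?_
  rw [Wsum, Finset.mul_sum, Finset.sum_div]
  refine Finset.sum_congr rfl fun z _ => ?_
  rw [irr_apply_inv, hb, ha, map_intCast, map_intCast, value_one]
  push_cast
  ring

include B in
theorem even_of_inverts {g u : G} (hu : u ∈ (B.P : Subgroup G)) (hu1 : u ≠ 1) (hp2 : p ≠ 2)
    (h : g * u * g⁻¹ = u⁻¹) : 2 ∣ e := by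
  have hp : p.Prime := Fact.out
  set N := Subgroup.normalizer ((B.P : Subgroup G) : Set G)
  have hz : Subgroup.zpowers u = (B.P : Subgroup G) :=
    Subgroup.eq_of_le_of_card_ge (Subgroup.zpowers_le.2 hu)
      (by rw [Nat.card_zpowers, B.orderOf_u hu hu1]; exact B.hP.le)
  have hgN : g ∈ N := by
    refine Subgroup.mem_normalizer_iff.2 fun w => ⟨fun hw => ?_, fun hw => ?_⟩
    · rw [← hz] at hw
      obtain ⟨i, rfl⟩ := Subgroup.mem_zpowers_iff.1 hw
      rw [← conj_zpow, h]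
      exact zpow_mem (inv_mem hu) i
    · rw [← hz] at hw
      obtain ⟨i, hi⟩ := Subgroup.mem_zpowers_iff.1 hw
      have hi' : g * (u⁻¹) ^ i * g⁻¹ = u ^ i := by
        rw [← conj_zpow, ← inv_inv (g * u⁻¹ * g⁻¹)]
        rw [show (g * u⁻¹ * g⁻¹)⁻¹ = g * u * g⁻¹ by group, h, inv_inv]
      rw [← hi', mul_right_cancel_iff, mul_left_cancel_iff] at hi
      rw [← hi]
      exact zpow_mem (inv_mem hu) i
  haveI : (B.C.subgroupOf N).Normal := Subgroup.normal_subgroupOf_of_le_normalizer fun a ha => by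
    refine Subgroup.mem_normalizer_iff.2 fun v => ⟨fun hv => ?_, fun hv => ?_⟩
    · refine Subgroup.mem_centralizer_iff.2 fun w hw => ?_
      have hw' : a⁻¹ * w * a ∈ (B.P : Subgroup G) :=
        (Subgroup.mem_normalizer_iff.1 ha _).2 (by group; exact hw)
      have hc : (a⁻¹ * w * a) * v = v * (a⁻¹ * w * a) := Subgroup.mem_centralizer_iff.1 hv _ hw'
      calc w * (a * v * a⁻¹) = a * ((a⁻¹ * w * a) * v) * a⁻¹ := by group
        _ = a * (v * (a⁻¹ * w * a)) * a⁻¹ := by rw [hc]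
        _ = a * v * a⁻¹ * w := by group
    · refine Subgroup.mem_centralizer_iff.2 fun w hw => ?_
      have hw' : a * w * a⁻¹ ∈ (B.P : Subgroup G) := (Subgroup.mem_normalizer_iff.1 ha _).1 hw
      have hc : (a * w * a⁻¹) * (a * v * a⁻¹) = (a * v * a⁻¹) * (a * w * a⁻¹) :=
        Subgroup.mem_centralizer_iff.1 hv _ hw'
      calc w * v = a⁻¹ * ((a * w * a⁻¹) * (a * v * a⁻¹)) * a := by group
        _ = a⁻¹ * ((a * v * a⁻¹) * (a * w * a⁻¹)) * a := by rw [hc]
        _ = v * w := by group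
  let q : N ⧸ B.C.subgroupOf N := QuotientGroup.mk ⟨g, hgN⟩
  have hq2 : q ^ 2 = 1 := by
    rw [← QuotientGroup.mk_pow, QuotientGroup.eq_one_iff, Subgroup.mem_subgroupOf]
    show g ^ 2 ∈ B.C
    refine Subgroup.mem_centralizer_iff.2 fun w hw => ?_
    have hw2 : g ^ 2 * u * (g ^ 2)⁻¹ = u := by
      rw [show g ^ 2 * u * (g ^ 2)⁻¹ = g * (g * u * g⁻¹) * g⁻¹ by rw [sq]; group, h,
        ← inv_inv (g * u⁻¹ * g⁻¹), show (g * u⁻¹ * g⁻¹)⁻¹ = g * u * g⁻¹ by group, h, inv_inv]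
    have hcu : Commute (g ^ 2) u := by
      calc g ^ 2 * u = (g ^ 2 * u * (g ^ 2)⁻¹) * g ^ 2 := by group
        _ = u * g ^ 2 := by rw [hw2]
    obtain ⟨i, rfl⟩ := Subgroup.mem_zpowers_iff.1 (hz ▸ hw)
    exact (hcu.zpow_right i).eq.symm
  have hq1 : q ≠ 1 := fun e0 => by
    rw [QuotientGroup.eq_one_iff, Subgroup.mem_subgroupOf] at e0
    have hc : u * g = g * u := Subgroup.mem_centralizer_iff.1 e0 u hu
    rw [← hc, mul_inv_cancel_right] at h
    have h2 : u ^ 2 = 1 := by rw [sq]; nth_rewrite 2 [h]; exact mul_inv_cancel u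
    have := orderOf_dvd_of_pow_eq_one h2
    rw [B.orderOf_u hu hu1] at this
    exact hp2 ((Nat.prime_dvd_prime_iff_eq hp Nat.prime_two).1 this)
  rw [← B.he]
  exact (orderOf_eq_prime hq2 hq1) ▸ orderOf_dvd_natCard q

/-- With an automizer of odd order, no product of two involutions lies in `W`. -/
theorem Q_zero (hp2 : p ≠ 2) (he : ¬ 2 ∣ e) (hx : orderOf x = 2) (hy : orderOf y = 2)
    (ha : ∀ χ : IrrCharacter G, (χ : G → ℂ) x = a χ) (hb : ∀ χ : IrrCharacter G, (χ : G → ℂ) y = b χ)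
    {c : ℕ} (hC : Nat.card B.C = p * c) (hpc : ¬ p ∣ c) : B.Q a b = 0 := by
  classical
  have hp : p.Prime := Fact.out
  have h2 : ∀ {t : G}, orderOf t = 2 → ¬ p ∣ orderOf t := fun ht h =>
    hp2 ((Nat.prime_dvd_prime_iff_eq hp Nat.prime_two).1 (ht ▸ h))
  have hzero : ∀ z ∈ B.W, {y' : G | IsConj y y' ∧ IsConj (x * y') z}.ncard = 0 := by
    intro z hz
    rw [Set.ncard_eq_zero (Set.toFinite _), Set.eq_empty_iff_forall_notMem]
    rintro y' ⟨hyy, hzz⟩
    obtain ⟨k, hk⟩ := isConj_iff.1 hzz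
    have hy' : y' * y' = 1 := by
      obtain ⟨l, rfl⟩ := isConj_iff.1 hyy
      rw [show l * y * l⁻¹ * (l * y * l⁻¹) = l * (y * y) * l⁻¹ by group, ← sq, ← hy, pow_orderOf_eq_one]
      group
    have hxx : x * x = 1 := by rw [← sq, ← hx, pow_orderOf_eq_one]
    set g := k * x * k⁻¹ with hg
    have hinv : g * z * g⁻¹ = z⁻¹ := by
      have hyi : y'⁻¹ = y' := inv_eq_of_mul_eq_one_right hy'
      have hxi : x⁻¹ = x := inv_eq_of_mul_eq_one_right hxx
      rw [hg, ← hk, show (k * (x * y') * k⁻¹)⁻¹ = k * (y'⁻¹ * x⁻¹) * k⁻¹ by group, hyi, hxi]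
      calc k * x * k⁻¹ * (k * (x * y') * k⁻¹) * (k * x * k⁻¹)⁻¹ = k * (x * x * y' * x⁻¹) * k⁻¹ := by group
        _ = k * (y' * x) * k⁻¹ := by rw [hxx, hxi, one_mul]
    obtain ⟨u, v, hu, hu1, hv, hr, huv⟩ := B.mem_W.1 hz
    have hcu : g * u ^ c * g⁻¹ = (u ^ c)⁻¹ := by
      have e1 : z ^ c = u ^ c := by
        rw [← huv, (B.comm hu hv).mul_pow, B.card_C hC hpc hv hr, mul_one]
      rw [← e1, ← conj_pow, hinv, inv_pow]
    exact he (B.even_of_inverts (pow_mem hu c)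
      (fun e0 => hu1 (B.pow_c_inj hpc hu (one_mem _) (by rw [e0, one_pow]))) hp2 hcu)
  have h := B.W_sum (h2 hx) (h2 hy) ha hb hC hpc
  have hsum : (Nat.card G : ℂ) * conj (∑ χ : IrrCharacter G, ((a χ * b χ : ℤ) : ℂ) * B.Wsum χ / (dg χ : ℂ)) = 0 := by
    rw [map_sum, Finset.mul_sum, Finset.sum_congr rfl (g := fun χ : IrrCharacter G => ∑ z ∈ B.W,
      (Nat.card G : ℂ) * ((χ : G → ℂ) x * (χ : G → ℂ) y * conj ((χ : G → ℂ) z) / (χ : G → ℂ) 1))
      fun χ _ => ?_, Finset.sum_comm, Finset.sum_eq_zero fun z hz => ?_]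
    · rw [← Finset.mul_sum, triple, hzero z hz]; simp
    · simp only [Wsum, map_div₀, map_mul, map_sum, map_intCast, map_natCast, Finset.mul_sum, Finset.sum_div]
      refine Finset.sum_congr rfl fun z _ => ?_
      rw [ha, hb, value_one]
      push_cast
      ring
  rw [h] at hsum
  simp only [map_mul, map_natCast, mul_eq_zero, Nat.cast_eq_zero, map_eq_zero] at hsum
  rcases hsum with h0 | h0 | h0
  · exact absurd h0 Nat.card_pos.ne'
  · exfalso
    rw [B.card_W hC hpc, mul_eq_zero] at h0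
    rcases h0 with h0 | h0
    · have := hp.two_le; omega
    · exact hpc (h0 ▸ dvd_zero p)
  · exact h0

end PBlk

end Cfsg.Agent.Invol.M22Ord
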