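import Mathlib

/-!
Bounded enumeration of multisets and of assignments of values.
-/

set_option autoImplicit false

namespace Cfsg.Agent.Invol.M22Ord

variable {α β γ : Type*}

/-- One layer of the enumeration of multisets: `r` continues below each first element. -/
def msetsStep (w : α → ℕ) (r : List α → ℕ → List α → List (List α) → List (List α)) :
    List α → ℕ → List α → List (List α) → List (List α)
  | [], _, _, out => out
  | x :: xs, B, acc, out =>
      msetsStep w r xs B acc (bif Nat.ble (w x) B then r (x :: xs) (B - w x) (x :: acc) out else out)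

/-- The multisets of a given size drawn from a list, with total weight at most a bound, added to `acc` and
put before `out`. -/
def msetsAux (w : α → ℕ) : ℕ → List α → ℕ → List α → List (List α) → List (List α)
  | 0 => fun _ _ acc out => acc :: out
  | k + 1 => msetsStep w (msetsAux w k)

/-- The multisets of a given size drawn from a list, with total weight at most a bound. -/
def msets (w : α → ℕ) (K : List α) (k B : ℕ) : List (List α) := msetsAux w k K B [] []

theorem msetsStep_mono (w : α → ℕ) {r : List α → ℕ → List α → List (List α) → List (List α)}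
    (hr : ∀ K B acc out, ∀ l ∈ out, l ∈ r K B acc out) :
    ∀ K B acc out, ∀ l ∈ out, l ∈ msetsStep w r K B acc out := by
  intro K
  induction K with
  | nil => intro B acc out l hl; exact hl
  | cons x xs ih =>
    intro B acc out l hl
    refine ih B acc _ l ?_
    cases Nat.ble (w x) B
    · exact hl
    · exact hr _ _ _ _ l hl

theorem msetsAux_mono (w : α → ℕ) : ∀ (k : ℕ) K B acc out, ∀ l ∈ out, l ∈ msetsAux w k K B acc out := by
  intro k
  induction k with
  | zero => intro K B acc out l hl; exact List.mem_cons_of_mem _ hl
  | succ k ih => exact msetsStep_mono w ih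

theorem mem_msetsAux [DecidableEq α] (w : α → ℕ) : ∀ (k : ℕ) (K : List α) (B : ℕ) (acc : List α)
    (out : List (List α)) (m : Multiset α), Multiset.card m = k → (∀ x ∈ m, x ∈ K) → (m.map w).sum ≤ B →
      ∃ l ∈ msetsAux w k K B acc out, (l : Multiset α) = m + (acc : Multiset α) := by
  intro k
  induction k with
  | zero =>
    intro K B acc out m hc _ _
    obtain rfl := Multiset.card_eq_zero.1 hc
    exact ⟨acc, List.mem_cons_self, by simp⟩
  | succ k ih =>
    intro K
    induction K with
    | nil =>
      intro B acc out m hc hK _
      obtain ⟨x, hx⟩ := Multiset.exists_mem_of_ne_zero (fun h : m = 0 => by simp [h] at hc)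
      exact absurd (hK x hx) (List.not_mem_nil)
    | cons x xs ihK =>
      intro B acc out m hc hK hB
      show ∃ l ∈ msetsStep w (msetsAux w k) xs B acc _, _
      by_cases hx : x ∈ m
      · obtain ⟨m', rfl⟩ := Multiset.exists_cons_of_mem hx
        simp only [Multiset.map_cons, Multiset.sum_cons] at hB
        have hb : Nat.ble (w x) B = true := by simp only [Nat.ble_eq]; omega
        obtain ⟨l, hl, hlm⟩ := ih (x :: xs) (B - w x) (x :: acc) out m' (by simpa using hc)
          (fun y hy => hK y (Multiset.mem_cons_of_mem hy)) (by omega)
        refine ⟨l, msetsStep_mono w (msetsAux_mono w k) _ _ _ _ l (by rw [hb]; exact hl), ?_⟩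
        rw [hlm, ← Multiset.cons_coe, Multiset.add_cons, Multiset.cons_add]
      · exact ihK B acc _ m hc (fun y hy =>
          (List.mem_cons.1 (hK y hy)).resolve_left fun e => hx (e ▸ hy)) hB

theorem exists_msets [DecidableEq α] (w : α → ℕ) (K : List α) (m : Multiset α) (B : ℕ)
    (hK : ∀ x ∈ m, x ∈ K) (hB : (m.map w).sum ≤ B) :
    ∃ l ∈ msets w K (Multiset.card m) B, (l : Multiset α) = m := by
  obtain ⟨l, hl, h⟩ := mem_msetsAux w _ K B [] [] m rfl hK hB
  exact ⟨l, hl, by simpa using h⟩

/-- The ways to attach a value from each list, with total weight at most a bound. -/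
def assigns (w : β → ℕ) : List (α × List β) → ℕ → List (List (α × β))
  | [], _ => [[]]
  | (x, L) :: xs, B => L.flatMap fun b =>
      if w b ≤ B then (assigns w xs (B - w b)).map ((x, b) :: ·) else []

theorem mem_assigns (w : β → ℕ) (cand : α → List β) : ∀ (l : List (α × β)) (B : ℕ),
    (∀ x ∈ l, x.2 ∈ cand x.1) → (l.map fun x => w x.2).sum ≤ B →
      l ∈ assigns w ((l.map Prod.fst).map fun x => (x, cand x)) B
  | [], B, _, _ => by simp [assigns]
  | (x, b) :: l, B, hc, hB => by
    simp only [List.map_cons, List.sum_cons] at hB
    simp only [List.map_cons, assigns, List.mem_flatMap]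
    refine ⟨b, hc (x, b) List.mem_cons_self, ?_⟩
    rw [if_pos (by omega), List.mem_map]
    exact ⟨l, mem_assigns w cand l (B - w b) (fun y hy => hc y (List.mem_cons_of_mem _ hy)) (by omega), rfl⟩

/-- A list of images lifts to an arrangement of the multiset. -/
theorem exists_lift (f : γ → α) : ∀ (row : List α) (m : Multiset γ), m.map f = (row : Multiset α) →
    ∃ l : List γ, (l : Multiset γ) = m ∧ l.map f = row
  | [], m, h => by
    refine ⟨[], ?_, rfl⟩
    rw [Multiset.coe_nil] at h ⊢
    exact (Multiset.map_eq_zero.1 h).symm
  | x :: row, m, h => by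
    classical
    have hx : x ∈ m.map f := by rw [h]; exact List.mem_cons_self
    obtain ⟨g, hg, rfl⟩ := Multiset.mem_map.1 hx
    obtain ⟨m', rfl⟩ := Multiset.exists_cons_of_mem hg
    rw [Multiset.map_cons, ← Multiset.cons_coe, Multiset.cons_inj_right] at h
    obtain ⟨l, hl, hlf⟩ := exists_lift f row m' h
    exact ⟨g :: l, by rw [← Multiset.cons_coe, hl], by rw [List.map_cons, hlf]⟩

/-- Whether the counts in the first list are at most those in the second. -/
def subl [BEq α] (l m : List α) : Bool := l.all fun x => decide (l.count x ≤ m.count x)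

theorem subl_of_le [DecidableEq α] {l m : List α} (h : (l : Multiset α) ≤ (m : Multiset α)) :
    subl l m = true := by
  rw [subl, List.all_eq_true]
  intro x _
  simpa using Multiset.le_iff_count.1 h x

end Cfsg.Agent.Invol.M22Ord
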