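import Mathlib
import Cfsg.Agent.Lib.Invol.Order443520.Enum
import Cfsg.Agent.Lib.Invol.Order443520.Count

/-!
Order 443520: the computable lists of possible values and of possible degrees in a principal block.
-/

set_option autoImplicit false

namespace Cfsg.Agent.Invol.M22Ord

/-- Whether `a` may be the value of a character of degree `d` at an involution with centralizer order `h`. -/
def okv (h d : ℕ) (a : ℤ) : Bool :=
  Nat.blt a.natAbs d && Nat.blt (a.natAbs * a.natAbs) h && Nat.beq (Int.natAbs (a - d) % 4) 0 &&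
    Nat.beq ((443520 / h * a.natAbs) % d) 0

theorem okv_iff {h d : ℕ} {a : ℤ} : okv h d a = true ↔ -(d : ℤ) < a ∧ a < (d : ℤ) ∧ a * a < (h : ℤ) ∧
    (4 : ℤ) ∣ a - d ∧ (d : ℤ) ∣ ((443520 / h : ℕ) : ℤ) * a := by
  simp only [okv, Bool.and_eq_true, Nat.blt_eq, Nat.beq_eq]
  have h1 : (Int.natAbs (a - d) % 4 = 0) ↔ (4 : ℤ) ∣ a - d := by
    rw [← Nat.dvd_iff_mod_eq_zero, show (4 : ℤ) = ((4 : ℕ) : ℤ) from rfl, Int.natCast_dvd]
  have h2 : ((443520 / h * a.natAbs) % d = 0) ↔ (d : ℤ) ∣ ((443520 / h : ℕ) : ℤ) * a := by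
    rw [← Nat.dvd_iff_mod_eq_zero, Int.natCast_dvd, Int.natAbs_mul, Int.natAbs_natCast]
  have h3 : a.natAbs * a.natAbs < h ↔ a * a < (h : ℤ) := by
    rw [← Int.natAbs_mul_self (a := a)]; exact Int.ofNat_lt.symm
  rw [h1, h2, h3]
  constructor
  · rintro ⟨⟨⟨e1, e2⟩, e3⟩, e4⟩; exact ⟨by omega, by omega, e2, e3, e4⟩
  · rintro ⟨e1, e1', e2, e3, e4⟩; exact ⟨⟨⟨by omega, e2⟩, e3⟩, e4⟩

/-- The integers between `-d` and `d` in the residue class of `d` modulo four, further in that of `s` modulo `p`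
when asked. -/
def progression (p : ℕ) (cg : Bool) (d : ℕ) (s : ℤ) : List ℤ :=
  let M := bif cg then 4 * p else 4
  (List.range M).flatMap fun r : ℕ =>
    bif Nat.beq (Int.natAbs (((r : ℤ) - d) - d) % 4) 0 && (!cg || Nat.beq (Int.natAbs (((r : ℤ) - d) - s) % p) 0)
    then (List.range (2 * d / M + 1)).map fun i : ℕ => ((r + M * i : ℕ) : ℤ) - d else []

/-- A bound on the absolute values whose squares are less than `h`. -/
def rootBound (h d : ℕ) : ℕ :=
  ([8, 12, 16, 24, 32, 48, 64, 96, 128, 192, 256, 384, 512].find? fun r => Nat.ble h (r * r)).getD d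

/-- The multiples of the least step allowed by integrality, up to the bound. -/
def stepList (h d : ℕ) : List ℤ :=
  let q := d / Nat.gcd d (443520 / h)
  let k := min (d - 1) (rootBound h d) / q
  (List.range (2 * k + 1)).map fun i : ℕ => ((i : ℤ) - k) * q

theorem mem_stepList {h d : ℕ} {a : ℤ} (h1 : -(d : ℤ) < a) (h2 : a < (d : ℤ)) (h3 : a * a < (h : ℤ))
    (h5 : (d : ℤ) ∣ ((443520 / h : ℕ) : ℤ) * a) : a ∈ stepList h d := by
  set g := Nat.gcd d (443520 / h) with hg
  set q := d / g with hq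
  set k := min (d - 1) (rootBound h d) / q with hk
  have hd : 0 < d := by omega
  have hg0 : 0 < g := Nat.gcd_pos_of_pos_left _ hd
  have hq0 : 0 < q := Nat.div_pos (Nat.le_of_dvd hd (Nat.gcd_dvd_left _ _)) hg0
  have hqa : q ∣ a.natAbs := by
    have h6 : d ∣ 443520 / h * a.natAbs := by
      rw [← Int.natCast_dvd_natCast, Nat.cast_mul, Int.natCast_natAbs]
      rcases abs_choice a with e | e <;> rw [e]
      · exact h5
      · rw [mul_neg]; exact dvd_neg.2 h5
    refine (Nat.coprime_div_gcd_div_gcd hg0).dvd_of_dvd_mul_left ?_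
    have h7 := Nat.div_dvd_div (Nat.gcd_dvd_left d (443520 / h)) h6
    rwa [Nat.mul_comm, Nat.mul_div_assoc _ (Nat.gcd_dvd_right _ _), Nat.mul_comm] at h7
  have hb : a.natAbs ≤ min (d - 1) (rootBound h d) := by
    refine le_min (by omega) ?_
    unfold rootBound
    cases hf : [8, 12, 16, 24, 32, 48, 64, 96, 128, 192, 256, 384, 512].find? (fun r => Nat.ble h (r * r)) with
    | none => simp only [Option.getD_none]; omega
    | some r =>
      have hr : h ≤ r * r := by simpa using List.find?_some hf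
      simp only [Option.getD_some]
      by_contra hlt
      have h8 : r * r ≤ a.natAbs * a.natAbs := Nat.mul_le_mul (by omega) (by omega)
      rw [← Int.natAbs_mul_self (a := a)] at h3
      omega
  obtain ⟨i, hi⟩ := hqa
  have hik : i ≤ k := (Nat.le_div_iff_mul_le hq0).2 (by rw [Nat.mul_comm, ← hi]; exact hb)
  show a ∈ (List.range (2 * k + 1)).map fun j : ℕ => ((j : ℤ) - k) * q
  rw [List.mem_map]
  rcases Int.natAbs_eq a with e | e
  · refine ⟨k + i, List.mem_range.2 (by omega), ?_⟩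
    rw [e, hi]; push_cast; ring
  · refine ⟨k - i, List.mem_range.2 (by omega), ?_⟩
    rw [e, hi]; push_cast [Nat.cast_sub hik]; ring

/-- The values at an involution, with the congruence at `p` if asked. -/
def cand (p h : ℕ) (cg : Bool) (x : ℤ × ℤ) : List ℤ :=
  (stepList h x.1.toNat).filter fun a =>
    okv h x.1.toNat a && (!cg || Nat.beq ((a - x.2).natAbs % p) 0)

theorem mem_cand {p h d : ℕ} {cg : Bool} {s a : ℤ} (_hp : 0 < p) (ha : okv h d a = true)
    (hc : cg = true → (p : ℤ) ∣ a - s) : a ∈ cand p h cg ((d : ℤ), s) := by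
  simp only [cand, Int.toNat_natCast]
  obtain ⟨h1, h2, h3, -, h5⟩ := okv_iff.1 ha
  refine List.mem_filter.2 ⟨mem_stepList h1 h2 h3 h5, ?_⟩
  cases cg
  · simp [ha]
  · simp only [ha, Bool.not_true, Bool.false_or, Bool.true_and, Nat.beq_eq, ← Nat.dvd_iff_mod_eq_zero,
      ← Int.natCast_dvd]
    exact hc rfl

/-- The degree congruences forced at eleven. -/
def ok11 (d : ℕ) : Bool :=
  (d % 11 == 0 || d % 11 == 1 || d % 11 == 10 || d % 11 == 5 || d % 11 == 6) && d != 5 && d != 6

/-- The degree congruences forced at seven by a self-centralising Sylow subgroup. -/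
def ok7 (d : ℕ) : Bool := d % 7 == 0 || d % 7 == 1 || d % 7 == 6 || d % 7 == 3 || d % 7 == 4

/-- The degree congruences forced at five by a self-centralising Sylow subgroup. -/
def ok5 (d : ℕ) : Bool := d % 5 == 0 || d % 5 == 1 || d % 5 == 4

/-- A principal block: the degrees with signs, the sign of the exceptional part and its degree. -/
abbrev Row : Type := List (ℤ × ℤ) × ℤ × ℤ

/-- The possible signed degrees in the principal block at `p`. -/
def sdegs (p : ℕ) (big : Bool) (pre : ℕ → Bool) : List (ℤ × ℤ) :=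
  (List.range 666).flatMap fun d =>
    if 2 ≤ d && 443520 % d == 0 && pre d then
      if d % p == 1 && (!big || decide (2 * p + 1 ≤ d)) then [((d : ℤ), (1 : ℤ))]
      else if d % p == p - 1 && (!big || decide (3 * p - 1 ≤ d)) then [((d : ℤ), (-1 : ℤ))] else []
    else []

theorem mem_sdegs {p : ℕ} {big : Bool} {pre : ℕ → Bool} (hp : 3 ≤ p) {d : ℕ} {s : ℤ} (h2 : 2 ≤ d) (h665 : d ≤ 665)
    (hd : d ∣ 443520) (hpre : pre d = true) (hs : s = 1 ∨ s = -1) (hm : (p : ℤ) ∣ (d : ℤ) - s)
    (hbig : big = true → (d % p = 1 ∧ 2 * p + 1 ≤ d) ∨ (d % p = p - 1 ∧ 3 * p - 1 ≤ d)) :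
    ((d : ℤ), s) ∈ sdegs p big pre := by
  refine List.mem_flatMap.2 ⟨d, List.mem_range.2 (by omega), ?_⟩
  rw [if_pos (by simp [h2, Nat.mod_eq_zero_of_dvd hd, hpre])]
  have hcase : (s = 1 → d % p = 1) ∧ (s = -1 → d % p = p - 1) := by
    constructor <;> rintro rfl
    · have h1 : (1 : ℤ) ≡ (d : ℤ) [ZMOD p] := Int.modEq_iff_dvd.2 hm
      rw [show (1 : ℤ) = ((1 : ℕ) : ℤ) from rfl, Int.natCast_modEq_iff] at h1
      rw [← h1]; exact Nat.mod_eq_of_lt (by omega)
    · have h1 : ((p - 1 : ℕ) : ℤ) ≡ (d : ℤ) [ZMOD p] := by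
        refine Int.modEq_iff_dvd.2 ?_
        rw [show (d : ℤ) - ((p - 1 : ℕ) : ℤ) = ((d : ℤ) - -1) - (p : ℤ) by
          push_cast [Nat.cast_sub (show 1 ≤ p by omega)]; ring]
        exact dvd_sub hm dvd_rfl
      rw [Int.natCast_modEq_iff] at h1
      rw [← h1]; exact Nat.mod_eq_of_lt (by omega)
  rcases hs with rfl | rfl
  · have := hcase.1 rfl
    rw [if_pos ?_]
    · simp
    cases big
    · simp [this]
    · rcases hbig rfl with ⟨-, h⟩ | ⟨h, -⟩
      · simp [this, h]
      · omega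
  · have := hcase.2 rfl
    rw [if_neg (by simp [this]; omega), if_pos ?_]
    · simp
    cases big
    · simp [this]
    · rcases hbig rfl with ⟨h, -⟩ | ⟨-, h⟩
      · omega
      · simp [this, h]

/-- The weight of a signed degree. -/
def wdeg (x : ℤ × ℤ) : ℕ := x.1.natAbs * x.1.natAbs

/-- Complete a list of signed degrees with the exceptional degree, if possible. -/
def complete (p e : ℕ) (pre : ℕ → Bool) (X : List (ℤ × ℤ)) : List Row :=
  let S := 1 + (X.map fun x => x.2 * x.1).sum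
  let ε : ℤ := if 0 < S then 1 else -1
  let y := ε * S
  let t : ℤ := (((p - 1) / e : ℕ) : ℤ)
  if decide (2 ≤ y) && (443520 : ℤ) % y == 0 && (y - ε * (e : ℤ)) % (p : ℤ) == 0 && pre y.toNat &&
      decide (1 + (X.map fun x => x.1 * x.1).sum + t * (y * y) ≤ 443520) &&
      (e + 1 != p || X.all fun x => decide (x.1 ≤ y))
  then [(X, ε, y)] else []

/-- The possible principal blocks at `p` with automizer of order `e`. -/
def rows (p e : ℕ) (big : Bool) (pre : ℕ → Bool) : List Row :=
  (msets wdeg (sdegs p big pre) (e - 1) 443520).flatMap (complete p e pre)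

end Cfsg.Agent.Invol.M22Ord
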