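import Mathlib
import Cfsg.Agent.Lib.Invol.Order443520.States

/-!
Order 443520: the exhaustive checks at an involution centralising an element of order eleven.
-/

set_option autoImplicit false

namespace Cfsg.Agent.Invol.M22Ord

/-- The orders possible for the centralizer of an involution commuting with an element of order eleven. -/
def ordsEleven : List ℕ :=
  (((List.range 20160).filter fun j => Nat.beq (20160 % j) 0).map fun j => 22 * j)

/-- Whether a centralizer of order `h` is compatible with a normalizer of order `N` of a Sylow subgroup of order
`p` meeting it in a subgroup of order divisible by `D`, when `c - 1` elements are available for the orbit. -/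
def localOK (p N D c h : ℕ) : Bool :=
  (List.range (N / D + 1)).any fun k =>
    let m := D * k
    Nat.blt 0 m && Nat.beq (N % m) 0 && Nat.beq (h % m) 0 && Nat.beq (h / m % p) 1 && Nat.ble N (m * (c - 1))

theorem localOK_of {p N D c h m n : ℕ} (hh : h = m * n) (hn : n % p = 1) (hm : m ∣ N) (hD : D ∣ m) (hN : 0 < N)
    (hD0 : 0 < D) (hc : N ≤ m * (c - 1)) : localOK p N D c h = true := by
  obtain ⟨k, rfl⟩ := hD
  have hm0 : 0 < D * k := Nat.pos_of_dvd_of_pos hm hN
  refine List.any_eq_true.2 ⟨k, List.mem_range.2 ?_, ?_⟩
  · refine Nat.lt_succ_of_le ((Nat.le_div_iff_mul_le hD0).2 ?_)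
    rw [mul_comm]
    exact Nat.le_of_dvd hN hm
  · simp only [Bool.and_eq_true, Nat.blt_eq, Nat.beq_eq, Nat.ble_eq]
    exact ⟨⟨⟨⟨hm0, Nat.mod_eq_zero_of_dvd hm⟩, by rw [hh]; exact Nat.mul_mod_right _ _⟩,
      by rw [hh, Nat.mul_div_cancel_left _ hm0]; exact hn⟩, hc⟩

/-- The possible orders of the centralizer when the automizer has order ten. -/
def ordsTen : List ℕ :=
  ordsEleven.filter fun h => [6, 28, 72].any fun c => localOK 11 (10 * (11 * c)) 22 c h

/-- No involution centralises the Sylow subgroup when the automizer has order five. -/
def checkFive : Bool :=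
  let R := rows 11 5 true fun _ => true
  ordsEleven.all fun h => R.all fun r => (blockVals 11 5 h true r).all fun l => (qfold (qsq r l)).1 != 0

/-- No involution centralises the Sylow subgroup when the automizer has order ten. -/
def checkTen : Bool :=
  let R := rows 11 10 true fun _ => true
  ordsTen.all fun h => R.all fun r => (blockVals 11 10 h true r).isEmpty

theorem checkFive_true : checkFive = true := by decide +kernel

theorem checkTen_true : checkTen = true := by decide +kernel

end Cfsg.Agent.Invol.M22Ord
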