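import Mathlib
import Cfsg.Agent.Lib.Block.OrderPrimeCases

/-!
The possible automizer and centralizer orders of a Sylow subgroup of prime order, from the small divisors of
the index.
-/

set_option autoImplicit false
set_option linter.style.haveILetI false
set_option linter.unusedSectionVars false

namespace Cfsg.Agent.Invol.M22Ord

open Cfsg Cfsg.Agent.Block

/-- The test at one possible product of the automizer and centralizer indices. -/
def optAt (p m : ℕ) (L : List (ℕ × ℕ)) (j : ℕ) : Bool :=
  !(Nat.beq (m / j % p) 1 && Nat.blt 1 (m / j / p)) ||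
    (List.range p).all fun e => !(Nat.blt 1 e && Nat.beq ((p - 1) % e) 0 && Nat.beq (j % e) 0) ||
      L.contains (e, j / e)

/-- The test that the possible configurations at `p` are listed, when `m` is at most the square of `300`. -/
def optFast (p m : ℕ) (L : List (ℕ × ℕ)) : Bool :=
  (List.range 301).all fun i => !(Nat.blt 0 i && Nat.beq (m % i) 0) || (optAt p m L i && optAt p m L (m / i))

universe u

theorem optFast_sound {G : Type u} [Group G] [Finite G] [IsSimpleGroup G] (hna : ¬ IsMulCommutative G) {p m : ℕ}
    [hp : Fact p.Prime] (h : Nat.card G = p * m) (hpm : ¬ p ∣ m) (hp2 : p ≠ 2) (hm : m ≤ 90000)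
    (hfac : ¬ 2 * (p * m) ∣ p * (p - 1) * (p + 1)) (L : List (ℕ × ℕ)) (ht : optFast p m L = true)
    (P : Sylow p G) :
    ∃ e c : ℕ, (e, c) ∈ L ∧ Nat.card P = p ∧ c ∣ m ∧
      (Subgroup.centralizer ((P : Subgroup G) : Set G)).relIndex
        (Subgroup.normalizer ((P : Subgroup G) : Set G)) = e ∧
      Nat.card (Subgroup.centralizer ((P : Subgroup G) : Set G)) = p * c := by
  obtain ⟨e, k, c, hk1, hkm, he, he1, hep, hc, hprod⟩ := OrdP.exists_e' hna h hpm hp2 hfac P
  refine ⟨e, c, ?_, OrdP.card_sylow_eq h hpm P, ⟨e * (p * k + 1), by rw [← mul_assoc]; exact hprod.symm⟩, he, hc⟩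
  have hp1 := hp.out.two_le
  have hm0 : 0 < m := Nat.pos_of_ne_zero fun e => hpm (e ▸ dvd_zero p)
  set j := c * e with hj
  have hj0 : 0 < j := Nat.pos_of_ne_zero fun h0 => by rw [h0, zero_mul] at hprod; omega
  have hmj : m / j = p * k + 1 := by rw [← hprod, Nat.mul_div_cancel_left _ hj0]
  have hat : optAt p m L j = true := by
    by_cases hs : j ≤ 300
    · have := List.all_eq_true.1 ht j (List.mem_range.2 (by omega))
      rw [Bool.or_eq_true, Bool.and_eq_true] at this
      refine (this.resolve_left ?_).1
      simp [hj0, Nat.mod_eq_zero_of_dvd (⟨p * k + 1, hprod.symm⟩ : j ∣ m)]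
    · set i := p * k + 1 with hi
      have hi300 : i ≤ 300 := by
        by_contra hlt
        have : 301 * 301 ≤ j * i := Nat.mul_le_mul (by omega) (by omega)
        omega
      have := List.all_eq_true.1 ht i (List.mem_range.2 (by omega))
      rw [Bool.or_eq_true, Bool.and_eq_true] at this
      have h2 := (this.resolve_left (by
        simp [Nat.mod_eq_zero_of_dvd hkm, show 0 < i by omega])).2
      rwa [show m / i = j by rw [← hprod, Nat.mul_div_cancel _ (by omega)]] at h2
  have hmod : (p * k + 1) % p = 1 := by rw [Nat.mul_add_mod]; exact Nat.mod_eq_of_lt hp.out.one_lt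
  have hdiv : 1 < (p * k + 1) / p := by
    rw [Nat.mul_add_div (by omega), Nat.div_eq_of_lt hp.out.one_lt]; simpa using hk1
  simp only [optAt, hmj, hmod, Bool.or_eq_true, Bool.not_eq_true', Bool.and_eq_false_iff, List.all_eq_true,
    List.mem_range] at hat
  rcases hat with hat | hat
  · rw [show Nat.blt 1 ((p * k + 1) / p) = true by simp [Nat.blt]; omega] at hat
    simp at hat
  · have hep' : e < p := lt_of_le_of_lt (Nat.le_of_dvd (by omega) hep) (by omega)
    rcases hat e hep' with h0 | h0
    · rw [show Nat.blt 1 e = true by simp [Nat.blt]; omega] at h0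
      simp [Nat.mod_eq_zero_of_dvd hep, hj] at h0
    · rw [hj, Nat.mul_div_cancel _ (by omega)] at h0
      exact List.contains_iff_mem.1 h0

end Cfsg.Agent.Invol.M22Ord
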