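import Mathlib
import Cfsg.Agent.Lib.Invol.Order443520.Singular

/-!
The centralizer of an element of `C(P)` meets the normalizer of a Sylow subgroup `P` of prime order.
-/

set_option autoImplicit false
set_option linter.style.haveILetI false
set_option linter.unusedSectionVars false

namespace Cfsg.Agent.Invol.M22Ord

open Cfsg Cfsg.Agent.Block Cfsg.Agent.Char Cfsg.Agent.Invol.M12Ord

universe u

/-- The order of a subgroup is at most the order of a stabiliser times the number of conjugates available. -/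
theorem card_le_stab {G : Type u} [Group G] [Finite G] (N : Subgroup G) (v : G) (S : Finset G)
    (h : ∀ a ∈ N, a * v * a⁻¹ ∈ S) :
    Nat.card N ≤ Nat.card (N ⊓ Subgroup.centralizer ({v} : Set G) : Subgroup G) * S.card := by
  classical
  haveI := Fintype.ofFinite G
  rw [Nat.card_eq_fintype_card, Fintype.card_subtype, mul_comm]
  refine le_trans (Finset.card_le_mul_card_image (s := Finset.univ.filter fun a => a ∈ N)
    (f := fun a => a * v * a⁻¹) (Nat.card (N ⊓ Subgroup.centralizer ({v} : Set G) : Subgroup G)) ?_) ?_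
  · intro w hw
    obtain ⟨a, ha, rfl⟩ := Finset.mem_image.1 hw
    have haN : a ∈ N := (Finset.mem_filter.1 ha).2
    rw [Nat.card_eq_fintype_card, Fintype.card_subtype]
    refine Finset.card_le_card_of_injOn (fun b => a⁻¹ * b) (fun b hb => ?_) fun b _ b' _ h => mul_left_cancel h
    simp only [Finset.coe_filter, Finset.mem_filter, Finset.mem_univ, true_and, Set.mem_ofPred_eq] at hb ⊢
    refine Subgroup.mem_inf.2 ⟨mul_mem (inv_mem haN) hb.1, Subgroup.mem_centralizer_singleton_iff.2 ?_⟩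
    calc a⁻¹ * b * v = a⁻¹ * (b * v * b⁻¹) * b := by group
      _ = a⁻¹ * (a * v * a⁻¹) * b := by rw [hb.2]
      _ = v * (a⁻¹ * b) := by group
  · rw [mul_comm]
    refine Nat.mul_le_mul_right _ (Finset.card_le_card fun w hw => ?_)
    obtain ⟨a, ha, rfl⟩ := Finset.mem_image.1 hw
    exact h a (Finset.mem_filter.1 ha).2

variable {G : Type u} [Group G] [Finite G] [IsSimpleGroup G] {p e : ℕ} [Fact p.Prime]

namespace PBlk

variable (B : PBlk G p e)

include B in
theorem P_le_C : (B.P : Subgroup G) ≤ B.C := by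
  haveI : IsCyclic (B.P : Subgroup G) := isCyclic_of_prime_card (p := p) B.hP
  exact fun a ha => Subgroup.mem_centralizer_iff.2 fun b hb =>
    congrArg Subtype.val (mul_comm' (⟨b, hb⟩ : (B.P : Subgroup G)) ⟨a, ha⟩)

include B in
theorem conj_V {g w : G} (hg : g ∈ Subgroup.normalizer ((B.P : Subgroup G) : Set G)) (hw : w ∈ B.V) :
    g * w * g⁻¹ ∈ B.V := by
  obtain ⟨hwC, hwr⟩ := B.mem_V.1 hw
  refine B.mem_V.2 ⟨Subgroup.mem_centralizer_iff.2 fun a ha => ?_, ?_⟩
  · have ha' : g⁻¹ * a * g ∈ (B.P : Subgroup G) :=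
      (Subgroup.mem_normalizer_iff.1 hg _).2 (by group; exact ha)
    have hc : (g⁻¹ * a * g) * w = w * (g⁻¹ * a * g) := Subgroup.mem_centralizer_iff.1 hwC _ ha'
    calc a * (g * w * g⁻¹) = g * ((g⁻¹ * a * g) * w) * g⁻¹ := by group
      _ = g * (w * (g⁻¹ * a * g)) * g⁻¹ := by rw [hc]
      _ = g * w * g⁻¹ * a := by group
  · have := (MulEquiv.orderOf_eq (MulAut.conj g) w).symm
    rw [MulAut.conj_apply] at this
    rwa [← this]

include B in
/-- The order `m` of `N(P) ∩ C(v)` for an element `v` of order prime to `p` centralising `P`. -/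
theorem local_card {c : ℕ} (hC : Nat.card B.C = p * c) (hpc : ¬ p ∣ c) {v : G} (hv : v ∈ B.C)
    (hr : ¬ p ∣ orderOf v) (hv1 : v ≠ 1) :
    ∃ m n : ℕ, cn v = m * n ∧ n % p = 1 ∧ p ∣ m ∧ m ∣ e * (p * c) ∧ p * orderOf v ∣ m ∧
      e * (p * c) ≤ m * (c - 1) ∧ ((∀ x ∈ B.C, x * v = v * x) → p * c ∣ m) := by
  classical
  haveI := Fintype.ofFinite G
  have hp : p.Prime := Fact.out
  set H := Subgroup.centralizer ({v} : Set G) with hH
  set N := Subgroup.normalizer ((B.P : Subgroup G) : Set G) with hN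
  have hPH : (B.P : Subgroup G) ≤ H := fun a ha =>
    Subgroup.mem_centralizer_singleton_iff.2 (B.comm ha hv).eq
  set M := N ⊓ H with hM
  set Q := B.P.subtype hPH with hQ
  have hn := card_sylow_modEq_one p H
  rw [Sylow.card_eq_index_normalizer Q] at hn
  have hQN : Subgroup.normalizer (Q : Set H) = M.subgroupOf H := by
    show Subgroup.normalizer ((Q : Subgroup H) : Set H) = _
    rw [hQ, Sylow.coe_subtype, Subgroup.subgroupOf, ← Subgroup.comap_normalizer_eq_of_le_range]
    · rw [hM, Subgroup.subgroupOf, Subgroup.comap_inf]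
      have : H.comap H.subtype = ⊤ := eq_top_iff.2 fun x _ => x.2
      rw [this, inf_top_eq]
    · rw [Subgroup.range_subtype]; exact hPH
  rw [hQN] at hn
  have hcard : cn v = Nat.card M * (M.subgroupOf H).index := by
    rw [show cn v = Nat.card H from rfl, ← Nat.card_congr (Subgroup.subgroupOfEquivOfLe
      (show M ≤ H from inf_le_right)).toEquiv, Subgroup.card_mul_index]
  refine ⟨Nat.card M, (M.subgroupOf H).index, hcard, ?_, ?_, ?_, ?_, ?_, ?_⟩
  · rw [hn]
    exact Nat.mod_eq_of_lt hp.one_lt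
  · rw [← show Nat.card (B.P : Subgroup G) = p from B.hP]
    exact Subgroup.card_dvd_of_le (le_inf Subgroup.le_normalizer hPH)
  · rw [← B.card_N hC]
    exact Subgroup.card_dvd_of_le inf_le_left
  · obtain ⟨x, hx, hx1, hxp, -⟩ := exists_gen B.P B.hP
    have ho : orderOf (x * v) = p * orderOf v := by
      rw [(B.comm hx hv).orderOf_mul_eq_mul_orderOf_of_coprime
        (by rw [hxp]; exact hp.coprime_iff_not_dvd.2 hr), hxp]
    rw [← ho]
    refine Subgroup.orderOf_dvd_natCard M (Subgroup.mem_inf.2 ⟨mul_mem (Subgroup.le_normalizer hx)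
      (Subgroup.centralizer_le_normalizer _ hv), Subgroup.mem_centralizer_singleton_iff.2 ?_⟩)
    exact ((B.comm hx hv).mul_left (Commute.refl v)).eq
  · -- the orbit of `v` under `N(P)` consists of nontrivial elements of `V`
    rw [← B.card_N hC]
    have h := card_le_stab N v (B.V.erase 1) fun a ha => Finset.mem_erase.2
      ⟨fun h => hv1 (conj_eq_one_iff.1 h), B.conj_V ha (B.mem_V.2 ⟨hv, hr⟩)⟩
    rwa [Finset.card_erase_of_mem (B.mem_V.2 ⟨one_mem _, by rw [orderOf_one]; exact hp.not_dvd_one⟩),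
      B.card_V hC hpc] at h
  · intro hcen
    rw [← hC]
    exact Subgroup.card_dvd_of_le (le_inf (Subgroup.centralizer_le_normalizer _)
      fun x hx => Subgroup.mem_centralizer_singleton_iff.2 (hcen x hx))

include B in
/-- An involution central in `C(P)` when that subgroup has order `p` times a power of two. -/
theorem exists_central_two {k : ℕ} (hp2 : p ≠ 2) (hk : k ≠ 0) (hC : Nat.card B.C = p * 2 ^ k) :
    ∃ v : G, orderOf v = 2 ∧ v ∈ B.C ∧ ∀ x ∈ B.C, x * v = v * x := by
  classical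
  have hp : p.Prime := Fact.out
  haveI : Fact (Nat.Prime 2) := ⟨Nat.prime_two⟩
  have hpc : ¬ p ∣ 2 ^ k := fun h => hp2 ((Nat.prime_dvd_prime_iff_eq hp Nat.prime_two).1 (hp.dvd_of_dvd_pow h))
  obtain ⟨S, hS⟩ := Sylow.exists_subgroup_card_pow_prime (G := B.C) 2 (n := k) (by rw [hC]; exact dvd_mul_left _ _)
  have hSp : IsPGroup 2 S := IsPGroup.of_card hS
  haveI : Nontrivial S := Finite.one_lt_card_iff_nontrivial.1 (by rw [hS]; exact Nat.one_lt_two_pow hk)
  have hZ := IsPGroup.center_nontrivial hSp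
  obtain ⟨m, hm0, hm⟩ := (hSp.to_subgroup (Subgroup.center S)).nontrivial_iff_card.1 hZ
  obtain ⟨z, hz⟩ := exists_prime_orderOf_dvd_card' (G := Subgroup.center S) 2
    (by rw [hm]; exact dvd_pow_self 2 hm0.ne')
  set v : G := ((((z : S) : B.C)) : G) with hvdef
  have hv2 : orderOf v = 2 := by rw [hvdef, Subgroup.orderOf_coe, Subgroup.orderOf_coe, Subgroup.orderOf_coe, hz]
  refine ⟨v, hv2, ((z : S) : B.C).2, fun x hx => ?_⟩
  obtain ⟨a, w, ha, hw, hwr, rfl⟩ := B.eq_uv hC hpc hx
  have haC : a ∈ B.C := B.P_le_C ha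
  have hwv : Commute w v := by
    -- every element of odd index order lies in the subgroup `S`
    have hsurj : ∀ y : B.C, ¬ p ∣ orderOf y → y ∈ S := by
      have hsub : ∀ s : S, ((s : B.C) : G) ∈ B.V := fun s => B.mem_V.2 ⟨(s : B.C).2, fun h => by
        rw [Subgroup.orderOf_coe, Subgroup.orderOf_coe] at h
        obtain ⟨i, hi⟩ := (IsPGroup.iff_orderOf).1 hSp s
        rw [hi] at h
        exact hp2 ((Nat.prime_dvd_prime_iff_eq hp Nat.prime_two).1 (hp.dvd_of_dvd_pow h))⟩
      intro y hy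
      let g : S → {x // x ∈ B.V} := fun s => ⟨((s : B.C) : G), hsub s⟩
      have hgi : Function.Injective g := fun s s' h => by
        have h' : ((s : B.C) : G) = ((s' : B.C) : G) := congrArg (fun t : {x // x ∈ B.V} => (t : G)) h
        exact Subtype.ext (Subtype.ext h')
      have hgb : Function.Bijective g := (Nat.bijective_iff_injective_and_card g).2 ⟨hgi, by
        rw [hS, Nat.card_eq_fintype_card, Fintype.card_coe, B.card_V hC hpc]⟩
      obtain ⟨s, hs⟩ := hgb.2 ⟨(y : G), B.mem_V.2 ⟨y.2, by rwa [Subgroup.orderOf_coe]⟩⟩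
      have hs' : ((s : B.C) : G) = (y : G) := congrArg (fun t : {x // x ∈ B.V} => (t : G)) hs
      exact (Subtype.ext hs' : (s : B.C) = y) ▸ s.2
    have hwS := hsurj ⟨w, hw⟩ (by rwa [Subgroup.orderOf_mk])
    have h1 := Subgroup.mem_center_iff.1 z.2 ⟨⟨w, hw⟩, hwS⟩
    exact congrArg (fun s : S => ((s : B.C) : G)) h1
  exact ((B.comm ha (((z : S) : B.C)).2).mul_left hwv).eq

end PBlk

end Cfsg.Agent.Invol.M22Ord
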