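import Mathlib
import Cfsg.Agent.Lib.Invol.Order443520.CheckEleven
import Cfsg.Agent.Lib.Invol.Order443520.FastOptions
import Cfsg.Agent.Lib.Invol.Order443520.Local

/-!
Simple groups of order 443520: the elements of order eleven generate their centralizers, and the principal
block at eleven.
-/

set_option autoImplicit false
set_option linter.style.haveILetI false
set_option linter.unusedSectionVars false

namespace Cfsg.Agent.Invol.M22Ord

open scoped ComplexConjugate
open Cfsg Cfsg.Agent.Block Cfsg.Agent.Char Cfsg.Agent.Invol.M12Ord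

universe u

variable {G : Type u} [Group G] [Finite G] [IsSimpleGroup G]

theorem mem_ordsEleven (hG : Nat.card G = 443520) {v z : G} (hv : orderOf v = 2) (hz : orderOf z = 11)
    (hc : v * z = z * v) : cn v ∈ ordsEleven := by
  have h2 : 2 ∣ cn v := hv ▸ orderOf_dvd_cn (rfl : v * v = v * v)
  have h11 : 11 ∣ cn v := hz ▸ orderOf_dvd_cn hc.symm
  obtain ⟨j, hj⟩ : 22 ∣ cn v := Nat.Coprime.mul_dvd_of_dvd_of_dvd (by norm_num : Nat.Coprime 2 11) h2 h11
  have hlt := M22Ord.cn_lt hG (ne_one_of_orderOf hv (by norm_num))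
  have hd : j ∣ 20160 := by
    have h := hG ▸ cn_dvd_card v
    rw [hj] at h
    exact Nat.dvd_of_mul_dvd_mul_left (by norm_num : 0 < 22) h
  exact List.mem_map.2 ⟨j, List.mem_filter.2 ⟨List.mem_range.2 (by omega),
    by simp [Nat.mod_eq_zero_of_dvd hd]⟩, hj.symm⟩

/-- An automizer of order five leaves no involution centralising the Sylow subgroup. -/
theorem no_five (hG : Nat.card G = 443520) [Fact (Nat.Prime 11)] (B : PBlk G 11 5) {c : ℕ} (hcm : c ∣ 40320)
    (hC : Nat.card B.C = 11 * c) (hc : c ≠ 1) {v : G} (hv : orderOf v = 2) (hvC : v ∈ B.C) : False := by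
  obtain ⟨z, hzP, -, hz, -⟩ := exists_gen B.P B.hP
  have hpc : ¬ 11 ∣ c := fun h => by have := h.trans hcm; norm_num at this
  have hh := mem_ordsEleven hG hv hz (B.comm hzP hvC).eq.symm
  obtain ⟨a, ha, -, -⟩ := M22Ord.inv_value hG hv
  obtain ⟨r, hr, hrow⟩ := B.exists_row hG (by norm_num) true (fun _ => true)
    (fun _ χ hχ => B.big_X hG (m := 40320) (by norm_num) (by norm_num) hcm hC hc hχ) (fun _ _ => rfl)
    (fun h => absurd h (by norm_num))
  obtain ⟨l, hl, -, -, -, -, hq⟩ := B.exists_vals hG (by norm_num) hv rfl ha hrow true fun _ => hvC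
  rw [B.Q_zero (by norm_num) (by norm_num) hv hv ha ha hC hpc, mul_zero, Int.cast_eq_zero] at hq
  have := List.all_eq_true.1 (List.all_eq_true.1 (List.all_eq_true.1 checkFive_true _ hh) r hr) l hl
  simp [hq] at this

/-- A full automizer leaves no involution centralising the Sylow subgroup. -/
theorem no_ten (hG : Nat.card G = 443520) [Fact (Nat.Prime 11)] (B : PBlk G 11 10)
    (hmax : ∀ χ ∈ B.X, dg χ ≤ dg B.y) {c : ℕ} (hc : c ∈ [6, 28, 72]) (hC : Nat.card B.C = 11 * c)
    {v : G} (hv : orderOf v = 2) (hvC : v ∈ B.C) : False := by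
  obtain ⟨z, hzP, -, hz, -⟩ := exists_gen B.P B.hP
  have hcm : c ∣ 40320 ∧ ¬ 11 ∣ c ∧ c ≠ 1 := by
    simp only [List.mem_cons, List.not_mem_nil, or_false] at hc
    rcases hc with rfl | rfl | rfl <;> norm_num
  have hh := mem_ordsEleven hG hv hz (B.comm hzP hvC).eq.symm
  obtain ⟨m, n, h1, h2, -, h4, h5, h6, -⟩ := B.local_card hC hcm.2.1 hvC (by rw [hv]; norm_num)
    (ne_one_of_orderOf hv (by norm_num))
  rw [hv] at h5
  have hT : cn v ∈ ordsTen := List.mem_filter.2 ⟨hh, List.any_eq_true.2 ⟨c, hc,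
    localOK_of h1 h2 h4 h5 (by have := hcm.2.2; rcases Nat.eq_zero_or_pos c with rfl | h
                               · simp at hc
                               · positivity) (by norm_num) h6⟩⟩
  obtain ⟨a, ha, -, -⟩ := M22Ord.inv_value hG hv
  obtain ⟨r, hr, hrow⟩ := B.exists_row hG (by norm_num) true (fun _ => true)
    (fun _ χ hχ => B.big_X hG (m := 40320) (by norm_num) (by norm_num) hcm.1 hC hcm.2.2 hχ) (fun _ _ => rfl)
    (fun _ => hmax)
  obtain ⟨l, hl, -⟩ := B.exists_vals hG (by norm_num) hv rfl ha hrow true fun _ => hvC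
  have := List.all_eq_true.1 (List.all_eq_true.1 checkTen_true _ hT) r hr
  rw [List.isEmpty_iff.1 this] at hl
  exact List.not_mem_nil hl

/-- Elements of order eleven generate their centralizers, and the automizer has order five. -/
theorem exists_eleven (hG : Nat.card G = 443520) [Fact (Nat.Prime 11)] :
    ∃ B : PBlk G 11 5, Nat.card B.C = 11 := by
  haveI : Fact (Nat.Prime 2) := ⟨Nat.prime_two⟩
  have hna := M22Ord.not_comm hG
  obtain ⟨P⟩ : Nonempty (Sylow 11 G) := inferInstance
  obtain ⟨e, c, hL, hP, hcm, he, hC⟩ := optFast_sound hna (p := 11) (m := 40320)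
    (by rw [hG]) (by norm_num) (by norm_num) (by norm_num) (by norm_num)
    [(2, 448), (2, 360), (5, 144), (10, 72), (2, 140), (5, 56), (10, 28), (2, 96), (2, 63), (2, 30), (5, 12),
      (10, 6), (2, 8), (5, 1)] (by decide +kernel) P
  simp only [List.mem_cons, List.not_mem_nil, or_false, Prod.mk.injEq] at hL
  have he' : e = 2 ∨ e = 5 ∨ e = 10 := by omega
  obtain ⟨B, hB, hmax⟩ := exists_pblk hna (by norm_num) P hP he (by omega)
    (by rcases he' with rfl | rfl | rfl <;> norm_num)
  have hBC : Nat.card B.C = 11 * c := by rw [← hC, PBlk.C, hB]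
  rcases he' with rfl | he'
  · exfalso
    obtain ⟨r, hr, -⟩ := B.exists_row hG (by norm_num) true (fun _ => true)
      (fun _ χ hχ => B.big_X hG (m := 40320) (by norm_num) (by norm_num) hcm hBC (by omega) hχ)
      (fun _ _ => rfl) hmax
    rw [show rows 11 2 true (fun _ => true) = [] by decide +kernel] at hr
    exact List.not_mem_nil hr
  by_cases hc : c = 1
  · obtain rfl : e = 5 := by omega
    exact ⟨B, by rw [hBC, hc]⟩
  · exfalso
    obtain ⟨v, hv⟩ := exists_prime_orderOf_dvd_card' (G := B.C) 2 (hBC ▸ dvd_mul_of_dvd_right (by omega) 11)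
    have hv' : orderOf (v : G) = 2 := by rw [Subgroup.orderOf_coe, hv]
    rcases he' with rfl | rfl
    · exact no_five hG B hcm hBC hc hv' v.2
    · exact no_ten hG B (hmax rfl) (c := c) (by simp; omega) hBC hv' v.2

end Cfsg.Agent.Invol.M22Ord
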