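import Mathlib

/-!
Counting tools for groups acted on by an element of order three.
-/

set_option autoImplicit false
set_option linter.style.haveILetI false
set_option linter.unusedSectionVars false

namespace Cfsg.Agent.Invol.M22Ord

universe u

variable {G : Type u} [Group G] [Finite G]

/-- Conjugation invariance of a subgroup, at one element. -/
def Inv (v : G) (H : Subgroup G) : Prop := ∀ y ∈ H, v * y * v⁻¹ ∈ H

theorem Inv.inf {v : G} {H K : Subgroup G} (h : Inv v H) (k : Inv v K) : Inv v (H ⊓ K) :=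
  fun y hy => ⟨h y hy.1, k y hy.2⟩

theorem inv_normalizer {v : G} {H : Subgroup G} (h : v ∈ Subgroup.normalizer (H : Set G)) : Inv v H :=
  fun y hy => (Subgroup.mem_normalizer_iff.1 h y).1 hy

theorem mem_normalizer_of_inv {v : G} {H : Subgroup G} (h : Inv v H) : v ∈ Subgroup.normalizer (H : Set G) := by
  haveI := Fintype.ofFinite G
  have hsub : H.map (MulAut.conj v).toMonoidHom ≤ H := by
    rintro y ⟨z, hz, rfl⟩
    exact h z hz
  have heq := Subgroup.eq_of_le_of_card_ge hsub (le_of_eq (Nat.card_congr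
    (H.equivMapOfInjective _ (MulAut.conj v).injective).toEquiv))
  refine Subgroup.mem_normalizer_iff.2 fun y => ⟨fun hy => h y hy, fun hy => ?_⟩
  rw [← heq] at hy
  obtain ⟨z, hz, hzy⟩ := hy
  exact (MulAut.conj v).injective hzy ▸ hz

theorem inv_centralizer {v : G} {S : Set G} (h : ∀ s ∈ S, v⁻¹ * s * v ∈ S) :
    Inv v (Subgroup.centralizer S) := by
  intro y hy
  rw [Subgroup.mem_centralizer_iff] at hy ⊢
  intro s hs
  have := hy _ (h s hs)
  calc s * (v * y * v⁻¹) = v * ((v⁻¹ * s * v) * y) * v⁻¹ := by group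
    _ = v * (y * (v⁻¹ * s * v)) * v⁻¹ := by rw [this]
    _ = v * y * v⁻¹ * s := by group

open scoped Classical in
/-- The fixed points of an element of order three among a set it permutes. -/
theorem fixed_mod_three {v : G} (hv : v ^ 3 = 1) (S : Finset G) (hS : ∀ y ∈ S, v * y * v⁻¹ ∈ S) :
    (S.filter fun y => v * y * v⁻¹ = y).card % 3 = S.card % 3 := by
  classical
  haveI : Fact (Nat.Prime 3) := ⟨Nat.prime_three⟩
  let f : {y // y ∈ S} → {y // y ∈ S} := fun y => ⟨v * y.1 * v⁻¹, hS _ y.2⟩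
  have hf : Function.Injective f := fun a b h => by
    have h' : v * a.1 * v⁻¹ = v * b.1 * v⁻¹ := congrArg Subtype.val h
    exact Subtype.ext (mul_left_cancel (mul_right_cancel h'))
  let σ : Equiv.Perm {y // y ∈ S} := Equiv.ofBijective f hf.bijective_of_finite
  have h1 : ∀ y, (σ y).1 = v * y.1 * v⁻¹ := fun _ => rfl
  have hσ : σ ^ 3 ^ 1 = 1 := by
    refine Equiv.ext fun y => Subtype.ext ?_
    rw [pow_one, pow_succ, pow_succ, pow_one]
    simp only [Equiv.Perm.mul_apply, h1, Equiv.Perm.coe_one, id_eq]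
    rw [show v * (v * (v * y.1 * v⁻¹) * v⁻¹) * v⁻¹ = (v * v * v) * y.1 * (v * v * v)⁻¹ by group,
      show v * v * v = 1 by rw [← hv, pow_succ, sq]]
    group
  have h := Equiv.Perm.card_compl_support_modEq (p := 3) hσ
  rw [Fintype.card_coe] at h
  rw [← h]
  have e : σ.supportᶜ = S.attach.filter fun y => v * y.1 * v⁻¹ = y.1 := by
    ext y
    simp [Equiv.Perm.mem_support, Subtype.ext_iff, h1]
  rw [e, Finset.filter_attach (fun y => v * y * v⁻¹ = y), Finset.card_map, Finset.card_attach]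

/-- When all the points fixed by an element of order three lie in a subgroup, the rest has order divisible by three. -/
theorem sdiff_mod_three {v : G} (hv : v ^ 3 = 1) {K L : Subgroup G} (hKL : K ≤ L) (hK : Inv v K) (hL : Inv v L)
    (hfix : ∀ y ∈ L, v * y * v⁻¹ = y → y ∈ K) : Nat.card L % 3 = Nat.card K % 3 := by
  classical
  haveI := Fintype.ofFinite G
  have hc : ∀ H : Subgroup G, (Finset.univ.filter fun y => y ∈ H).card = Nat.card H := fun H => by
    rw [Nat.card_eq_fintype_card, Fintype.card_subtype]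
  have h1 := fixed_mod_three hv (Finset.univ.filter fun y => y ∈ L) fun y hy => by simpa using hL y (by simpa using hy)
  have h2 := fixed_mod_three hv (Finset.univ.filter fun y => y ∈ K) fun y hy => by simpa using hK y (by simpa using hy)
  rw [hc] at h1 h2
  rw [← h1, ← h2]
  congr 2
  ext y
  simp only [Finset.mem_filter, Finset.mem_univ, true_and]
  exact ⟨fun h => ⟨hfix y h.1 h.2, h.2⟩, fun h => ⟨hKL h.1, h.2⟩⟩

/-- The conjugates of an element under a subgroup. -/
noncomputable def conjSet (H : Subgroup G) (a : G) : Finset G :=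
  (Set.toFinite ((fun q => q * a * q⁻¹) '' (H : Set G))).toFinset

theorem mem_conjSet {H : Subgroup G} {a b : G} : b ∈ conjSet H a ↔ ∃ q ∈ H, q * a * q⁻¹ = b := by
  simp [conjSet]

theorem self_mem_conjSet {H : Subgroup G} {a : G} : a ∈ conjSet H a :=
  mem_conjSet.2 ⟨1, one_mem _, by group⟩

theorem conjSet_closed {H : Subgroup G} {a b q : G} (hq : q ∈ H) (hb : b ∈ conjSet H a) :
    q * b * q⁻¹ ∈ conjSet H a := by
  obtain ⟨r, hr, rfl⟩ := mem_conjSet.1 hb
  exact mem_conjSet.2 ⟨q * r, mul_mem hq hr, by group⟩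

/-- Orbits and stabilisers. -/
theorem card_conjSet (H : Subgroup G) (a : G) :
    Nat.card H = (conjSet H a).card * Nat.card (H ⊓ Subgroup.centralizer ({a} : Set G) : Subgroup G) := by
  classical
  haveI := Fintype.ofFinite G
  have hc : ∀ K : Subgroup G, (Finset.univ.filter fun y => y ∈ K).card = Nat.card K := fun K => by
    rw [Nat.card_eq_fintype_card, Fintype.card_subtype]
  rw [← hc, ← hc, Finset.card_eq_sum_card_fiberwise (f := fun q => q * a * q⁻¹) (t := conjSet H a)
    (fun q hq => mem_conjSet.2 ⟨q, (Finset.mem_filter.1 (Finset.mem_coe.1 hq)).2, rfl⟩)]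
  rw [Finset.sum_congr rfl (g := fun _ =>
    (Finset.univ.filter fun y => y ∈ H ⊓ Subgroup.centralizer ({a} : Set G)).card) fun b hb => ?_,
    Finset.sum_const, smul_eq_mul]
  obtain ⟨r, hr, rfl⟩ := mem_conjSet.1 hb
  refine Finset.card_nbij' (fun q => r⁻¹ * q) (fun q => r * q) ?_ ?_ ?_ ?_
  · intro q hq
    simp only [Finset.coe_filter, Finset.mem_filter, Finset.mem_univ, true_and, Set.mem_ofPred_eq] at hq ⊢
    refine Subgroup.mem_inf.2 ⟨mul_mem (inv_mem hr) hq.1, Subgroup.mem_centralizer_singleton_iff.2 ?_⟩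
    calc r⁻¹ * q * a = r⁻¹ * (q * a * q⁻¹) * q := by group
      _ = r⁻¹ * (r * a * r⁻¹) * q := by rw [hq.2]
      _ = a * (r⁻¹ * q) := by group
  · intro q hq
    simp only [Finset.coe_filter, Finset.mem_univ, true_and, Set.mem_ofPred_eq, Subgroup.mem_inf,
      Subgroup.mem_centralizer_singleton_iff, Finset.mem_filter] at hq ⊢
    refine ⟨mul_mem hr hq.1, ?_⟩
    calc r * q * a * (r * q)⁻¹ = r * (q * a) * q⁻¹ * r⁻¹ := by group
      _ = r * (a * q) * q⁻¹ * r⁻¹ := by rw [hq.2]
      _ = r * a * r⁻¹ := by group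
  · intro q _; group
  · intro q _; group

/-- A proper subgroup of a `p`-group is properly contained in its normalizer there. -/
theorem lt_normalizer_inf {p : ℕ} [Fact p.Prime] {H Q : Subgroup G} (hQ : IsPGroup p Q) (hHQ : H ≤ Q)
    (hne : H ≠ Q) : H < Subgroup.normalizer (H : Set G) ⊓ Q := by
  haveI := hQ.isNilpotent
  have hlt : H.subgroupOf Q < ⊤ := lt_top_iff_ne_top.2 fun h => hne (le_antisymm hHQ (Subgroup.subgroupOf_eq_top.1 h))
  obtain ⟨y, hy, hy'⟩ := SetLike.exists_of_lt (Group.normalizerCondition_of_isNilpotent _ hlt)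
  refine lt_of_le_of_ne (le_inf Subgroup.le_normalizer hHQ) fun e => hy' ?_
  rw [Subgroup.mem_subgroupOf, e]
  refine ⟨Subgroup.mem_normalizer_iff.2 fun z => ?_, y.2⟩
  have h := Subgroup.mem_normalizer_iff.1 hy
  constructor
  · intro hz
    exact (h ⟨z, hHQ hz⟩).1 hz
  · intro hz
    have hzQ : z ∈ Q := by
      have := hHQ hz
      have e1 : z = (y : G)⁻¹ * ((y : G) * z * (y : G)⁻¹) * y := by group
      rw [e1]
      exact mul_mem (mul_mem (inv_mem y.2) this) y.2
    exact (h ⟨z, hzQ⟩).2 hz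

/-- An element of two-power order in the normalizer of a subgroup of index three there lies in that subgroup. -/
theorem mem_of_index_three {H K : Subgroup G} (hHK : H ≤ K) (hn : K ≤ Subgroup.normalizer (H : Set G))
    (hc : Nat.card K = 3 * Nat.card H) {w : G} {k : ℕ} (hw : w ∈ K) (hwk : w ^ 2 ^ k = 1) : w ∈ H := by
  haveI : (H.subgroupOf K).Normal := Subgroup.normal_subgroupOf_of_le_normalizer hn
  have hidx : (H.subgroupOf K).index = 3 := by
    have h := Subgroup.card_mul_index (H.subgroupOf K)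
    rw [Nat.card_congr (Subgroup.subgroupOfEquivOfLe hHK).toEquiv, hc, mul_comm 3] at h
    exact Nat.eq_of_mul_eq_mul_left Nat.card_pos h
  have h3 : (⟨w, hw⟩ : K) ^ 3 ∈ H.subgroupOf K := hidx ▸ Subgroup.pow_index_mem _ _
  have h3' : w ^ 3 ∈ H := h3
  have hcop : Nat.Coprime 3 (orderOf w) :=
    Nat.Coprime.coprime_dvd_right (orderOf_dvd_of_pow_eq_one hwk) (Nat.Coprime.pow_right _ (by norm_num))
  obtain ⟨m, hm⟩ := exists_pow_eq_self_of_coprime hcop
  exact hm ▸ pow_mem h3' m

/-- A group of exponent two is commutative. -/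
theorem comm_of_sq {H : Subgroup G} (h : ∀ y ∈ H, y * y = 1) {a b : G} (ha : a ∈ H) (hb : b ∈ H) :
    a * b = b * a := by
  have e : ∀ y ∈ H, y⁻¹ = y := fun y hy => inv_eq_of_mul_eq_one_left (h y hy)
  calc a * b = (a * b)⁻¹ := (e _ (mul_mem ha hb)).symm
    _ = b⁻¹ * a⁻¹ := mul_inv_rev a b
    _ = b * a := by rw [e a ha, e b hb]

end Cfsg.Agent.Invol.M22Ord
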