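import Mathlib
import Cfsg.Agent.Lib.Invol.Order443520.Eleven

/-!
Order 443520: the degrees outside the multiples of eleven lie in the principal block at eleven.
-/

set_option autoImplicit false
set_option linter.style.haveILetI false
set_option linter.unusedSectionVars false

namespace Cfsg.Agent.Invol.M22Ord

open scoped ComplexConjugate
open Cfsg Cfsg.Agent.Block Cfsg.Agent.Char Cfsg.Agent.Invol.M12Ord

/-- The degrees in a block described by a row. -/
def blockDegs (t : ℕ) (r : Row) : List ℤ := r.1.map Prod.fst ++ List.replicate t r.2.2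

/-- The degrees prime to eleven. -/
def host (l : List ℤ) : List ℤ := l.filter fun d => decide (¬ d.natAbs % 11 = 0)

/-- The possible principal blocks at eleven. -/
def rowsEleven : List Row := rows 11 5 false ok11

universe u

variable {G : Type u} [Group G] [Finite G] [IsSimpleGroup G] [Fact (Nat.Prime 11)]

/-- The principal block at eleven with a self-centralising Sylow subgroup. -/
abbrev Blk11 (G : Type u) [Group G] [Finite G] : Type u := { B : PBlk G 11 5 // Nat.card B.C = 11 }

namespace Blk11

variable (A : Blk11 G)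

include A in
theorem eleven_dvd {χ : IrrCharacter G} (h0 : χ ≠ trivialIrr G) (hm : χ ∉ A.1.members) : 11 ∣ dg χ := by
  rw [A.1.mem_members, not_or] at hm
  exact A.1.out A.2 χ h0 hm.1 hm.2

include A in
theorem ok11_deg (hG : Nat.card G = 443520) (χ : IrrCharacter G) (h0 : χ ≠ trivialIrr G) :
    ok11 (dg χ) = true := by
  have h56 := M22Ord.no_deg_five_six hG χ
  simp only [ok11, Bool.and_eq_true, Bool.or_eq_true, beq_iff_eq, bne_iff_ne, ne_eq]
  refine ⟨⟨?_, h56.1⟩, h56.2⟩
  by_cases hX : χ ∈ A.1.X
  · have hd := A.1.deg_X χ hX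
    rcases A.1.s_sign χ hX with hs | hs <;> rw [hs] at hd <;> omega
  by_cases hY : χ ∈ A.1.Y
  · have hd := A.1.deg_Y χ hY
    rcases A.1.ε_sign with hs | hs <;> rw [hs] at hd <;> omega
  have := A.1.out A.2 χ h0 hX hY
  omega

/-- The row of the block. -/
theorem exists_row11 (hG : Nat.card G = 443520) : ∃ r ∈ rowsEleven, A.1.IsRow r :=
  A.1.exists_row hG (by norm_num) false ok11 (fun h => by simp at h)
    (fun χ hχ => ok11_deg A hG χ (by
      rcases hχ with h | rfl
      · exact fun e => A.1.triv_X (e ▸ h)
      · exact A.1.y_ne))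
    (fun h => absurd h (by norm_num))

include A in
/-- The characters of degree prime to eleven in any set without the trivial one lie in the block. -/
theorem host_le {α : Type*} (f : IrrCharacter G → α) {S : Finset (IrrCharacter G)}
    (hS : trivialIrr G ∉ S) :
    (S.filter fun χ => ¬ 11 ∣ dg χ).val.map f ≤ A.1.members.val.map f := by
  classical
  refine Multiset.map_le_map (Finset.val_le_iff.2 fun χ hχ => ?_)
  obtain ⟨h1, h2⟩ := Finset.mem_filter.1 hχ
  by_contra h
  exact h2 (eleven_dvd A (fun e => hS (e ▸ h1)) h)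

end Blk11

namespace PBlk

variable {p e : ℕ} [Fact p.Prime] (B : PBlk G p e)

theorem blockDegs_eq {r : Row} (hr : B.IsRow r) :
    (blockDegs ((p - 1) / e) r : Multiset ℤ) = B.members.val.map fun χ => (dg χ : ℤ) := by
  obtain ⟨hX, -, hy⟩ := hr
  have ht : (p - 1) / e = B.Y.card := by
    rw [← B.card_Y, Nat.mul_div_cancel _ (show 0 < e by have := B.card_X; omega)]
  rw [blockDegs, ← Multiset.coe_add, ← Multiset.map_coe, hX, Multiset.map_map, hy, ht, Multiset.coe_replicate,
    members, Finset.disjUnion_val, Multiset.map_add]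
  congr 1
  rw [Finset.card_def, ← Multiset.map_const' B.Y.val ((dg B.y : ℤ))]
  exact Multiset.map_congr rfl fun ψ hψ => by rw [B.dg_Y hψ]

/-- The degrees prime to eleven in the block occur in the principal block at eleven. -/
theorem subl_host (A : Blk11 G) {r r₁ : Row} (hr : B.IsRow r) (hr₁ : A.1.IsRow r₁) :
    subl (host (blockDegs ((p - 1) / e) r)) (blockDegs 2 r₁) = true := by
  classical
  refine subl_of_le ?_
  have h1 := A.1.blockDegs_eq hr₁
  rw [show (11 - 1) / 5 = 2 from rfl] at h1
  rw [h1, host, ← Multiset.filter_coe, B.blockDegs_eq hr, Multiset.filter_map]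
  refine le_trans (le_of_eq ?_) (Blk11.host_le A (fun χ => (dg χ : ℤ)) B.triv_members)
  rw [Finset.filter_val]
  refine congrArg (Multiset.map _) (Multiset.filter_congr fun χ _ => ?_)
  simp [Nat.dvd_iff_mod_eq_zero]

end PBlk

end Cfsg.Agent.Invol.M22Ord
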