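import Mathlib
import Cfsg.Agent.Lib.Invol.Order443520.Hosts

/-!
Order 443520: checks on the involutions centralising Sylow subgroups at seven and at five.
-/

set_option autoImplicit false

namespace Cfsg.Agent.Invol.M22Ord

/-- The divisors of 40320. -/
def smallDivs : List ℕ :=
  [1, 2, 3, 4, 5, 6, 7, 8, 9, 10, 12, 14, 15, 16, 18, 20, 21, 24, 28, 30, 32, 35, 36, 40, 42, 45, 48, 56, 60, 63,
    64, 70, 72, 80, 84, 90, 96, 105, 112, 120, 126, 128, 140, 144, 160, 168, 180, 192, 210, 224, 240, 252, 280,
    288, 315, 320, 336, 360, 384, 420, 448, 480, 504, 560, 576, 630, 640, 672, 720, 840, 896, 960, 1008, 1120,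
    1152, 1260, 1344, 1440, 1680, 1920, 2016, 2240, 2520, 2688, 2880, 3360, 4032, 4480, 5040, 5760, 6720, 8064,
    10080, 13440, 20160, 40320]

/-- The list contains every divisor up to the square root, and the cofactors. -/
def checkDivs : Bool :=
  (List.range 202).all fun i => !(Nat.blt 0 i && Nat.beq (40320 % i) 0) ||
    (smallDivs.contains i && smallDivs.contains (40320 / i))

/-- The values whose excess over the degree is divisible by `p`, with the degrees alone kept. -/
def congFilter (p : ℕ) (m : List (ℤ × ℤ)) : List ℤ :=
  (m.filter fun x => Nat.beq ((x.2 - x.1).natAbs % p) 0).map Prod.fst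

/-- Whether some block in the list fits into the characters with congruent values. -/
def hosted (p t : ℕ) (R : List Row) (m : List (ℤ × ℤ)) : Bool :=
  R.any fun r => subl (host (blockDegs t r)) (congFilter p m)

/-- Whether all degrees in the block have congruent admissible values. -/
def feasible (p t h : ℕ) (r : Row) : Bool :=
  (blockDegs t r).all fun d => !(cand p h true (d, d)).isEmpty

/-- The automizer and centralizer indices at seven with an involution centralising the Sylow subgroup. -/
def optsSeven : List (ℕ × ℕ) := [(3, 8), (3, 64), (6, 4), (6, 32)]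

/-- The possible orders of the centralizer of such an involution. -/
def ordsSeven (e : ℕ) : List ℕ :=
  bif Nat.beq e 3 then [56, 168, 448, 840, 1344, 2016, 2520, 6720, 20160]
  else [56, 84, 168, 224, 448, 672, 840, 1260, 1344, 2016, 2520, 3360, 6720, 8064, 10080, 20160]

/-- The lists of orders are complete. -/
def checkOrdsSeven : Bool :=
  optsSeven.all fun q => smallDivs.all fun h =>
    !localOK 7 (q.1 * (7 * q.2)) (7 * q.2) q.2 h || (ordsSeven q.1).contains h

/-- The principal blocks at seven with an involution centralising the Sylow subgroup. -/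
def rowsSeven (e : ℕ) : List Row := rows 7 e true ok11

/-- The principal blocks at eleven left by an involution centralising a Sylow subgroup at seven. -/
def rowsJoint : List Row :=
  [([(12, 1), (12, 1), (10, -1), (120, -1)], -1, 105), ([(12, 1), (45, 1), (10, -1), (120, -1)], -1, 72),
   ([(45, 1), (144, 1), (10, -1), (120, -1)], 1, 60), ([(45, 1), (10, -1), (21, -1), (120, -1)], -1, 105),
   ([(210, 1), (210, 1), (21, -1), (120, -1)], 1, 280)]

/-- Whether a row has the degrees, with signs, and the exceptional degree of one in the list. -/
def inJoint (r : Row) : Bool :=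
  rowsJoint.any fun j => subl r.1 j.1 && subl j.1 r.1 && r.2.1 == j.2.1 && r.2.2 == j.2.2

/-- An involution centralising a Sylow subgroup at seven leaves five blocks at eleven. -/
def checkSeven : Bool :=
  [3, 6].all fun e => (ordsSeven e).all fun h =>
    let R := (rowsSeven e).filter (feasible 7 ((7 - 1) / e) h)
    R.isEmpty || rowsEleven.all fun r₁ =>
      !(R.any fun r => subl (host (blockDegs ((7 - 1) / e) r)) (blockDegs 2 r₁)) || inJoint r₁ ||
        (blockVals 11 5 h false r₁).all fun l =>
          !hosted 7 ((7 - 1) / e) R (blockChars 2 r₁ l) || (qfold (qsq r₁ l)).1 != 0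

/-- None of these blocks fits an involution centralising a Sylow subgroup at five. -/
def checkFiveJoint : Bool :=
  let R₂ := rows 5 2 true ok11
  let R₄ := rows 5 4 true ok11
  rowsJoint.all fun r₁ => (smallDivs.filter fun h => Nat.beq (h % 10) 0).all fun h =>
    !((R₂.any fun r => subl (host (blockDegs 2 r)) (blockDegs 2 r₁)) ||
        R₄.any fun r => subl (host (blockDegs 1 r)) (blockDegs 2 r₁)) ||
      (blockVals 11 5 h false r₁).all fun l =>
        (!hosted 5 2 R₂ (blockChars 2 r₁ l) && !hosted 5 1 R₄ (blockChars 2 r₁ l)) || (qfold (qsq r₁ l)).1 != 0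

theorem checkDivs_true : checkDivs = true := by decide +kernel

theorem checkOrdsSeven_true : checkOrdsSeven = true := by decide +kernel

theorem checkSeven_true : checkSeven = true := by decide +kernel

theorem checkFiveJoint_true : checkFiveJoint = true := by decide +kernel

end Cfsg.Agent.Invol.M22Ord
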