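import Mathlib
import Cfsg.Agent.Lib.Invol.Order443520.Hosts

/-!
Order 443520: computable tests on the values of three principal blocks at one element.
-/

set_option autoImplicit false

namespace Cfsg.Agent.Invol.M22Ord

/-- The part with degree prime to eleven. -/
def hostPart {α : Type*} (f : α → ℤ) (m : List α) : List α := m.filter fun x => decide (¬ (f x).natAbs % 11 = 0)

/-- The part with degree a multiple of eleven. -/
def freePart {α : Type*} (f : α → ℤ) (m : List α) : List α := m.filter fun x => decide ((f x).natAbs % 11 = 0)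

/-- The part with degree prime to `q`. -/
def mustPart {α : Type*} (f : α → ℤ) (q : ℕ) (m : List α) : List α :=
  m.filter fun x => decide (¬ (f x).natAbs % q = 0)

/-- The union of the members of three blocks, the last containing all the degrees prime to `q`. -/
def glue {α : Type*} [BEq α] (f : α → ℤ) (q : ℕ) (m₁ m m' : List α) : List α :=
  let F := m₁ ++ freePart f m
  F ++ m'.diff (mustPart f q F)

/-- Whether the members of the blocks are consistent. -/
def fitted {α : Type*} [BEq α] (f : α → ℤ) (q : ℕ) (m₁ m m' : List α) : Bool :=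
  subl (hostPart f m) m₁ && subl (mustPart f q (m₁ ++ freePart f m)) m'

/-- The squares of the degrees and of the values, and the inner product with the column of the identity. -/
def boundsOK (h : ℕ) (F : List (ℤ × ℤ)) : Bool :=
  decide (degOf F ≤ 443520) && decide (normOf F ≤ (h : ℤ)) &&
    decide (orthOf F * orthOf F ≤ (443520 - degOf F) * ((h : ℤ) - normOf F))

/-- Whether a fraction scaled by `443520 k / (hx hy)` is a natural number. -/
def countOK (k hx hy : ℕ) (x : ℤ × ℤ) : Bool :=
  decide (0 ≤ x.1) && decide ((443520 * (k : ℤ) * x.1) % ((hx : ℤ) * (hy : ℤ) * x.2) = 0)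

/-- The test on the sum attached to the block at `p` at two involutions or one. -/
def qTest (p e h : ℕ) (x : ℤ × ℤ) : Bool :=
  bif Nat.beq (e % 2) 1 then decide (x.1 = 0) else countOK (p - 1) h h x

/-- Whether the degrees of three blocks are consistent. -/
def degFits (q : ℕ) (d₁ d d' : List ℤ) : Bool :=
  fitted id q d₁ d d' && (d'.diff (mustPart id q (d₁ ++ freePart id d))).all (fun x => decide (x.natAbs % 11 = 0)) &&
    decide (1 + ((glue id q d₁ d d').map fun x => x * x).sum ≤ 443520)

/-- The pairs of blocks at `p` and `q` consistent with the one at eleven by degrees. -/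
def configs (p e q e' : ℕ) (R R' : List Row) (r₁ : Row) : List (Row × Row) :=
  (R.filter fun r => subl (host (blockDegs ((p - 1) / e) r)) (blockDegs 2 r₁)).flatMap fun r =>
    (R'.filter fun r' =>
      degFits q (blockDegs 2 r₁) (blockDegs ((p - 1) / e) r) (blockDegs ((q - 1) / e') r')).map fun r' => (r, r')

/-- The values at an element of order `p`, congruent to the degree and of bounded square. -/
def candX (p B : ℕ) (d : ℤ) : List ℤ :=
  ((List.range 47).map fun i : ℕ => (i : ℤ) - 23).filter fun b =>
    Nat.ble (b.natAbs * b.natAbs) B && Nat.beq ((b - d).natAbs % p) 0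

/-- A degree with its values at two elements. -/
abbrev Val₂ : Type := ℤ × ℤ × ℤ

/-- The exceptional value at the second element. -/
def aY₂ (r : Row) (w : List (((ℤ × ℤ) × ℤ) × ℤ)) : ℤ := r.2.1 * (1 + (w.map fun x => x.1.1.2 * x.2).sum)

/-- The degrees with both values in a block. -/
def blockChars₂ (t : ℕ) (r : Row) (l : List ((ℤ × ℤ) × ℤ)) (w : List (((ℤ × ℤ) × ℤ) × ℤ)) : List Val₂ :=
  w.map (fun x => (x.1.1.1, x.1.2, x.2)) ++ List.replicate t (r.2.2, aY r l, aY₂ r w)

/-- The fractions for the second element with itself. -/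
def qsq₂ (r : Row) (w : List (((ℤ × ℤ) × ℤ) × ℤ)) : List (ℤ × ℤ) :=
  (r.2.2, -(r.2.1 * (aY₂ r w * aY₂ r w))) :: w.map fun x => (x.1.1.1, x.1.1.2 * (x.2 * x.2))

/-- The fractions for the first element with the second. -/
def qmix (r : Row) (l : List ((ℤ × ℤ) × ℤ)) (w : List (((ℤ × ℤ) × ℤ) × ℤ)) : List (ℤ × ℤ) :=
  (r.2.2, -(r.2.1 * (aY r l * aY₂ r w))) :: w.map fun x => (x.1.1.1, x.1.1.2 * (x.1.2 * x.2))

/-- The admissible values in a block at an element of order five, given those at an involution. -/
def colVals (B : ℕ) (r : Row) (l : List ((ℤ × ℤ) × ℤ)) : List (List (((ℤ × ℤ) × ℤ) × ℤ)) :=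
  (assigns wval (l.map fun x => (x, candX 5 B x.1.1)) B).filter fun w => (candX 5 B r.2.2).contains (aY₂ r w)

/-- The degrees with both values in the block at five, where the second element generates the Sylow subgroup. -/
def ownChars (r : Row) (l : List ((ℤ × ℤ) × ℤ)) : List Val₂ :=
  l.map (fun x => (x.1.1, x.2, x.1.2)) ++ [(r.2.2, aY r l, -r.2.1)]

/-- No column at an element of order five is compatible with the values at an involution centralising it. -/
def killFive (h : ℕ) (r₁ : Row) (l₁ : List ((ℤ × ℤ) × ℤ)) (r : Row) (l : List ((ℤ × ℤ) × ℤ)) (r' : Row)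
    (l' : List ((ℤ × ℤ) × ℤ)) : Bool :=
  [6, 16, 36, 96].all fun c =>
    let m := ownChars r l
    let W := (colVals (5 * c) r₁ l₁).filter fun w =>
      countOK 10 (5 * c) (5 * c) (qfold (qsq₂ r₁ w)) && countOK 10 h (5 * c) (qfold (qmix r₁ l₁ w))
    let W' := (colVals (5 * c) r' l').filter fun w => countOK 6 (5 * c) (5 * c) (qfold (qsq₂ r' w))
    W.all fun w => W'.all fun w' =>
      !fitted Prod.fst 7 (blockChars₂ 2 r₁ l₁ w) m (blockChars₂ 2 r' l' w') ||
        !boundsOK (5 * c) ((glue Prod.fst 7 (blockChars₂ 2 r₁ l₁ w) m (blockChars₂ 2 r' l' w')).map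
          fun x => (x.1, x.2.2))

/-- The joint search at an involution for blocks at eleven, at `p` and at `q`; `K` decides the survivors. -/
def search (p e q e' : ℕ) (cg : Bool) (R : List Row) (R' : List Row) (R₁ : List Row) (H : List ℕ)
    (K : ℕ → Row → List ((ℤ × ℤ) × ℤ) → Row → List ((ℤ × ℤ) × ℤ) → Row → List ((ℤ × ℤ) × ℤ) → Bool) : Bool :=
  R₁.all fun r₁ =>
    let C := configs p e q e' R R' r₁
    C.isEmpty || H.all fun h =>
      let L₁ := (blockVals 11 5 h false r₁).filter fun l => decide ((qfold (qsq r₁ l)).1 = 0)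
      L₁.isEmpty || C.all fun c =>
        let L := blockVals p e h cg c.1
        let L := bif Nat.beq (e % 2) 1 then L.filter fun l => decide ((qfold (qsq c.1 l)).1 = 0) else L
        L₁.all fun l₁ => L.all fun l =>
          !subl (hostPart Prod.fst (blockChars ((p - 1) / e) c.1 l)) (blockChars 2 r₁ l₁) ||
            ((blockVals q e' h false c.2).filter fun l' => qTest q e' h (qfold (qsq c.2 l'))).all fun l' =>
              !fitted Prod.fst q (blockChars 2 r₁ l₁) (blockChars ((p - 1) / e) c.1 l)
                  (blockChars ((q - 1) / e') c.2 l') ||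
                !boundsOK h (glue Prod.fst q (blockChars 2 r₁ l₁) (blockChars ((p - 1) / e) c.1 l)
                  (blockChars ((q - 1) / e') c.2 l')) || K h r₁ l₁ c.1 l c.2 l'

/-- The rule deciding nothing. -/
def noRule (_ : ℕ) (_ : Row) (_ : List ((ℤ × ℤ) × ℤ)) (_ : Row) (_ : List ((ℤ × ℤ) × ℤ)) (_ : Row)
    (_ : List ((ℤ × ℤ) × ℤ)) : Bool := false

end Cfsg.Agent.Invol.M22Ord
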