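import Mathlib
import Cfsg.Agent.Lib.Invol.Order443520.JointDefs
import Cfsg.Agent.Lib.Invol.Order443520.CheckExclusive

/-!
Order 443520: checks leaving both Sylow subgroups at seven and at five self-centralising.
-/

set_option autoImplicit false

namespace Cfsg.Agent.Invol.M22Ord

/-- The orders possible for the centralizer of an involution central in a Sylow subgroup. -/
def ordsTwo : List ℕ := [128, 384, 640, 896, 1152, 1920, 2688, 4480, 5760, 8064, 13440, 40320]

/-- The orders possible for the centralizer of an involution commuting with an element of order five. -/
def ordsFive : List ℕ := smallDivs.filter fun h => Nat.beq (h % 10) 0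

theorem ordsTwo_eq : smallDivs.filter (fun h => Nat.beq (h % 128) 0) = ordsTwo := by decide +kernel

/-- Automizer three at seven with an involution centralising the Sylow subgroup: seen at a central involution. -/
theorem searchSevenThree :
    search 7 3 5 4 false (rowsSeven 3) (rows 5 4 false ok11) rowsJoint ordsTwo noRule = true := by decide +kernel

/-- Automizer six at seven with an involution centralising the Sylow subgroup. -/
theorem searchSevenSix :
    search 7 6 5 4 true (rowsSeven 6) (rows 5 4 false ok11) rowsJoint (ordsSeven 6) noRule = true := by
  decide +kernel

end Cfsg.Agent.Invol.M22Ord
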