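import Mathlib
import Cfsg.Agent.Lib.Invol.Order443520.CheckJoint

/-!
Order 443520: checks determining the degrees and the values at the involutions.
-/

set_option autoImplicit false

namespace Cfsg.Agent.Invol.M22Ord

/-- Whether the degrees outside the three blocks can all be 385. -/
def degExact (r₁ r r' : Row) : Bool :=
  decide ((443520 - (1 + ((glue id 5 (blockDegs 2 r₁) (blockDegs 2 r) (blockDegs 1 r')).map fun x => x * x).sum)) %
    148225 = 0)

/-- The blocks at eleven, seven and five allowed by the degrees. -/
def finalRows : List (Row × Row × Row) :=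
  [(([(320, 1), (120, -1), (120, -1), (45, 1)], 1, 126), ([(120, 1), (99, 1)], 1, 220),
      ([(126, 1), (126, 1), (99, -1)], 1, 154)),
    (([(210, 1), (210, 1), (120, -1), (21, -1)], 1, 280), ([(120, 1), (99, 1)], 1, 220),
      ([(154, -1), (99, -1), (21, 1)], -1, 231)),
    (([(210, 1), (210, 1), (120, -1), (21, -1)], 1, 280), ([(120, 1), (55, -1)], 1, 66),
      ([(66, 1), (66, 1), (21, 1)], 1, 154)),
    (([(210, 1), (45, 1), (45, 1), (21, -1)], 1, 280), ([(99, 1), (55, -1)], 1, 45),
      ([(154, -1), (99, -1), (21, 1)], -1, 231)),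
    (([(120, -1), (56, 1), (21, -1), (21, -1)], -1, 105), ([(120, 1), (99, 1)], 1, 220),
      ([(56, 1), (21, 1), (21, 1)], 1, 99))]

/-- The list of blocks is complete. -/
def checkFinalRows : Bool :=
  let R := rows 7 3 false ok11
  let R' := rows 5 4 false ok11
  rowsEleven.all fun r₁ => (configs 7 3 5 4 R R' r₁).all fun c =>
    !degExact r₁ c.1 c.2 || finalRows.contains (r₁, c.1, c.2)

/-- The nontrivial degrees with their values at an involution. -/
def involCol : List (ℤ × ℤ) :=
  [(21, 5), (45, -3), (45, -3), (55, 7), (99, 3), (154, 10), (210, 2), (231, 7), (280, -8), (280, -8), (385, 1)]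

/-- The completion by characters of degree 385 gives the column of an involution. -/
def finishRule (h : ℕ) (r₁ : Row) (l₁ : List ((ℤ × ℤ) × ℤ)) (r : Row) (l : List ((ℤ × ℤ) × ℤ)) (r' : Row)
    (l' : List ((ℤ × ℤ) × ℤ)) : Bool :=
  let F := glue Prod.fst 5 (blockChars 2 r₁ l₁) (blockChars 2 r l) (blockChars 1 r' l')
  let k := ((443520 - degOf F).toNat) / 148225
  (assigns wval (List.replicate k (((385 : ℤ), (0 : ℤ)), cand 5 h false (385, 0))) (h - 1)).all fun w =>
    let full := F ++ w.map fun x => (x.1.1, x.2)
    decide (normOf full ≠ (h : ℤ)) || decide (orthOf full ≠ 0) ||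
      (Nat.beq h 384 && subl full involCol && subl involCol full)

/-- The possible orders of the centralizer of an involution. -/
def ordsEven : List ℕ := smallDivs.filter fun h => Nat.beq (h % 2) 0

/-- The values at an involution are determined. -/
def checkInvolution : Bool :=
  finalRows.all fun q => search 7 3 5 4 false [q.2.1] [q.2.2] [q.1] ordsEven finishRule

theorem checkFinalRows_true : checkFinalRows = true := by decide +kernel

theorem checkInvolution_true : checkInvolution = true := by decide +kernel

end Cfsg.Agent.Invol.M22Ord
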