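import Mathlib
import Cfsg.Agent.Lib.Invol.Order443520.CheckJoint

/-!
Order 443520: checks on an involution centralising a Sylow subgroup at five when that at seven is self-centralising.
-/

set_option autoImplicit false

namespace Cfsg.Agent.Invol.M22Ord

theorem searchFiveTwo :
    search 5 2 7 3 true (rows 5 2 true ok11) (rows 7 3 false ok11) rowsEleven ordsFive noRule = true := by
  decide +kernel

theorem searchFiveFour :
    search 5 4 7 3 true (rows 5 4 true ok11) (rows 7 3 false ok11) rowsEleven ordsFive killFive = true := by
  decide +kernel

end Cfsg.Agent.Invol.M22Ord
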