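import Mathlib
import Cfsg.Agent.Lib.Invol.Order443520.Hosts

/-!
Order 443520: checks used for the centralizers of the Sylow subgroups at seven and five.
-/

set_option autoImplicit false

namespace Cfsg.Agent.Invol.M22Ord

/-- The rows at five when the centralizer has an element of order seven. -/
def rowsFiveSeven : List (ℕ × Row) :=
  (rows 5 2 true fun d => ok11 d && !Nat.beq (d % 7) 0).map (fun r => (2, r)) ++
    (rows 5 4 true fun d => ok11 d && !Nat.beq (d % 7) 0).map fun r => (1, r)

/-- The shape of the principal block at eleven forced by an element of order thirty-five. -/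
def checkThirtyFive : Bool :=
  rowsFiveSeven.all fun q => rowsEleven.all fun r =>
    !subl [32, 32] (blockDegs 2 r) || !subl (host (blockDegs q.1 q.2)) (blockDegs 2 r) ||
      (decide (r.2.2 ≠ 32) && decide (r.2.2 ≠ 144) && decide (r.2.2 % 5 = 0 ∨ r.2.2 % 7 = 0) &&
        decide ((r.1.map Prod.fst).count 32 = 2) && decide ((r.1.map Prod.fst).count 144 = 1) &&
        decide ((144 : ℤ) ∈ blockDegs q.1 q.2) &&
        r.1.all fun x => decide ((x.1 = 32 ∧ x.2 = -1) ∨ (x.1 = 144 ∧ x.2 = 1) ∨ x.1 % 5 = 0 ∨ x.1 % 7 = 0))

theorem checkThirtyFive_true : checkThirtyFive = true := by decide +kernel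

theorem rows_seven_two : rows 7 2 true ok11 = [] := by decide +kernel

theorem rows_seven_three : rows 7 3 true (fun d => ok11 d && !Nat.beq (d % 5) 0) = [([(132, -1), (99, 1)], -1, 32)] := by
  decide +kernel

theorem rows_seven_six : rows 7 6 true (fun d => ok11 d && !Nat.beq (d % 5) 0) = [] := by decide +kernel

end Cfsg.Agent.Invol.M22Ord
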