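import Mathlib
import Cfsg.Agent.Lib.Invol.Order443520.CheckOptions

/-!
Simple groups of order 443520: no element of order thirty-five, and the possible centralizers of the Sylow
subgroups at seven and five.
-/

set_option autoImplicit false
set_option linter.style.haveILetI false
set_option linter.unusedSectionVars false

namespace Cfsg.Agent.Invol.M22Ord

open scoped ComplexConjugate
open Cfsg Cfsg.Agent.Block Cfsg.Agent.Char Cfsg.Agent.Invol.M12Ord

universe u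

variable {G : Type u} [Group G] [Finite G] [IsSimpleGroup G]

namespace PBlk

variable {p e : ℕ} [Fact p.Prime] (B : PBlk G p e)

include B in
theorem cn_gen {u : G} (hu : u ∈ (B.P : Subgroup G)) (hu1 : u ≠ 1) :
    Subgroup.centralizer ({u} : Set G) = B.C := by
  have hz : Subgroup.zpowers u = (B.P : Subgroup G) :=
    Subgroup.eq_of_le_of_card_ge (Subgroup.zpowers_le.2 hu)
      (by rw [Nat.card_zpowers, B.orderOf_u hu hu1]; exact B.hP.le)
  rw [← Subgroup.centralizer_closure, ← Subgroup.zpowers_eq_closure, hz]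

include B in
/-- The elements of order `p` have conjugate centralizers. -/
theorem cn_of_orderOf {x : G} (hx : orderOf x = p) : cn x = Nat.card B.C := by
  have hpg : IsPGroup p ↥(Subgroup.zpowers x) := IsPGroup.of_card (n := 1) (by rw [Nat.card_zpowers, hx, pow_one])
  obtain ⟨Q, hQ⟩ := hpg.exists_le_sylow
  obtain ⟨g, hg⟩ := MulAction.exists_smul_eq G Q B.P
  have hxg : g * x * g⁻¹ ∈ (B.P : Subgroup G) := by
    rw [← hg]
    exact Subgroup.smul_mem_pointwise_smul x (MulAut.conj g) (Q : Subgroup G) (hQ (Subgroup.mem_zpowers x))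
  rw [cn_eq_of_isConj (isConj_iff.2 ⟨g, rfl⟩ : IsConj x (g * x * g⁻¹))]
  show Nat.card (Subgroup.centralizer ({g * x * g⁻¹} : Set G)) = _
  rw [B.cn_gen hxg fun h => ne_one_of_orderOf hx (Fact.out : p.Prime).one_lt.ne' (conj_eq_one_iff.1 h)]

include B in
/-- A prime order element centralising the Sylow subgroup: the degrees in the block are prime to that prime. -/
theorem not_dvd_of_mem_C (hG : Nat.card G = 443520) {q : ℕ} [Fact q.Prime] (hq : q = 5 ∨ q = 7 ∨ q = 11)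
    (hqp : q ≠ p) {x : G} (hx : orderOf x = q) (hxC : x ∈ B.C) {χ : IrrCharacter G}
    (hχ : χ ∈ B.X ∨ χ = B.y) : ¬ q ∣ dg χ := by
  intro hd
  have hp : p.Prime := Fact.out
  have hr : ¬ p ∣ orderOf x := by
    rw [hx]
    exact fun h => hqp ((Nat.prime_dvd_prime_iff_eq hp (Fact.out : q.Prime)).1 h).symm
  have h0 : (χ : G → ℂ) x = ((0 : ℤ) : ℂ) := by
    rw [Int.cast_zero]
    exact M22Ord.vanish hG hq χ hd (dvd_of_eq hx.symm)
  rcases hχ with hX | rfl
  · have h := B.congr_X hX hxC hr h0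
    rcases B.s_sign χ hX with hs | hs <;> rw [hs] at h <;>
      · have := Int.le_of_dvd (b := 1) (by norm_num) (by simpa using h)
        have := hp.two_le
        omega
  · obtain ⟨M, hM⟩ := exists_isPModular p hp
    obtain ⟨u, hu, hu1, -⟩ := exists_gen B.P B.hP
    have hcop : p.Coprime (orderOf x) := (hp.coprime_iff_not_dvd).2 hr
    obtain ⟨l, hl⟩ := exists_pow_eq_self_of_coprime hcop
    have hmem : x ∈ Subgroup.zpowers (u * x) := by
      have h1 : ((u * x) ^ p) ^ l ∈ Subgroup.zpowers (u * x) :=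
        pow_mem (pow_mem (Subgroup.mem_zpowers _) _) _
      rwa [(B.comm hu hxC).mul_pow, B.pow_p hu, one_mul, hl] at h1
    have h1 : MemLocalIdeal M (∑ ψ ∈ B.Y, (ψ : G → ℂ) (u * x)) := ideal_sum hM fun ψ hψ => by
      have h2 := value_pPart_congr hM (irr_isChar ψ) (g := u * x) (u := u) (v := x) rfl (B.comm hu hxC)
        (k := 1) (by rw [pow_one]; exact B.pow_p hu) hmem
      rwa [B.eq_y hψ hr, h0, Int.cast_zero, sub_zero] at h2
    rw [B.sum_Y hu hu1 hxC hr, ← Int.cast_neg] at h1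
    have h2 := (ideal_intCast_iff hM _).1 h1
    rcases B.ε_sign with hs | hs <;> rw [hs] at h2 <;>
      · have := Int.le_of_dvd (b := 1) (by norm_num) (by simpa using h2)
        have := hp.two_le
        omega

end PBlk

variable [Fact (Nat.Prime 5)] [Fact (Nat.Prime 7)] [Fact (Nat.Prime 11)]

namespace Blk11

include G in
theorem no_eleven (A : Blk11 G) {x z : G} (hz : orderOf z = 11) {q : ℕ} (hq : q = 2 ∨ q = 3 ∨ q = 5 ∨ q = 7)
    (hx : orderOf x = q) (hc : x * z = z * x) : False := by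
  have h := orderOf_dvd_cn hc
  rw [hx, A.1.cn_of_orderOf hz, A.2] at h
  rcases hq with rfl | rfl | rfl | rfl <;> norm_num at h

theorem not_dvd_C (A : Blk11 G) {p e c : ℕ} [Fact p.Prime] (B : PBlk G p e) (hp : p = 5 ∨ p = 7)
    (hC : Nat.card B.C = p * c) : ¬ 11 ∣ c := by
  intro h
  obtain ⟨z, hz⟩ := exists_prime_orderOf_dvd_card' (G := B.C) 11 (hC ▸ dvd_mul_of_dvd_right h p)
  obtain ⟨u, hu, -, huo, -⟩ := exists_gen B.P B.hP
  exact no_eleven A (z := (z : G)) (by rw [Subgroup.orderOf_coe, hz]) (q := p) (by omega) huo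
    (B.comm hu z.2).eq

end Blk11

/-- The block at seven with its automizer. -/
theorem seven_data (hG : Nat.card G = 443520) (A : Blk11 G) (P : Sylow 7 G) :
    ∃ (e c : ℕ) (B : PBlk G 7 e), B.P = P ∧ Nat.card B.C = 7 * c ∧ c ∣ 63360 ∧ (e + 1 = 7 → ∀ χ ∈ B.X, dg χ ≤ dg B.y) ∧
      ((e = 3 ∧ c = 1) ∨ (c ≠ 1 ∧ (e = 3 ∨ e = 6) ∧
        (e, c) ∈ [(3, 8), (3, 64), (6, 4), (6, 32), (3, 15), (6, 60), (3, 120), (6, 480), (3, 960)])) := by
  have hna := M22Ord.not_comm hG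
  obtain ⟨e, c, hL, hP, hcm, he, hC⟩ := optFast_sound hna (p := 7) (m := 63360)
    (by rw [hG]) (by norm_num) (by norm_num) (by norm_num) (by norm_num)
    [(2, 2112), (3, 1408), (6, 704), (2, 1440), (3, 960), (6, 480), (2, 880), (2, 495), (3, 330), (6, 165), (2, 320),
     (2, 264), (3, 176), (6, 88), (2, 180), (3, 120), (6, 60), (2, 110), (2, 96), (3, 64), (6, 32), (2, 40), (2, 33),
     (3, 22), (6, 11), (3, 15), (2, 12), (3, 8), (6, 4), (2, 5), (3, 1)] (by decide +kernel) P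
  obtain ⟨he', hc2, hkey⟩ : (e = 2 ∨ e = 3 ∨ e = 6) ∧ (e = 2 → c ≠ 1) ∧ (e = 2 ∨ (e = 3 ∧ c = 1) ∨ 11 ∣ c ∨
      (c ≠ 1 ∧ (e, c) ∈ [(3, 8), (3, 64), (6, 4), (6, 32), (3, 15), (6, 60), (3, 120), (6, 480), (3, 960)])) := by
    refine (?_ : ∀ q ∈ ([(2, 2112), (3, 1408), (6, 704), (2, 1440), (3, 960), (6, 480), (2, 880), (2, 495),
      (3, 330), (6, 165), (2, 320), (2, 264), (3, 176), (6, 88), (2, 180), (3, 120), (6, 60), (2, 110), (2, 96),
      (3, 64), (6, 32), (2, 40), (2, 33), (3, 22), (6, 11), (3, 15), (2, 12), (3, 8), (6, 4), (2, 5), (3, 1)] :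
        List (ℕ × ℕ)), (q.1 = 2 ∨ q.1 = 3 ∨ q.1 = 6) ∧ (q.1 = 2 → q.2 ≠ 1) ∧ (q.1 = 2 ∨ (q.1 = 3 ∧ q.2 = 1) ∨ 11 ∣ q.2 ∨
          (q.2 ≠ 1 ∧ q ∈ [(3, 8), (3, 64), (6, 4), (6, 32), (3, 15), (6, 60), (3, 120), (6, 480), (3, 960)])))
      (e, c) hL
    decide +kernel
  obtain ⟨B, hB, hmax⟩ := exists_pblk hna (by norm_num) P hP he (by omega)
    (by rcases he' with rfl | rfl | rfl <;> norm_num)
  have hBC : Nat.card B.C = 7 * c := by rw [← hC, PBlk.C, hB]
  have h2 : e ≠ 2 := by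
    rintro rfl
    obtain ⟨r, hr, -⟩ := B.exists_row hG (by norm_num) true ok11
      (fun _ χ hχ => B.big_X hG (m := 63360) (by norm_num) (by norm_num) hcm hBC (hc2 rfl) hχ)
      (fun χ hχ => A.ok11_deg hG χ (by
        rcases hχ with h | rfl
        · exact fun e => B.triv_X (e ▸ h)
        · exact B.y_ne)) hmax
    rw [rows_seven_two] at hr
    exact List.not_mem_nil hr
  have h11 := A.not_dvd_C B (Or.inr rfl) hBC
  refine ⟨e, c, B, hB, hBC, hcm, hmax, ?_⟩
  rcases hkey with h | h | h | ⟨h1, h⟩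
  · exact absurd h h2
  · exact Or.inl h
  · exact absurd h h11
  · exact Or.inr ⟨h1, he'.resolve_left h2, h⟩

/-- The block at five with its automizer. -/
theorem five_data (hG : Nat.card G = 443520) (A : Blk11 G) (P : Sylow 5 G) :
    ∃ (e c : ℕ) (B : PBlk G 5 e), B.P = P ∧ Nat.card B.C = 5 * c ∧ c ∣ 88704 ∧ (e + 1 = 5 → ∀ χ ∈ B.X, dg χ ≤ dg B.y) ∧
      (e = 2 ∨ e = 4) ∧ ((e = 4 ∧ c = 1) ∨ 7 ∣ c ∨
        (e, c) ∈ [(2, 2), (2, 12), (2, 32), (2, 72), (2, 192), (4, 6), (4, 16), (4, 36), (4, 96)]) := by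
  have hna := M22Ord.not_comm hG
  obtain ⟨e, c, hL, hP, hcm, he, hC⟩ := optFast_sound hna (p := 5) (m := 88704)
    (by rw [hG]) (by norm_num) (by norm_num) (by norm_num) (by norm_num)
    [(2, 4032), (4, 2016), (2, 2772), (4, 1386), (2, 2112), (4, 1056), (2, 1232), (4, 616), (2, 792), (4, 396),
     (2, 672), (4, 336), (2, 462), (4, 231), (2, 352), (4, 176), (2, 252), (4, 126), (2, 192), (4, 96), (2, 132),
     (4, 66), (2, 112), (4, 56), (2, 77), (2, 72), (4, 36), (2, 42), (4, 21), (2, 32), (4, 16), (2, 22), (4, 11),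
     (2, 12), (4, 6), (2, 7), (2, 2), (4, 1)] (by decide +kernel) P
  obtain ⟨he', hkey⟩ : (e = 2 ∨ e = 4) ∧ ((e = 4 ∧ c = 1) ∨ 11 ∣ c ∨ 7 ∣ c ∨
      (e, c) ∈ [(2, 2), (2, 12), (2, 32), (2, 72), (2, 192), (4, 6), (4, 16), (4, 36), (4, 96)]) := by
    refine (?_ : ∀ q ∈ ([(2, 4032), (4, 2016), (2, 2772), (4, 1386), (2, 2112), (4, 1056), (2, 1232), (4, 616),
      (2, 792), (4, 396), (2, 672), (4, 336), (2, 462), (4, 231), (2, 352), (4, 176), (2, 252), (4, 126), (2, 192),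
      (4, 96), (2, 132), (4, 66), (2, 112), (4, 56), (2, 77), (2, 72), (4, 36), (2, 42), (4, 21), (2, 32), (4, 16),
      (2, 22), (4, 11), (2, 12), (4, 6), (2, 7), (2, 2), (4, 1)] : List (ℕ × ℕ)),
        (q.1 = 2 ∨ q.1 = 4) ∧ ((q.1 = 4 ∧ q.2 = 1) ∨ 11 ∣ q.2 ∨ 7 ∣ q.2 ∨
          q ∈ [(2, 2), (2, 12), (2, 32), (2, 72), (2, 192), (4, 6), (4, 16), (4, 36), (4, 96)])) (e, c) hL
    decide +kernel
  obtain ⟨B, hB, hmax⟩ := exists_pblk hna (by norm_num) P hP he (by omega)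
    (by rcases he' with rfl | rfl <;> norm_num)
  have hBC : Nat.card B.C = 5 * c := by rw [← hC, PBlk.C, hB]
  have h11 := A.not_dvd_C B (Or.inl rfl) hBC
  refine ⟨e, c, B, hB, hBC, hcm, hmax, he', ?_⟩
  rcases hkey with h | h | h | h
  · exact Or.inl h
  · exact absurd h h11
  · exact Or.inr (Or.inl h)
  · exact Or.inr (Or.inr h)

/-- No element of order thirty-five. -/
theorem no_thirty_five (hG : Nat.card G = 443520) (A : Blk11 G) {u x : G} (hu : orderOf u = 7)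
    (hx : orderOf x = 5) (hc : Commute u x) : False := by
  classical
  obtain ⟨P, hPu⟩ := (IsPGroup.of_card (p := 7) (G := ↥(Subgroup.zpowers u)) (n := 1)
    (by rw [Nat.card_zpowers, hu, pow_one])).exists_le_sylow
  obtain ⟨P', hPx⟩ := (IsPGroup.of_card (p := 5) (G := ↥(Subgroup.zpowers x)) (n := 1)
    (by rw [Nat.card_zpowers, hx, pow_one])).exists_le_sylow
  obtain ⟨e, c, B, hB, hBC, hcm, hmax, hopt⟩ := seven_data hG A P
  obtain ⟨e', c', B', hB', hBC', hcm', hmax', he', -⟩ := five_data hG A P'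
  have huP : u ∈ (B.P : Subgroup G) := hB ▸ hPu (Subgroup.mem_zpowers u)
  have hxP : x ∈ (B'.P : Subgroup G) := hB' ▸ hPx (Subgroup.mem_zpowers x)
  have hu1 : u ≠ 1 := ne_one_of_orderOf hu (by norm_num)
  have hx1 : x ≠ 1 := ne_one_of_orderOf hx (by norm_num)
  have hxC : x ∈ B.C := by
    rw [← B.cn_gen huP hu1, Subgroup.mem_centralizer_singleton_iff]; exact hc.eq.symm
  have huC : u ∈ B'.C := by
    rw [← B'.cn_gen hxP hx1, Subgroup.mem_centralizer_singleton_iff]; exact hc.eq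
  have hc1 : c ≠ 1 := fun h => by
    have h1 := Subgroup.orderOf_dvd_natCard _ hxC
    rw [hx, hBC, h] at h1; norm_num at h1
  have hc1' : c' ≠ 1 := fun h => by
    have h1 := Subgroup.orderOf_dvd_natCard _ huC
    rw [hu, hBC', h] at h1; norm_num at h1
  obtain ⟨r, hr, hrow⟩ := B.exists_row hG (by norm_num) true (fun d => ok11 d && !Nat.beq (d % 5) 0)
    (fun _ χ hχ => B.big_X hG (m := 63360) (by norm_num) (by norm_num) hcm hBC hc1 hχ)
    (fun χ hχ => by
      have h1 := A.ok11_deg hG χ (by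
        rcases hχ with h | rfl
        · exact fun e => B.triv_X (e ▸ h)
        · exact B.y_ne)
      have h2 := B.not_dvd_of_mem_C hG (q := 5) (Or.inl rfl) (by norm_num) hx hxC hχ
      rw [Bool.and_eq_true, Bool.not_eq_true', ← Bool.not_eq_true]
      exact ⟨h1, fun h => h2 (Nat.dvd_of_mod_eq_zero (Nat.eq_of_beq_eq_true h))⟩) hmax
  obtain ⟨r', hr', hrow'⟩ := B'.exists_row hG (by norm_num) true (fun d => ok11 d && !Nat.beq (d % 7) 0)
    (fun _ χ hχ => B'.big_X hG (m := 88704) (by norm_num) (by norm_num) hcm' hBC' hc1' hχ)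
    (fun χ hχ => by
      have h1 := A.ok11_deg hG χ (by
        rcases hχ with h | rfl
        · exact fun e => B'.triv_X (e ▸ h)
        · exact B'.y_ne)
      have h2 := B'.not_dvd_of_mem_C hG (q := 7) (Or.inr (Or.inl rfl)) (by norm_num) hu huC hχ
      rw [Bool.and_eq_true, Bool.not_eq_true', ← Bool.not_eq_true]
      exact ⟨h1, fun h => h2 (Nat.dvd_of_mod_eq_zero (Nat.eq_of_beq_eq_true h))⟩) hmax'
  rcases (show e = 3 ∨ e = 6 by rcases hopt with h | h <;> omega) with rfl | rfl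
  swap
  · rw [rows_seven_six] at hr; exact List.not_mem_nil hr
  rw [rows_seven_three, List.mem_singleton] at hr
  subst hr
  obtain ⟨hX, hε, hy⟩ := hrow
  obtain ⟨r₁, hr₁, hrow₁⟩ := A.exists_row11 hG
  have hsub := B.subl_host A ⟨hX, hε, hy⟩ hrow₁
  have hsub' := B'.subl_host A hrow' hrow₁
  have hq : ((4 / e'), r') ∈ rowsFiveSeven := by
    rcases he' with rfl | rfl
    · exact List.mem_append.2 (Or.inl (List.mem_map.2 ⟨r', hr', rfl⟩))
    · exact List.mem_append.2 (Or.inr (List.mem_map.2 ⟨r', hr', rfl⟩))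
  have hchk := List.all_eq_true.1 (List.all_eq_true.1 checkThirtyFive_true _ hq) r₁ hr₁
  have hsub32 : subl [32, 32] (blockDegs 2 r₁) = true := by
    simpa [blockDegs, host] using hsub
  rw [show (5 - 1) / e' = 4 / e' from rfl] at hsub'
  simp only [hsub32, hsub', Bool.not_true, Bool.false_or, Bool.and_eq_true, decide_eq_true_eq,
    List.all_eq_true] at hchk
  obtain ⟨⟨⟨⟨⟨⟨hy32, hy144⟩, hydiv⟩, hn32⟩, hn144⟩, h144⟩, hall⟩ := hchk
  -- the principal block at eleven at an element of order thirty-five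
  set z := u * x with hz
  have hzo : orderOf z = 35 := by
    rw [hz, hc.orderOf_mul_eq_mul_orderOf_of_coprime (by rw [hu, hx]; norm_num), hu, hx]
  have hrel := A.1.rel A.1.y A.1.y_mem z (by rw [hzo]; norm_num)
  obtain ⟨hX₁, hε₁, hy₁⟩ := hrow₁
  have hvan : ∀ χ : IrrCharacter G, (dg χ : ℤ) % 5 = 0 ∨ (dg χ : ℤ) % 7 = 0 → (χ : G → ℂ) z = 0 := by
    rintro χ (h | h)
    · exact M22Ord.vanish hG (Or.inl rfl) χ (by omega) (by rw [hzo]; norm_num)
    · exact M22Ord.vanish hG (Or.inr (Or.inl rfl)) χ (by omega) (by rw [hzo]; norm_num)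
  rw [hvan A.1.y (by rw [hy₁] at hydiv; exact hydiv), mul_zero] at hrel
  have hcnt : ∀ d : ℕ, (A.1.X.filter fun χ => dg χ = d).card = (r₁.1.map Prod.fst).count (d : ℤ) := by
    intro d
    rw [← Multiset.coe_count, ← Multiset.map_coe, hX₁, Multiset.map_map, Multiset.count_map, Finset.card_def,
      Finset.filter_val]
    exact congrArg Multiset.card (Multiset.filter_congr fun χ _ => by simp [eq_comm])
  set T := A.1.X.filter (fun χ => dg χ = 32) with hT
  set S := A.1.X.filter (fun χ => dg χ = 144) with hS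
  have hTc : T.card = 2 := by rw [hT, hcnt]; exact_mod_cast hn32
  obtain ⟨χ₀, hχ₀⟩ := Finset.card_eq_one.1 (show S.card = 1 by rw [hS, hcnt]; exact_mod_cast hn144)
  -- membership in the block at eleven
  have hmem11 : ∀ χ : IrrCharacter G, χ ≠ trivialIrr G → ¬ 11 ∣ dg χ → dg χ ≠ dg A.1.y → χ ∈ A.1.X := by
    intro χ h0 h11 hne
    by_contra hnX
    refine h11 (A.1.out A.2 χ h0 hnX fun h => hne (A.1.dg_Y h))
  have hY7 : B.Y = T := by
    have hdy : dg B.y = 32 := by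
      have hy' : (32 : ℤ) = (dg B.y : ℤ) := hy
      exact_mod_cast hy'.symm
    refine Finset.eq_of_subset_of_card_le (fun ψ hψ => ?_) ?_
    · have hd : dg ψ = 32 := (B.dg_Y hψ).trans hdy
      refine Finset.mem_filter.2 ⟨hmem11 ψ (fun e => B.triv_Y (e ▸ hψ)) (by rw [hd]; norm_num) ?_, hd⟩
      rw [hd]; intro e0; apply hy32; rw [hy₁, ← e0]; rfl
    · rw [hTc]; have := B.card_Y; omega
  have hχ₀X : χ₀ ∈ A.1.X ∧ dg χ₀ = 144 := by
    have : χ₀ ∈ S := by rw [hχ₀]; exact Finset.mem_singleton_self _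
    exact Finset.mem_filter.1 this
  obtain ⟨χ₁, hχ₁, hd₁⟩ : ∃ χ ∈ B'.members, dg χ = 144 := by
    have h1 : (144 : ℤ) ∈ (blockDegs ((5 - 1) / e') r' : Multiset ℤ) := h144
    rw [B'.blockDegs_eq hrow', Multiset.mem_map] at h1
    obtain ⟨χ, hχ, hd⟩ := h1
    exact ⟨χ, hχ, by exact_mod_cast hd⟩
  obtain rfl : χ₁ = χ₀ := Finset.mem_singleton.1 (hχ₀ ▸ Finset.mem_filter.2
    ⟨hmem11 χ₁ (fun e => B'.triv_members (e ▸ hχ₁)) (by rw [hd₁]; norm_num)
      (by rw [hd₁]; intro e0; apply hy144; rw [hy₁, ← e0]; rfl), hd₁⟩)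
  have hr5 : ¬ 5 ∣ orderOf u := by rw [hu]; norm_num
  have hv₀ : (χ₁ : G → ℂ) z = -1 := by
    rw [hz, hc.eq]
    rcases B'.mem_members.1 hχ₁ with h | h
    · rw [B'.valX χ₁ h x hxP hx1 u huC hr5]
      have hd := B'.deg_X χ₁ h
      rw [hd₁] at hd
      rcases B'.s_sign χ₁ h with hs | hs <;> rw [hs] at hd ⊢ <;> first | omega | norm_num
    · have hd := B'.deg_Y χ₁ h
      rw [hd₁] at hd
      have he4 : e' = 4 ∧ B'.ε = 1 := by
        rcases he' with rfl | rfl <;> rcases B'.ε_sign with hs | hs <;> rw [hs] at hd <;> norm_num at hd <;>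
          simp [hs]
      have hYs : B'.Y = {χ₁} := (Finset.eq_of_subset_of_card_le (Finset.singleton_subset_iff.2 h) (by
        have h1 := B'.card_Y; have h2 := he4.1; rw [Finset.card_singleton]; nlinarith)).symm
      have hsum := B'.sum_Y hxP hx1 huC hr5
      rw [hYs, Finset.sum_singleton, he4.2] at hsum
      simpa using hsum
  have hsumT : ∑ χ ∈ T, (χ : G → ℂ) z = 1 := by
    rw [← hY7, hz, B.sum_Y huP hu1 hxC (by rw [hx]; norm_num)]
    have : B.ε = -1 := hε.symm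
    rw [this]; simp
  have hsig : ∀ χ ∈ A.1.X, (A.1.s χ : ℂ) * (χ : G → ℂ) z =
      -(if χ ∈ T then (χ : G → ℂ) z else 0) + (if χ ∈ S then (χ : G → ℂ) z else 0) := by
    intro χ hχ
    have hx' : ((dg χ : ℤ), A.1.s χ) ∈ (r₁.1 : Multiset (ℤ × ℤ)) := by
      rw [hX₁]; exact Multiset.mem_map.2 ⟨χ, hχ, rfl⟩
    have hcases := hall _ (by simpa using hx')
    rcases hcases with ⟨h1, h2⟩ | ⟨h1, h2⟩ | h1 | h1
    · have h1' : ((dg χ : ℕ) : ℤ) = 32 := h1
      have hd : dg χ = 32 := by exact_mod_cast h1'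
      have h2' : A.1.s χ = -1 := h2
      rw [if_pos (Finset.mem_filter.2 ⟨hχ, hd⟩),
        if_neg (fun h => by rw [hS, Finset.mem_filter, hd] at h; omega), h2']
      simp
    · have h1' : ((dg χ : ℕ) : ℤ) = 144 := h1
      have hd : dg χ = 144 := by exact_mod_cast h1'
      have h2' : A.1.s χ = 1 := h2
      rw [if_pos (show χ ∈ S from Finset.mem_filter.2 ⟨hχ, hd⟩),
        if_neg (fun h => by rw [hT, Finset.mem_filter, hd] at h; omega), h2']
      simp
    · simp [hvan χ (Or.inl h1)]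
    · simp [hvan χ (Or.inr h1)]
  rw [Finset.sum_congr rfl hsig, Finset.sum_add_distrib, Finset.sum_neg_distrib, ← Finset.sum_filter,
    ← Finset.sum_filter, Finset.filter_mem_eq_inter, Finset.filter_mem_eq_inter,
    Finset.inter_eq_right.2 (Finset.filter_subset _ _), Finset.inter_eq_right.2 (Finset.filter_subset _ _),
    hsumT, ← hS, hχ₀, Finset.sum_singleton, hv₀] at hrel
  norm_num at hrel

/-- The Sylow subgroup at seven. -/
theorem seven_options (hG : Nat.card G = 443520) (A : Blk11 G) (P : Sylow 7 G) :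
    ∃ (e c : ℕ) (B : PBlk G 7 e), B.P = P ∧ Nat.card B.C = 7 * c ∧ c ∣ 63360 ∧
      (e + 1 = 7 → ∀ χ ∈ B.X, dg χ ≤ dg B.y) ∧
      ((e = 3 ∧ c = 1) ∨ (e, c) ∈ [(3, 8), (3, 64), (6, 4), (6, 32)]) := by
  obtain ⟨e, c, B, hB, hC, hcm, hmax, h⟩ := seven_data hG A P
  have h5 : ¬ 5 ∣ c := fun h5 => by
    obtain ⟨x, hx⟩ := exists_prime_orderOf_dvd_card' (G := B.C) 5 (hC ▸ dvd_mul_of_dvd_right h5 7)
    obtain ⟨u, hu, -, huo, -⟩ := exists_gen B.P B.hP
    exact no_thirty_five hG A huo (x := (x : G)) (by rw [Subgroup.orderOf_coe, hx]) (B.comm hu x.2)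
  refine ⟨e, c, B, hB, hC, hcm, hmax, ?_⟩
  simp only [List.mem_cons, List.not_mem_nil, or_false, Prod.mk.injEq] at h ⊢
  omega

/-- The Sylow subgroup at five. -/
theorem five_options (hG : Nat.card G = 443520) (A : Blk11 G) (P : Sylow 5 G) :
    ∃ (e c : ℕ) (B : PBlk G 5 e), B.P = P ∧ Nat.card B.C = 5 * c ∧ c ∣ 88704 ∧
      (e + 1 = 5 → ∀ χ ∈ B.X, dg χ ≤ dg B.y) ∧
      ((e = 4 ∧ c = 1) ∨
        (e, c) ∈ [(2, 2), (2, 12), (2, 32), (2, 72), (2, 192), (4, 6), (4, 16), (4, 36), (4, 96)]) := by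
  obtain ⟨e, c, B, hB, hC, hcm, hmax, -, h⟩ := five_data hG A P
  have h7 : ¬ 7 ∣ c := fun h7 => by
    obtain ⟨u, hu⟩ := exists_prime_orderOf_dvd_card' (G := B.C) 7 (hC ▸ dvd_mul_of_dvd_right h7 5)
    obtain ⟨x, hx, -, hxo, -⟩ := exists_gen B.P B.hP
    exact no_thirty_five hG A (u := (u : G)) (by rw [Subgroup.orderOf_coe, hu]) hxo (B.comm hx u.2).symm
  exact ⟨e, c, B, hB, hC, hcm, hmax, by tauto⟩

end Cfsg.Agent.Invol.M22Ord
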