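import Mathlib
import Cfsg.Agent.Lib.Invol.Order443520.Options
import Cfsg.Agent.Lib.Invol.Order443520.CheckExclusive

/-!
Simple groups of order 443520: the Sylow subgroups at seven and at five are not both centralised by involutions.
-/

set_option autoImplicit false
set_option linter.style.haveILetI false
set_option linter.unusedSectionVars false

namespace Cfsg.Agent.Invol.M22Ord

open scoped ComplexConjugate
open Cfsg Cfsg.Agent.Block Cfsg.Agent.Char Cfsg.Agent.Invol.M12Ord

universe u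

variable {G : Type u} [Group G] [Finite G] [IsSimpleGroup G]

theorem mem_smallDivs {d : ℕ} (hd : d ∣ 40320) : d ∈ smallDivs := by
  have h := checkDivs_true
  simp only [checkDivs, List.all_eq_true, List.mem_range, Bool.or_eq_true, Bool.and_eq_true,
    List.contains_iff_mem] at h
  have hd0 : 0 < d := Nat.pos_of_dvd_of_pos hd (by norm_num)
  obtain ⟨j, hj⟩ := hd
  have hj0 : 0 < j := Nat.pos_of_dvd_of_pos ⟨d, hj.trans (Nat.mul_comm d j)⟩ (by norm_num)
  rcases Nat.lt_or_ge d 202 with hlt | hge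
  · exact ((h d hlt).resolve_left (by simp [Nat.mod_eq_zero_of_dvd (Dvd.intro j hj.symm), Nat.blt]; omega)).1
  · have hjlt : j < 202 := by
      by_contra hj2
      have : 202 * 202 ≤ d * j := Nat.mul_le_mul hge (by omega)
      omega
    have h2 := ((h j hjlt).resolve_left
      (by simp [Nat.mod_eq_zero_of_dvd (Dvd.intro_left d hj.symm), Nat.blt]; omega)).2
    rwa [show 40320 / j = d by rw [hj, Nat.mul_div_cancel _ hj0]] at h2

namespace PBlk

variable {p e : ℕ} [Fact p.Prime] (B : PBlk G p e)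

/-- The values of the members at an element centralising the Sylow subgroup are congruent to their degrees. -/
theorem congr_members {v : G} (hv : v ∈ B.C) (hr : ¬ p ∣ orderOf v) {a : IrrCharacter G → ℤ}
    (ha : ∀ χ : IrrCharacter G, (χ : G → ℂ) v = a χ) {χ : IrrCharacter G} (hχ : χ ∈ B.members) :
    (p : ℤ) ∣ a χ - (dg χ : ℤ) := by
  rcases B.mem_members.1 hχ with h | h
  · have := dvd_sub (B.congr_X h hv hr (ha χ)) (B.deg_X χ h)
    simpa using this
  · have e1 : a χ = a B.y := Int.cast_injective (α := ℂ) (by rw [← ha, ← ha]; exact B.eq_y h hr)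
    have := dvd_sub (B.congr_Y hv hr (fun ψ _ => ha ψ) (ha B.y)) (B.deg_Y χ h)
    simpa [e1] using this

/-- A block with an element centralising its Sylow subgroup fits into the principal block at eleven. -/
theorem hosted_of [Fact (Nat.Prime 11)] (A : Blk11 G) {v : G} (hv : v ∈ B.C) (hr : ¬ p ∣ orderOf v)
    {a : IrrCharacter G → ℤ} (ha : ∀ χ : IrrCharacter G, (χ : G → ℂ) v = a χ) {m : List (ℤ × ℤ)}
    (hm : (m : Multiset (ℤ × ℤ)) = A.1.members.val.map fun χ => ((dg χ : ℤ), a χ)) {r : Row} (hr' : B.IsRow r)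
    {R : List Row} (hR : r ∈ R) : hosted p ((p - 1) / e) R m = true := by
  classical
  refine List.any_eq_true.2 ⟨r, hR, subl_of_le ?_⟩
  have hbf : (m.filter fun x => Nat.beq ((x.2 - x.1).natAbs % p) 0) =
      m.filter fun x => decide (Nat.beq ((x.2 - x.1).natAbs % p) 0 = true) :=
    List.filter_congr fun x _ => Bool.decide_eq_true.symm
  rw [host, congFilter, hbf, ← Multiset.filter_coe, B.blockDegs_eq hr', Multiset.filter_map, ← Multiset.map_coe,
    ← Multiset.filter_coe, hm, Multiset.filter_map, Multiset.map_map]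
  refine le_trans (le_of_eq (congrArg (Multiset.map _) (Multiset.filter_congr fun χ _ => ?_)))
    (Multiset.map_le_map (f := fun χ : IrrCharacter G => (dg χ : ℤ))
      (s := B.members.val.filter fun χ => ¬ 11 ∣ dg χ)
      ((Multiset.le_iff_subset (B.members.nodup.filter _)).2 fun χ hχ => ?_))
  · simp [Nat.dvd_iff_mod_eq_zero]
  · rw [Multiset.mem_filter] at hχ ⊢
    refine ⟨?_, ?_⟩
    · by_contra h
      exact hχ.2 (Blk11.eleven_dvd A (fun e0 => B.triv_members (e0 ▸ hχ.1)) h)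
    · simp only [Function.comp_apply, Nat.beq_eq]
      exact Nat.mod_eq_zero_of_dvd (Int.natCast_dvd.1 (B.congr_members hv hr ha hχ.1))

theorem feasible_of [Fact (Nat.Prime 11)] (hG : Nat.card G = 443520) {v : G} (hv2 : orderOf v = 2) (hv : v ∈ B.C) (hp2 : p ≠ 2)
    {r : Row} (hr : B.IsRow r) : feasible p ((p - 1) / e) (cn v) r = true := by
  classical
  obtain ⟨a, ha, -, -⟩ := M22Ord.inv_value hG hv2
  have hp : p.Prime := Fact.out
  have hpr : ¬ p ∣ orderOf v := fun hd =>
    hp2 ((Nat.prime_dvd_prime_iff_eq hp Nat.prime_two).1 (hv2 ▸ hd))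
  refine List.all_eq_true.2 fun d hd => ?_
  have hd' : d ∈ (blockDegs ((p - 1) / e) r : Multiset ℤ) := hd
  rw [B.blockDegs_eq hr, Multiset.mem_map] at hd'
  obtain ⟨χ, hχ, rfl⟩ := hd'
  have h := mem_cand hp.pos (okv_of hG hv2 rfl (fun e0 => B.triv_members (e0 ▸ hχ)) (ha χ))
    (cg := true) (s := (dg χ : ℤ)) fun _ => B.congr_members hv hpr ha hχ
  simp only [Bool.not_eq_true']
  cases hc : cand p (cn v) true ((dg χ : ℤ), (dg χ : ℤ)) with
  | nil => rw [hc] at h; exact absurd h List.not_mem_nil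
  | cons x xs => rfl

end PBlk

/-- A row equal to a listed one up to order has its degrees and exceptional part. -/
theorem inJoint_spec {r : Row} (h : inJoint r = true) :
    ∃ j ∈ rowsJoint, (r.1 : Multiset (ℤ × ℤ)) = (j.1 : Multiset (ℤ × ℤ)) ∧ r.2.1 = j.2.1 ∧ r.2.2 = j.2.2 := by
  obtain ⟨j, hj, hjr⟩ := List.any_eq_true.1 h
  simp only [Bool.and_eq_true, beq_iff_eq, subl, List.all_eq_true, decide_eq_true_eq] at hjr
  obtain ⟨⟨⟨h1, h2⟩, h3⟩, h4⟩ := hjr
  refine ⟨j, hj, Multiset.ext.2 fun x => ?_, h3, h4⟩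
  rw [Multiset.coe_count, Multiset.coe_count]
  have hc : ∀ l : List (ℤ × ℤ),
      @List.count _ instBEqProd x l = @List.count _ instBEqOfDecidableEq x l := fun l => by
    induction l with
    | nil => rfl
    | cons b t ih => simp only [List.count_cons, ih, beq_iff_eq]
  rw [← hc, ← hc]
  refine le_antisymm ?_ ?_
  · by_cases hx : x ∈ r.1
    · exact h1 x hx
    · rw [List.count_eq_zero.2 hx]; exact Nat.zero_le _
  · by_cases hx : x ∈ j.1
    · exact h2 x hx
    · rw [List.count_eq_zero.2 hx]; exact Nat.zero_le _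

theorem cn_dvd_small (hG : Nat.card G = 443520) [Fact (Nat.Prime 5)] [Fact (Nat.Prime 7)] [Fact (Nat.Prime 11)] (A : Blk11 G) {v : G}
    (hv : orderOf v = 2) : cn v ∣ 40320 := by
  have h := hG ▸ cn_dvd_card v
  have h11 : Nat.Coprime (cn v) 11 := by
    rw [Nat.coprime_comm, (Fact.out : Nat.Prime 11).coprime_iff_not_dvd]
    intro hd
    obtain ⟨z, hz⟩ := exists_prime_orderOf_dvd_card' (G := Subgroup.centralizer ({v} : Set G)) 11 hd
    exact A.no_eleven (z := (z : G)) (by rw [Subgroup.orderOf_coe, hz]) (Or.inl rfl) hv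
      (Subgroup.mem_centralizer_singleton_iff.1 z.2).symm
  exact h11.dvd_of_dvd_mul_left (show cn v ∣ 11 * 40320 from h)

variable [Fact (Nat.Prime 5)] [Fact (Nat.Prime 7)] [Fact (Nat.Prime 11)]

/-- An involution centralising a Sylow subgroup at seven determines five possible blocks at eleven. -/
theorem joint_seven (hG : Nat.card G = 443520) (A : Blk11 G) {e c : ℕ} (B : PBlk G 7 e)
    (hC : Nat.card B.C = 7 * c) (hcm : c ∣ 63360) (hmax : e + 1 = 7 → ∀ χ ∈ B.X, dg χ ≤ dg B.y)
    (hec : (e, c) ∈ optsSeven) : ∃ r ∈ rowsJoint, A.1.IsRow r := by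
  classical
  obtain ⟨hc1, k, hk, hk0, hpc, he⟩ : c ≠ 1 ∧ ∃ k, c = 2 ^ k ∧ k ≠ 0 ∧ ¬ 7 ∣ c ∧ (e = 3 ∨ e = 6) := by
    simp only [optsSeven, List.mem_cons, List.not_mem_nil, or_false, Prod.mk.injEq] at hec
    rcases hec with ⟨rfl, rfl⟩ | ⟨rfl, rfl⟩ | ⟨rfl, rfl⟩ | ⟨rfl, rfl⟩
    · exact ⟨by norm_num, 3, by norm_num⟩
    · exact ⟨by norm_num, 6, by norm_num⟩
    · exact ⟨by norm_num, 2, by norm_num⟩
    · exact ⟨by norm_num, 5, by norm_num⟩
  obtain ⟨v, hv, hvC, hcen⟩ := B.exists_central_two (by norm_num) hk0 (hk ▸ hC)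
  have hvr : ¬ 7 ∣ orderOf v := by rw [hv]; norm_num
  obtain ⟨m, n, h1, h2, -, h4, -, h6, h7⟩ := B.local_card hC hpc hvC hvr (ne_one_of_orderOf hv (by norm_num))
  have hh : cn v ∈ ordsSeven e := by
    have h := List.all_eq_true.1 (List.all_eq_true.1 checkOrdsSeven_true _ hec) (cn v)
      (mem_smallDivs (cn_dvd_small hG A hv))
    have hc0 : 0 < c := Nat.pos_of_dvd_of_pos hcm (by norm_num)
    have he0 : 0 < e := by omega
    rw [localOK_of h1 h2 h4 (h7 hcen) (by positivity) (by positivity) h6] at h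
    simpa using h
  obtain ⟨r, hr, hrow⟩ := B.exists_row hG (by norm_num) true ok11
    (fun _ χ hχ => B.big_X hG (m := 63360) (by norm_num) (by norm_num) hcm hC hc1 hχ)
    (fun χ hχ => A.ok11_deg hG χ (by
      rcases hχ with h | rfl
      · exact fun e0 => B.triv_X (e0 ▸ h)
      · exact B.y_ne)) hmax
  obtain ⟨r₁, hr₁, hrow₁⟩ := A.exists_row11 hG
  obtain ⟨a, ha, -, -⟩ := M22Ord.inv_value hG hv
  obtain ⟨l, hl, -, -, hchars, -, hq⟩ := A.1.exists_vals hG (by norm_num) hv rfl ha hrow₁ false (by simp)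
  rw [A.1.Q_zero (by norm_num) (by norm_num) hv hv ha ha (c := 1) (by rw [A.2]) (by norm_num), mul_zero,
    Int.cast_eq_zero] at hq
  rw [show (11 - 1) / 5 = 2 from rfl] at hchars
  have hR : r ∈ (rowsSeven e).filter (feasible 7 ((7 - 1) / e) (cn v)) :=
    List.mem_filter.2 ⟨hr, B.feasible_of hG hv hvC (by norm_num) hrow⟩
  have h := List.all_eq_true.1 (List.all_eq_true.1 checkSeven_true e (by simp [he])) (cn v) hh
  rw [Bool.or_eq_true] at h
  have h' := List.all_eq_true.1 (h.resolve_left fun h0 => by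
    rw [List.isEmpty_iff] at h0; rw [h0] at hR; exact List.not_mem_nil hR) r₁ hr₁
  rw [Bool.or_eq_true, Bool.or_eq_true] at h'
  rcases h' with (h' | h') | h'
  · exfalso
    rw [Bool.not_eq_true', ← Bool.not_eq_true] at h'
    exact h' (List.any_eq_true.2 ⟨r, hR, B.subl_host A hrow hrow₁⟩)
  · obtain ⟨j, hj, hj1, hj2, hj3⟩ := inJoint_spec h'
    exact ⟨j, hj, hj1.symm.trans hrow₁.1, hj2.symm.trans hrow₁.2.1, hj3.symm.trans hrow₁.2.2⟩
  · exfalso
    have := List.all_eq_true.1 h' l hl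
    rw [B.hosted_of A hvC hvr ha hchars hrow hR] at this
    simp [hq] at this

/-- The Sylow subgroup at five then generates its centralizer. -/
theorem no_joint (hG : Nat.card G = 443520) (A : Blk11 G) {r : Row} (hr : r ∈ rowsJoint) (hrow : A.1.IsRow r)
    {e c : ℕ} (B : PBlk G 5 e) (hC : Nat.card B.C = 5 * c) (hcm : c ∣ 88704)
    (hmax : e + 1 = 5 → ∀ χ ∈ B.X, dg χ ≤ dg B.y) (he : e = 2 ∨ e = 4) (hc : 2 ∣ c) : False := by
  classical
  haveI : Fact (Nat.Prime 2) := ⟨Nat.prime_two⟩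
  obtain ⟨w, hw⟩ := exists_prime_orderOf_dvd_card' (G := B.C) 2 (hC ▸ dvd_mul_of_dvd_right hc 5)
  set v : G := (w : G)
  have hv : orderOf v = 2 := by rw [Subgroup.orderOf_coe, hw]
  have hvC : v ∈ B.C := w.2
  obtain ⟨x, hxP, -, hxo, -⟩ := exists_gen B.P B.hP
  have h5 : 5 ∣ cn v := hxo ▸ orderOf_dvd_cn (B.comm hxP hvC).eq
  have h2 : 2 ∣ cn v := hv ▸ orderOf_dvd_cn (rfl : v * v = v * v)
  have hh : cn v ∈ smallDivs.filter fun h => Nat.beq (h % 10) 0 := List.mem_filter.2
    ⟨mem_smallDivs (cn_dvd_small hG A hv), by simp [Nat.mod_eq_zero_of_dvd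
      (Nat.Coprime.mul_dvd_of_dvd_of_dvd (by norm_num : Nat.Coprime 2 5) h2 h5)]⟩
  obtain ⟨r', hr', hrow'⟩ := B.exists_row hG (by norm_num) true ok11
    (fun _ χ hχ => B.big_X hG (m := 88704) (by norm_num) (by norm_num) hcm hC (by omega) hχ)
    (fun χ hχ => A.ok11_deg hG χ (by
      rcases hχ with h | rfl
      · exact fun e0 => B.triv_X (e0 ▸ h)
      · exact B.y_ne)) hmax
  obtain ⟨a, ha, -, -⟩ := M22Ord.inv_value hG hv
  obtain ⟨l, hl, -, -, hchars, -, hq⟩ := A.1.exists_vals hG (by norm_num) hv rfl ha hrow false (by simp)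
  rw [A.1.Q_zero (by norm_num) (by norm_num) hv hv ha ha (c := 1) (by rw [A.2]) (by norm_num), mul_zero,
    Int.cast_eq_zero] at hq
  rw [show (11 - 1) / 5 = 2 from rfl] at hchars
  have h := List.all_eq_true.1 (List.all_eq_true.1 checkFiveJoint_true r hr) (cn v) hh
  have hsub := B.subl_host A hrow' hrow
  have hho := B.hosted_of A hvC (by rw [hv]; norm_num) ha hchars hrow' hr'
  rw [Bool.or_eq_true] at h
  have h' := List.all_eq_true.1 (h.resolve_left ?_) l hl
  · rcases he with rfl | rfl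
    · rw [show (5 - 1) / 2 = 2 from rfl] at hho; simp [hho, hq] at h'
    · rw [show (5 - 1) / 4 = 1 from rfl] at hho; simp [hho, hq] at h'
  · rw [Bool.not_eq_true', Bool.or_eq_false_iff]
    rintro ⟨ha', hb'⟩
    rcases he with rfl | rfl
    · rw [show (5 - 1) / 2 = 2 from rfl] at hsub
      rw [List.any_eq_false] at ha'
      exact ha' r' hr' hsub
    · rw [show (5 - 1) / 4 = 1 from rfl] at hsub
      rw [List.any_eq_false] at hb'
      exact hb' r' hr' hsub

end Cfsg.Agent.Invol.M22Ord
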