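import Mathlib
import Cfsg.Agent.Lib.Invol.Order443520.JointDefs
import Cfsg.Agent.Lib.Invol.Order443520.Exclusive
import Cfsg.Agent.Lib.Block.DegGraphSmall.Rational

/-!
Order 443520: soundness of the joint tests on three principal blocks at one element.
-/

set_option autoImplicit false
set_option linter.style.haveILetI false
set_option linter.unusedSectionVars false

namespace Cfsg.Agent.Invol.M22Ord

open scoped ComplexConjugate
open Cfsg Cfsg.Agent.Block Cfsg.Agent.Char Cfsg.Agent.Invol.M12Ord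

universe u

variable {G : Type u} [Group G] [Finite G] [IsSimpleGroup G]

namespace PBlk

variable {p e : ℕ} [Fact p.Prime] (B : PBlk G p e)

/-- The degrees in the block are prime to `p`. -/
theorem not_dvd_members {χ : IrrCharacter G} (hχ : χ ∈ B.members) : ¬ p ∣ dg χ := by
  intro hd
  have hp : p.Prime := Fact.out
  have hd' : (p : ℤ) ∣ (dg χ : ℤ) := Int.natCast_dvd_natCast.2 hd
  rcases B.mem_members.1 hχ with h | h
  · have h1 : (p : ℤ) ∣ B.s χ := by simpa using dvd_sub hd' (B.deg_X χ h)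
    rcases B.s_sign χ h with hs | hs <;> rw [hs] at h1 <;>
      · have := Int.le_of_dvd one_pos (by simpa using h1)
        have := hp.two_le
        omega
  · have h1 : (p : ℤ) ∣ B.ε * (e : ℤ) := by simpa using dvd_sub hd' (B.deg_Y χ h)
    have h2 : p ∣ e := by
      have := h1.mul_left B.ε
      rw [← mul_assoc, B.εε, one_mul] at this
      exact_mod_cast this
    have h3 : p ∣ p - 1 := by
      rw [← B.card_Y]
      exact Dvd.dvd.mul_left h2 _
    have := hp.two_le
    have := Nat.le_of_dvd (by omega) h3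
    omega

include B in
/-- With a full automizer a generator is conjugate to all its nontrivial powers. -/
theorem rational_gen (he : e + 1 = p) {c : ℕ} (hC : Nat.card B.C = p * c) {x : G}
    (hx : x ∈ (B.P : Subgroup G)) (hx1 : x ≠ 1) {k : ℕ} (hk : k.Coprime p) : IsConj (x ^ k) x := by
  classical
  haveI := Fintype.ofFinite G
  have hp : p.Prime := Fact.out
  set N := Subgroup.normalizer ((B.P : Subgroup G) : Set G) with hN
  set S : Finset G := (Finset.univ.filter fun a => a ∈ N).image fun a => a * x * a⁻¹ with hS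
  have h := card_le_stab N x S fun a ha => Finset.mem_image.2 ⟨a, Finset.mem_filter.2 ⟨Finset.mem_univ _, ha⟩, rfl⟩
  rw [B.card_N hC, B.cn_gen hx hx1, inf_eq_right.2 (Subgroup.centralizer_le_normalizer _), hC] at h
  have hsub : S ⊆ (Finset.univ.filter fun a => a ∈ (B.P : Subgroup G)).erase 1 := fun w hw => by
    obtain ⟨a, ha, rfl⟩ := Finset.mem_image.1 hw
    exact Finset.mem_erase.2 ⟨fun e0 => hx1 (conj_eq_one_iff.1 e0), Finset.mem_filter.2 ⟨Finset.mem_univ _,
      (Subgroup.mem_normalizer_iff.1 (Finset.mem_filter.1 ha).2 _).1 hx⟩⟩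
  have hcard : ((Finset.univ.filter fun a => a ∈ (B.P : Subgroup G)).erase 1).card = e := by
    rw [Finset.card_erase_of_mem (by simp), ← Fintype.card_subtype, ← Nat.card_eq_fintype_card,
      show Nat.card (B.P : Subgroup G) = p from B.hP]
    omega
  have hc0 : 0 < p * c := hC ▸ Nat.card_pos
  have hle : e ≤ S.card := Nat.le_of_mul_le_mul_left (by rwa [mul_comm (p * c) e]) hc0
  have heq := Finset.eq_of_subset_of_card_le hsub (by omega)
  have hmem : x ^ k ∈ S := by
    rw [heq]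
    refine Finset.mem_erase.2 ⟨fun e0 => ?_, Finset.mem_filter.2 ⟨Finset.mem_univ _, pow_mem hx k⟩⟩
    have := Nat.dvd_gcd (orderOf_dvd_of_pow_eq_one e0) (dvd_of_eq (B.orderOf_u hx hx1))
    rw [hk, B.orderOf_u hx hx1, Nat.dvd_one] at this
    exact hp.one_lt.ne' this
  obtain ⟨a, -, ha⟩ := Finset.mem_image.1 hmem
  exact (isConj_iff.2 ⟨a, ha⟩).symm

/-- The pairs of degree and value in the block, from the list of values. -/
theorem blockChars_eq {g : G} (hg : ¬ p ∣ orderOf g) {a : IrrCharacter G → ℤ}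
    (ha : ∀ χ : IrrCharacter G, (χ : G → ℂ) g = a χ) {r : Row} (hr : B.IsRow r) {l : List ((ℤ × ℤ) × ℤ)}
    (hl : (l : Multiset ((ℤ × ℤ) × ℤ)) = B.X.val.map fun χ => (((dg χ : ℤ), B.s χ), a χ))
    (hy : aY r l = a B.y) :
    (blockChars ((p - 1) / e) r l : Multiset (ℤ × ℤ)) = B.members.val.map fun χ => ((dg χ : ℤ), a χ) := by
  have ht : (p - 1) / e = B.Y.card := by
    rw [← B.card_Y, Nat.mul_div_cancel _ (show 0 < e by have := B.card_X; omega)]
  rw [blockChars, ← Multiset.coe_add, ← Multiset.map_coe, hl, Multiset.map_map, hr.2.2, hy, ht,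
    Multiset.coe_replicate, members, Finset.disjUnion_val, Multiset.map_add]
  congr 1
  rw [Finset.card_def, ← Multiset.map_const' B.Y.val ((dg B.y : ℤ), a B.y)]
  refine Multiset.map_congr rfl fun ψ hψ => ?_
  rw [B.dg_Y hψ, show a ψ = a B.y from Int.cast_injective (α := ℂ) (by rw [← ha, ← ha]; exact B.eq_y hψ hg)]

end PBlk

/-- Mutually included lists are equal as multisets. -/
theorem eq_of_subl {α : Type} [bi : BEq α] [LawfulBEq α] [DecidableEq α] {l m : List α} (h : subl l m = true)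
    (h' : subl m l = true) : (l : Multiset α) = (m : Multiset α) := by
  obtain rfl : bi = instBEqOfDecidableEq := lawful_beq_subsingleton _ _
  simp only [subl, List.all_eq_true, decide_eq_true_eq] at h h'
  refine Multiset.ext.2 fun x => ?_
  rw [Multiset.coe_count, Multiset.coe_count]
  refine le_antisymm ?_ ?_
  · by_cases hx : x ∈ l
    · exact h x hx
    · rw [List.count_eq_zero.2 hx]; exact Nat.zero_le _
  · by_cases hx : x ∈ m
    · exact h' x hx
    · rw [List.count_eq_zero.2 hx]; exact Nat.zero_le _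

/-- The bounds from the squares of degrees and values and from orthogonality to the identity. -/
theorem bounds_of (hG : Nat.card G = 443520) {g : G} (hg : g ≠ 1) {h : ℕ} (hh : cn g = h)
    {a : IrrCharacter G → ℤ} (ha : ∀ χ : IrrCharacter G, (χ : G → ℂ) g = a χ) {S : Finset (IrrCharacter G)}
    (hS : trivialIrr G ∉ S) {F : List (ℤ × ℤ)}
    (hF : (F : Multiset (ℤ × ℤ)) = S.val.map fun χ => ((dg χ : ℤ), a χ)) : boundsOK h F = true := by
  classical
  have h1 : a (trivialIrr G) = 1 := Int.cast_injective (α := ℂ) (by rw [← ha, Int.cast_one]; rfl)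
  set T := insert (trivialIrr G) S with hT
  have key : ∀ f : ℤ × ℤ → ℤ, f (1, 1) = 1 →
      1 + (F.map f).sum = ∑ χ ∈ T, f ((dg χ : ℤ), a χ) := fun f hf => by
    rw [hT, Finset.sum_insert hS, h1, dg_trivial, Nat.cast_one, hf]
    have e1 : ((F : Multiset (ℤ × ℤ)).map f).sum = (F.map f).sum := by simp
    rw [← e1, hF, Multiset.map_map]
    rfl
  have hd : degOf F = ∑ χ ∈ T, (dg χ : ℤ) * dg χ := key (fun x => x.1 * x.1) rfl
  have hn : normOf F = ∑ χ ∈ T, a χ * a χ := key (fun x => x.2 * x.2) rfl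
  have ho : orthOf F = ∑ χ ∈ T, (dg χ : ℤ) * a χ := key (fun x => x.1 * x.2) rfl
  have hdall : ∑ χ : IrrCharacter G, (dg χ : ℤ) * dg χ = 443520 := by
    rw [show (443520 : ℤ) = ((443520 : ℕ) : ℤ) from rfl, ← M22Ord.sum_sq hG]
    push_cast
    simp only [sq]
  have hnall : ∑ χ : IrrCharacter G, a χ * a χ = (h : ℤ) := by rw [norm_eq a ha, hh]
  have ho' : ∑ χ : IrrCharacter G, (dg χ : ℤ) * a χ = 0 := by
    rw [← orth_one_int hg a ha]
    exact Finset.sum_congr rfl fun χ _ => mul_comm _ _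
  rw [← Finset.sum_sdiff (Finset.subset_univ T)] at hdall hnall ho'
  have hcs := Finset.sum_mul_sq_le_sq_mul_sq (Finset.univ \ T) (fun χ => (dg χ : ℤ)) a
  simp only [sq] at hcs
  have hd0 : 0 ≤ ∑ χ ∈ Finset.univ \ T, (dg χ : ℤ) * dg χ := Finset.sum_nonneg fun _ _ => mul_self_nonneg _
  have hn0 : 0 ≤ ∑ χ ∈ Finset.univ \ T, a χ * a χ := Finset.sum_nonneg fun _ _ => mul_self_nonneg _
  rw [← hd] at hdall
  rw [← hn] at hnall
  rw [← ho] at ho'
  simp only [boundsOK, Bool.and_eq_true, decide_eq_true_eq]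
  refine ⟨⟨by omega, by omega⟩, ?_⟩
  rw [show orthOf F = -(∑ χ ∈ Finset.univ \ T, (dg χ : ℤ) * a χ) by omega, neg_mul_neg,
    show 443520 - degOf F = ∑ χ ∈ Finset.univ \ T, (dg χ : ℤ) * dg χ by omega,
    show (h : ℤ) - normOf F = ∑ χ ∈ Finset.univ \ T, a χ * a χ by omega]
  exact hcs

/-- A count gives a natural number. -/
theorem countOK_of (hG : Nat.card G = 443520) {p e k : ℕ} [Fact p.Prime] (B : PBlk G p e) {x y : G}
    (hx : ¬ p ∣ orderOf x) (hy : ¬ p ∣ orderOf y) {a b : IrrCharacter G → ℤ}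
    (ha : ∀ χ : IrrCharacter G, (χ : G → ℂ) x = a χ) (hb : ∀ χ : IrrCharacter G, (χ : G → ℂ) y = b χ)
    (hC : Nat.card B.C = p) (hk : p - 1 = k) {hx' hy' : ℕ} (h1 : cn x = hx') (h2 : cn y = hy') {q : ℤ × ℤ}
    (hq0 : 0 < q.2) (hq : (q.1 : ℂ) = (q.2 : ℂ) * B.Q a b) : countOK k hx' hy' q = true := by
  have hC' : Nat.card B.C = p * 1 := by rw [hC, mul_one]
  have hpc : ¬ p ∣ 1 := (Fact.out : p.Prime).not_dvd_one
  obtain ⟨K, hK⟩ := B.count hx hy ha hb hC' hpc
  rw [B.card_W hC' hpc, mul_one, hk, hG, h1, h2] at hK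
  have h : (443520 * (k : ℤ) * q.1 : ℤ) = (hx' : ℤ) * (hy' : ℤ) * q.2 * (K : ℤ) := by
    apply Int.cast_injective (α := ℂ)
    push_cast
    rw [hq]
    push_cast at hK
    linear_combination (q.2 : ℂ) * hK
  have hpos : (0 : ℤ) ≤ 443520 * (k : ℤ) * q.1 := by rw [h]; positivity
  have hk0 : 0 < k := by have := (Fact.out : p.Prime).two_le; omega
  simp only [countOK, Bool.and_eq_true, decide_eq_true_eq]
  exact ⟨nonneg_of_mul_nonneg_right hpos (by positivity), by rw [h]; exact Int.mul_emod_right _ _⟩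

variable [Fact (Nat.Prime 11)]

/-- The members of the three blocks with any data attached. -/
theorem fitted_of (A : Blk11 G) {p e q e' : ℕ} [Fact p.Prime] [Fact q.Prime] (B : PBlk G p e) (B' : PBlk G q e')
    (hC' : Nat.card B'.C = q) {α : Type} [bi : BEq α] [LawfulBEq α] [DecidableEq α] (d : α → ℤ) (f : IrrCharacter G → α)
    (hdf : ∀ χ, d (f χ) = (dg χ : ℤ)) {m₁ m m' : List α}
    (h₁ : (m₁ : Multiset α) = A.1.members.val.map f) (h : (m : Multiset α) = B.members.val.map f)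
    (h' : (m' : Multiset α) = B'.members.val.map f) :
    fitted d q m₁ m m' = true ∧
      (∀ x ∈ m'.diff (mustPart d q (m₁ ++ freePart d m)), (d x).natAbs % 11 = 0) ∧
      ∃ S : Finset (IrrCharacter G), trivialIrr G ∉ S ∧ (glue d q m₁ m m' : Multiset α) = S.val.map f ∧
        ∀ χ, (χ ∈ A.1.members ∨ (χ ∈ B.members ∧ 11 ∣ dg χ) ∨ χ ∈ B'.members) → χ ∈ S := by
  classical
  obtain rfl : bi = instBEqOfDecidableEq := lawful_beq_subsingleton _ _
  have hd : ∀ (k : ℕ) χ, ((d (f χ)).natAbs % k = 0 ↔ k ∣ dg χ) := fun k χ => by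
    rw [hdf, Int.natAbs_natCast]; exact (Nat.dvd_iff_mod_eq_zero).symm
  set F := B.members.filter fun χ => 11 ∣ dg χ with hF
  have hdisj : Disjoint A.1.members F := Finset.disjoint_left.2 fun χ hA hF' =>
    A.1.not_dvd_members hA (Finset.mem_filter.1 hF').2
  set S₀ := A.1.members.disjUnion F hdisj with hS₀
  set M := S₀.filter fun χ => ¬ q ∣ dg χ with hM
  have htriv : trivialIrr G ∉ S₀ := by
    simp [hS₀, hF, A.1.triv_members, B.triv_members]
  have hfree : (m₁ ++ freePart d m : List α) = (S₀.val.map f : Multiset α) := by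
    rw [← Multiset.coe_add, h₁, freePart, ← Multiset.filter_coe, h, Multiset.filter_map, hS₀,
      Finset.disjUnion_val, Multiset.map_add, hF, Finset.filter_val]
    congr 2
    exact Multiset.filter_congr fun χ _ => by simp [hd]
  have hmust : (mustPart d q (m₁ ++ freePart d m) : Multiset α) = M.val.map f := by
    rw [mustPart, ← Multiset.filter_coe, hfree, Multiset.filter_map, hM, Finset.filter_val]
    exact congrArg _ (Multiset.filter_congr fun χ _ => by simp [hd])
  have hMB : M ⊆ B'.members := fun χ hχ => by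
    obtain ⟨hχS, hq⟩ := Finset.mem_filter.1 hχ
    by_contra hn
    rw [B'.mem_members, not_or] at hn
    exact hq (B'.out hC' χ (fun e0 => htriv (e0 ▸ hχS)) hn.1 hn.2)
  have hrest : (m'.diff (mustPart d q (m₁ ++ freePart d m)) : Multiset α) = (B'.members \ M).val.map f := by
    rw [← Multiset.coe_sub, h', hmust]
    conv_lhs => rw [← Finset.disjUnion_eq_union M (B'.members \ M) Finset.disjoint_sdiff |>.trans
      (Finset.union_sdiff_of_subset hMB)]
    rw [Finset.disjUnion_val, Multiset.map_add, add_tsub_cancel_left]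
  refine ⟨?_, fun x hx => ?_, ?_⟩
  · simp only [fitted, Bool.and_eq_true]
    constructor
    · refine subl_of_le ?_
      rw [h₁, hostPart, ← Multiset.filter_coe, h, Multiset.filter_map]
      refine le_trans (le_of_eq ?_) (Blk11.host_le A f B.triv_members)
      rw [Finset.filter_val]
      exact congrArg _ (Multiset.filter_congr fun χ _ => by simp [hd])
    · refine subl_of_le ?_
      rw [hmust, h']
      exact Multiset.map_le_map (Finset.val_le_iff.2 hMB)
  · have hx' : x ∈ (m'.diff (mustPart d q (m₁ ++ freePart d m)) : Multiset α) := hx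
    rw [hrest, Multiset.mem_map] at hx'
    obtain ⟨χ, hχ, rfl⟩ := hx'
    obtain ⟨hχ', hχM⟩ := Finset.mem_sdiff.1 hχ
    rw [hd]
    by_contra h11
    refine hχM (Finset.mem_filter.2 ⟨Finset.mem_disjUnion.2 (Or.inl ?_), B'.not_dvd_members hχ'⟩)
    by_contra hA
    exact h11 (Blk11.eleven_dvd A (fun e0 => B'.triv_members (e0 ▸ hχ')) hA)
  · have hdisj' : Disjoint S₀ (B'.members \ M) := Finset.disjoint_left.2 fun χ hχ hχ' =>
      (Finset.mem_sdiff.1 hχ').2 (Finset.mem_filter.2 ⟨hχ, B'.not_dvd_members (Finset.mem_sdiff.1 hχ').1⟩)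
    refine ⟨S₀.disjUnion _ hdisj', ?_, ?_, fun χ hχ => ?_⟩
    · simp [htriv, B'.triv_members]
    · show (((m₁ ++ freePart d m) ++ m'.diff (mustPart d q (m₁ ++ freePart d m)) : List α) : Multiset α) = _
      rw [← Multiset.coe_add, hfree, hrest]
      simp only [hS₀, Finset.disjUnion_val, Multiset.map_add]
    · rw [Finset.mem_disjUnion]
      rcases hχ with h | h | h
      · exact Or.inl (Finset.mem_disjUnion.2 (Or.inl h))
      · exact Or.inl (Finset.mem_disjUnion.2 (Or.inr (Finset.mem_filter.2 h)))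
      · by_cases hM' : χ ∈ M
        · exact Or.inl (Finset.mem_filter.1 hM').1
        · exact Or.inr (Finset.mem_sdiff.2 ⟨h, hM'⟩)

/-- A successful search gives its rule on the values found. -/
theorem search_sound (hG : Nat.card G = 443520) (A : Blk11 G) {p e q e' : ℕ} [Fact p.Prime] [Fact q.Prime]
    (hp2 : p ≠ 2) (hq2 : q ≠ 2) (B : PBlk G p e) (B' : PBlk G q e') {c : ℕ} (hC : Nat.card B.C = p * c)
    (hpc : ¬ p ∣ c) (hC' : Nat.card B'.C = q) {cg : Bool} {R R' R₁ : List Row} {H : List ℕ}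
    {K : ℕ → Row → List ((ℤ × ℤ) × ℤ) → Row → List ((ℤ × ℤ) × ℤ) → Row → List ((ℤ × ℤ) × ℤ) → Bool}
    (hs : search p e q e' cg R R' R₁ H K = true) {r₁ r r' : Row} (hR₁ : r₁ ∈ R₁) (hr₁ : A.1.IsRow r₁)
    (hR : r ∈ R) (hr : B.IsRow r) (hR' : r' ∈ R') (hr' : B'.IsRow r') {v : G} (hv : orderOf v = 2)
    (hvC : cg = true → v ∈ B.C) {h : ℕ} (hh : cn v = h) (hH : h ∈ H)
    {a : IrrCharacter G → ℤ} (ha : ∀ χ : IrrCharacter G, (χ : G → ℂ) v = a χ) :
    ∃ l₁ l l' : List ((ℤ × ℤ) × ℤ), (l₁ : Multiset ((ℤ × ℤ) × ℤ)) = A.1.X.val.map (fun χ => (((dg χ : ℤ), A.1.s χ), a χ)) ∧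
      (l : Multiset ((ℤ × ℤ) × ℤ)) = B.X.val.map (fun χ => (((dg χ : ℤ), B.s χ), a χ)) ∧
      (l' : Multiset ((ℤ × ℤ) × ℤ)) = B'.X.val.map (fun χ => (((dg χ : ℤ), B'.s χ), a χ)) ∧
      aY r₁ l₁ = a A.1.y ∧ aY r l = a B.y ∧ aY r' l' = a B'.y ∧ K h r₁ l₁ r l r' l' = true := by
  classical
  have hv1 : v ≠ 1 := ne_one_of_orderOf hv (by norm_num)
  have hvr : ∀ {k : ℕ}, k.Prime → k ≠ 2 → ¬ k ∣ orderOf v := fun hk hk2 hd =>
    hk2 ((Nat.prime_dvd_prime_iff_eq hk Nat.prime_two).1 (hv ▸ hd))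
  obtain ⟨l₁, hl₁, e₁, y₁, c₁, -, q₁⟩ := A.1.exists_vals hG (by norm_num) hv hh ha hr₁ false (by simp)
  obtain ⟨l, hl, eB, yB, cB, -, qB⟩ := B.exists_vals hG hp2 hv hh ha hr cg hvC
  obtain ⟨l', hl', eB', yB', cB', q0', qB'⟩ := B'.exists_vals hG hq2 hv hh ha hr' false (by simp)
  rw [show (11 - 1) / 5 = 2 from rfl] at c₁
  have d₁ := A.1.blockDegs_eq hr₁
  rw [show (11 - 1) / 5 = 2 from rfl] at d₁
  obtain ⟨hf, hr11, S, hS, hg, -⟩ := fitted_of A B B' hC' id (fun χ => (dg χ : ℤ)) (fun _ => rfl) d₁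
    (B.blockDegs_eq hr) (B'.blockDegs_eq hr')
  have hcfg : (r, r') ∈ configs p e q e' R R' r₁ := by
    refine List.mem_flatMap.2 ⟨r, List.mem_filter.2 ⟨hR, B.subl_host A hr hr₁⟩,
      List.mem_map.2 ⟨r', List.mem_filter.2 ⟨hR', ?_⟩, rfl⟩⟩
    simp only [degFits, Bool.and_eq_true, List.all_eq_true, decide_eq_true_eq]
    refine ⟨⟨hf, fun x hx => hr11 x hx⟩, ?_⟩
    have e1 : ((glue id q (blockDegs 2 r₁) (blockDegs ((p - 1) / e) r) (blockDegs ((q - 1) / e') r') :
        Multiset ℤ).map fun x => x * x).sum = ((glue id q (blockDegs 2 r₁) (blockDegs ((p - 1) / e) r)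
          (blockDegs ((q - 1) / e') r')).map fun x => x * x).sum := by simp
    rw [← e1, hg, Multiset.map_map]
    have := M22Ord.sum_sq_le hG (insert (trivialIrr G) S)
    rw [Finset.sum_insert hS, dg_trivial, one_pow] at this
    show 1 + ∑ χ ∈ S, (dg χ : ℤ) * dg χ ≤ 443520
    simp only [← sq]
    exact_mod_cast this
  have h0 := List.all_eq_true.1 hs r₁ hR₁
  rw [Bool.or_eq_true] at h0
  have h1 := List.all_eq_true.1 (h0.resolve_left fun he => by
    rw [List.isEmpty_iff] at he; rw [he] at hcfg; exact List.not_mem_nil hcfg) h hH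
  have hA0 : A.1.Q a a = 0 :=
    A.1.Q_zero (by norm_num) (by norm_num) hv hv ha ha (c := 1) (by rw [A.2]) (by norm_num)
  rw [hA0, mul_zero, Int.cast_eq_zero] at q₁
  have hL₁ : l₁ ∈ (blockVals 11 5 h false r₁).filter fun l => decide ((qfold (qsq r₁ l)).1 = 0) :=
    List.mem_filter.2 ⟨hl₁, by simp [q₁]⟩
  rw [Bool.or_eq_true] at h1
  have h2 := List.all_eq_true.1 (h1.resolve_left fun he => by
    rw [List.isEmpty_iff] at he; rw [he] at hL₁; exact List.not_mem_nil hL₁) (r, r') hcfg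
  have h3 := List.all_eq_true.1 (List.all_eq_true.1 h2 l₁ hL₁) l ?_
  · obtain ⟨hf2, -, S2, hS2, hg2, -⟩ := fitted_of A B B' hC' Prod.fst (fun χ => ((dg χ : ℤ), a χ))
      (fun _ => rfl) c₁ cB cB'
    rw [Bool.or_eq_true] at h3
    rcases h3 with h3 | h3
    · exfalso
      simp only [fitted, Bool.and_eq_true] at hf2
      simp [hf2.1] at h3
    have h4 := List.all_eq_true.1 h3 l' (List.mem_filter.2 ⟨hl', ?_⟩)
    · rw [Bool.or_eq_true, Bool.or_eq_true] at h4
      refine ⟨l₁, l, l', e₁, eB, eB', y₁, yB, yB', ?_⟩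
      rcases h4 with (h4 | h4) | h4
      · simp [hf2] at h4
      · simp [bounds_of hG hv1 hh ha hS2 hg2] at h4
      · exact h4
    · unfold qTest
      by_cases he : e' % 2 = 1
      · rw [B'.Q_zero hq2 (by omega) hv hv ha ha (c := 1) (by rw [hC', mul_one]) (Fact.out : q.Prime).not_dvd_one,
          mul_zero, Int.cast_eq_zero] at qB'
        simp [he, qB']
      · rw [show Nat.beq (e' % 2) 1 = false from Bool.eq_false_iff.2 fun hb => he (Nat.eq_of_beq_eq_true hb),
          cond_false]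
        exact countOK_of hG B' (hvr Fact.out hq2) (hvr Fact.out hq2) ha ha hC' rfl hh hh q0' qB'
  · by_cases he : e % 2 = 1
    · rw [B.Q_zero hp2 (by omega) hv hv ha ha hC hpc, mul_zero, Int.cast_eq_zero] at qB
      simp [he, hl, qB]
    · rw [show Nat.beq (e % 2) 1 = false from Bool.eq_false_iff.2 fun hb => he (Nat.eq_of_beq_eq_true hb)]
      exact hl

end Cfsg.Agent.Invol.M22Ord
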