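import Mathlib
import Cfsg.Agent.Lib.Invol.Order443520.Joint
import Cfsg.Agent.Lib.Invol.Order443520.CheckJointFive

/-!
Simple groups of order 443520: elements of order seven and of order five generate their centralizers.
-/

set_option autoImplicit false
set_option linter.style.haveILetI false
set_option linter.unusedSectionVars false

namespace Cfsg.Agent.Invol.M22Ord

open scoped ComplexConjugate
open Cfsg Cfsg.Agent.Block Cfsg.Agent.Char Cfsg.Agent.Invol.M12Ord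

universe u

variable {G : Type u} [Group G] [Finite G] [IsSimpleGroup G]

namespace PBlk

variable {p e : ℕ} [Fact p.Prime] (B : PBlk G p e)

theorem aY₂_eq {g : G} (hg : ¬ p ∣ orderOf g) {b : IrrCharacter G → ℤ}
    (hb : ∀ χ : IrrCharacter G, (χ : G → ℂ) g = b χ) {r : Row} (hr : B.IsRow r) {a : IrrCharacter G → ℤ}
    {w : List (((ℤ × ℤ) × ℤ) × ℤ)} (hw : (w : Multiset (((ℤ × ℤ) × ℤ) × ℤ)) =
      B.X.val.map fun χ => ((((dg χ : ℤ), B.s χ), a χ), b χ)) : aY₂ r w = b B.y := by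
  have hrel : B.ε * b B.y = 1 + ∑ χ ∈ B.X, B.s χ * b χ := by
    have h0 := B.rel B.y B.y_mem g hg
    simp only [hb] at h0
    apply Int.cast_injective (α := ℂ)
    push_cast
    exact h0
  have e1 : ((w : Multiset (((ℤ × ℤ) × ℤ) × ℤ)).map fun x => x.1.1.2 * x.2).sum =
      (w.map fun x => x.1.1.2 * x.2).sum := by simp
  rw [aY₂, ← e1, hw, Multiset.map_map, hr.2.1]
  show B.ε * (1 + ∑ χ ∈ B.X, B.s χ * b χ) = b B.y
  rw [← hrel, ← mul_assoc, B.εε, one_mul]

/-- The values in a block at an element of order five, given those at an involution. -/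
theorem exists_col (hp5 : p ≠ 5) (hp2 : p ≠ 2) {v x : G} (hv : orderOf v = 2) (hx : orderOf x = 5) {N : ℕ}
    (hN : cn x ≤ N) (hN23 : N < 576) {a b : IrrCharacter G → ℤ}
    (ha : ∀ χ : IrrCharacter G, (χ : G → ℂ) v = a χ) (hb : ∀ χ : IrrCharacter G, (χ : G → ℂ) x = b χ)
    (hcg : ∀ χ : IrrCharacter G, (5 : ℤ) ∣ b χ - (dg χ : ℤ)) {r : Row} (hr : B.IsRow r)
    {l : List ((ℤ × ℤ) × ℤ)} (hl : (l : Multiset ((ℤ × ℤ) × ℤ)) = B.X.val.map fun χ => (((dg χ : ℤ), B.s χ), a χ))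
    (hy : aY r l = a B.y) : ∃ w ∈ colVals N r l,
      (blockChars₂ ((p - 1) / e) r l w : Multiset Val₂) = B.members.val.map (fun χ => ((dg χ : ℤ), a χ, b χ)) ∧
      (0 < (qfold (qsq₂ r w)).2 ∧ ((qfold (qsq₂ r w)).1 : ℂ) = ((qfold (qsq₂ r w)).2 : ℂ) * B.Q b b) ∧
      (0 < (qfold (qmix r l w)).2 ∧ ((qfold (qmix r l w)).1 : ℂ) = ((qfold (qmix r l w)).2 : ℂ) * B.Q a b) := by
  classical
  have hp : p.Prime := Fact.out
  have hvr : ¬ p ∣ orderOf v := fun hd => hp2 ((Nat.prime_dvd_prime_iff_eq hp Nat.prime_two).1 (hv ▸ hd))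
  have hxr : ¬ p ∣ orderOf x := fun hd =>
    hp5 ((Nat.prime_dvd_prime_iff_eq hp (by norm_num)).1 (hx ▸ hd))
  obtain ⟨w, hw, hwl⟩ := exists_lift Prod.fst l (B.X.val.map fun χ => ((((dg χ : ℤ), B.s χ), a χ), b χ))
    (by rw [Multiset.map_map, hl]; rfl)
  have hY := B.aY₂_eq hxr hb hr hw
  have hcand : ∀ χ : IrrCharacter G, χ ≠ trivialIrr G → b χ ∈ candX 5 N (dg χ : ℤ) := fun χ hχ => by
    have hn := norm_insert_le {χ} (by simp [hχ.symm]) b hb
    rw [Finset.sum_singleton, ← Int.natAbs_mul_self (a := b χ)] at hn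
    have hsq : (b χ).natAbs * (b χ).natAbs ≤ N := by omega
    have h23 : (b χ).natAbs ≤ 23 := by
      by_contra h
      have : 24 * 24 ≤ (b χ).natAbs * (b χ).natAbs := Nat.mul_le_mul (by omega) (by omega)
      omega
    refine List.mem_filter.2 ⟨List.mem_map.2 ⟨(b χ + 23).toNat, List.mem_range.2 (by omega), by omega⟩, ?_⟩
    simp only [Bool.and_eq_true, Nat.ble_eq, Nat.beq_eq]
    exact ⟨hsq, Nat.mod_eq_zero_of_dvd (Int.natCast_dvd.1 (hcg χ))⟩
  have hbud : (w.map fun z => wval z.2).sum ≤ N := by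
    have e1 : ((w : Multiset (((ℤ × ℤ) × ℤ) × ℤ)).map fun z => wval z.2).sum = (w.map fun z => wval z.2).sum := by
      simp
    rw [← e1, hw, Multiset.map_map]
    have hn := norm_insert_le B.X B.triv_X b hb
    show ∑ χ ∈ B.X, wval (b χ) ≤ N
    have e2 : ((∑ χ ∈ B.X, wval (b χ) : ℕ) : ℤ) = ∑ χ ∈ B.X, b χ * b χ := by
      push_cast [wval]
      exact Finset.sum_congr rfl fun χ _ => by rw [← Int.natAbs_mul_self (a := b χ)]; push_cast; rfl
    omega
  refine ⟨w, List.mem_filter.2 ⟨?_, ?_⟩, ?_, B.Q_eq_qfold b b (qsq₂ r w) ?_, B.Q_eq_qfold a b (qmix r l w) ?_⟩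
  · have h := mem_assigns wval (fun z : (ℤ × ℤ) × ℤ => candX 5 N z.1.1) w N (fun z hz => ?_) hbud
    · rwa [hwl] at h
    · have hz' : z ∈ (w : Multiset (((ℤ × ℤ) × ℤ) × ℤ)) := hz
      rw [hw, Multiset.mem_map] at hz'
      obtain ⟨χ, hχ, rfl⟩ := hz'
      exact hcand χ fun e0 => B.triv_X (e0 ▸ hχ)
  · rw [List.contains_iff_mem, hY, hr.2.2]
    exact hcand B.y B.y_ne
  · have ht : (p - 1) / e = B.Y.card := by
      rw [← B.card_Y, Nat.mul_div_cancel _ (show 0 < e by have := B.card_X; omega)]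
    rw [blockChars₂, ← Multiset.coe_add, ← Multiset.map_coe, hw, Multiset.map_map, hr.2.2, hy, hY, ht,
      Multiset.coe_replicate, members, Finset.disjUnion_val, Multiset.map_add]
    congr 1
    rw [Finset.card_def, ← Multiset.map_const' B.Y.val ((dg B.y : ℤ), a B.y, b B.y)]
    refine Multiset.map_congr rfl fun ψ hψ => ?_
    rw [B.dg_Y hψ, show a ψ = a B.y from Int.cast_injective (α := ℂ) (by rw [← ha, ← ha]; exact B.eq_y hψ hvr),
      show b ψ = b B.y from Int.cast_injective (α := ℂ) (by rw [← hb, ← hb]; exact B.eq_y hψ hxr)]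
  · rw [qsq₂, hr.2.2, hY, hr.2.1, ← Multiset.cons_coe, ← Multiset.map_coe, hw, Multiset.map_map]
    rfl
  · rw [qmix, hr.2.2, hy, hY, hr.2.1, ← Multiset.cons_coe, ← Multiset.map_coe, hw, Multiset.map_map]
    rfl

end PBlk

/-- A generator of the Sylow subgroup at five cannot exist beside the values found at an involution. -/
theorem killFive_false (hG : Nat.card G = 443520) [Fact (Nat.Prime 5)] [Fact (Nat.Prime 7)]
    [Fact (Nat.Prime 11)] (A : Blk11 G) (B : PBlk G 5 4) {c : ℕ} (hC : Nat.card B.C = 5 * c)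
    (hc : c ∈ [6, 16, 36, 96]) (B' : PBlk G 7 3) (hC' : Nat.card B'.C = 7) {v : G} (hv : orderOf v = 2)
    {h : ℕ} (hh : cn v = h) {a : IrrCharacter G → ℤ} (ha : ∀ χ : IrrCharacter G, (χ : G → ℂ) v = a χ)
    {r₁ r r' : Row} (hr₁ : A.1.IsRow r₁) (hr : B.IsRow r) (hr' : B'.IsRow r')
    {l₁ l l' : List ((ℤ × ℤ) × ℤ)}
    (e₁ : (l₁ : Multiset ((ℤ × ℤ) × ℤ)) = A.1.X.val.map fun χ => (((dg χ : ℤ), A.1.s χ), a χ))
    (eB : (l : Multiset ((ℤ × ℤ) × ℤ)) = B.X.val.map fun χ => (((dg χ : ℤ), B.s χ), a χ))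
    (eB' : (l' : Multiset ((ℤ × ℤ) × ℤ)) = B'.X.val.map fun χ => (((dg χ : ℤ), B'.s χ), a χ))
    (y₁ : aY r₁ l₁ = a A.1.y) (yB : aY r l = a B.y) (yB' : aY r' l' = a B'.y)
    (hk : killFive h r₁ l₁ r l r' l' = true) : False := by
  classical
  obtain ⟨x, hx, hx1, hxo, -, hxc⟩ := exists_gen B.P B.hP
  have hcn : cn x = 5 * c := by rw [← hC, ← B.cn_gen hx hx1]
  choose b m hb hbm using fun χ : IrrCharacter G => Cfsg.Agent.Block.DGS.rational_value hxo
    (fun k hk => B.rational_gen (by norm_num) hC hx hx1 hk) χ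
  have hcg : ∀ χ : IrrCharacter G, (5 : ℤ) ∣ b χ - (dg χ : ℤ) := fun χ => by
    have h := hbm χ
    change (dg χ : ℤ) + ((5 : ℤ) - 1) * b χ = 5 * (m χ : ℤ) at h
    exact ⟨b χ - m χ, by linarith⟩
  have hc96 : c ≤ 96 := by
    simp only [List.mem_cons, List.not_mem_nil, or_false] at hc; omega
  have hx7 : ¬ 7 ∣ orderOf x := by rw [hxo]; norm_num
  have hx11 : ¬ 11 ∣ orderOf x := by rw [hxo]; norm_num
  obtain ⟨w, hw, mw, qw, qm⟩ := A.1.exists_col (by norm_num) (by norm_num) hv hxo hcn.le (by omega) ha hb hcg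
    hr₁ e₁ y₁
  obtain ⟨w', hw', mw', qw', -⟩ := B'.exists_col (by norm_num) (by norm_num) hv hxo hcn.le (by omega) ha hb hcg
    hr' eB' yB'
  have hW : w ∈ (colVals (5 * c) r₁ l₁).filter fun w =>
      countOK 10 (5 * c) (5 * c) (qfold (qsq₂ r₁ w)) && countOK 10 h (5 * c) (qfold (qmix r₁ l₁ w)) := by
    refine List.mem_filter.2 ⟨hw, Bool.and_eq_true _ _ ▸ ⟨?_, ?_⟩⟩
    · exact countOK_of hG A.1 hx11 hx11 hb hb A.2 rfl hcn hcn qw.1 qw.2
    · exact countOK_of hG A.1 (by rw [hv]; norm_num) hx11 ha hb A.2 rfl hh hcn qm.1 qm.2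
  have hW' : w' ∈ (colVals (5 * c) r' l').filter fun w =>
      countOK 6 (5 * c) (5 * c) (qfold (qsq₂ r' w)) :=
    List.mem_filter.2 ⟨hw', countOK_of hG B' hx7 hx7 hb hb hC' rfl hcn hcn qw'.1 qw'.2⟩
  have hown : (ownChars r l : Multiset Val₂) = B.members.val.map fun χ => ((dg χ : ℤ), a χ, b χ) := by
    have hs : ∀ χ ∈ B.X, b χ = B.s χ := fun χ hχ => Int.cast_injective (α := ℂ) (by
      rw [← hb, ← B.valX χ hχ x hx hx1 1 (one_mem _) (by rw [orderOf_one]; norm_num), mul_one])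
    have hY1 : B.Y = {B.y} := (Finset.eq_of_subset_of_card_le (Finset.singleton_subset_iff.2 B.y_mem) (by
      have := B.card_Y; rw [Finset.card_singleton]; omega)).symm
    have hby : b B.y = -B.ε := Int.cast_injective (α := ℂ) (by
      have h := B.sum_Y hx hx1 (one_mem B.C) (by rw [orderOf_one]; norm_num)
      rw [hY1, Finset.sum_singleton, mul_one] at h
      rw [← hb, h, Int.cast_neg])
    rw [ownChars, ← Multiset.coe_add, ← Multiset.map_coe, eB, Multiset.map_map, PBlk.members,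
      Finset.disjUnion_val, Multiset.map_add, hY1, Finset.singleton_val, Multiset.map_singleton,
      Multiset.coe_singleton, yB, hr.2.2, hr.2.1, hby]
    congr 1
    exact Multiset.map_congr rfl fun χ hχ => by simp [hs χ hχ]
  rw [show (11 - 1) / 5 = 2 from rfl] at mw
  rw [show (7 - 1) / 3 = 2 from rfl] at mw'
  obtain ⟨hf, -, S, hS, hg, -⟩ := fitted_of A B B' hC' Prod.fst (fun χ => ((dg χ : ℤ), a χ, b χ)) (fun _ => rfl)
    mw hown mw'
  have h := List.all_eq_true.1 (List.all_eq_true.1 (List.all_eq_true.1 hk c hc) w hW) w' hW'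
  rw [hf, bounds_of hG hx1 hcn hb hS (by rw [← Multiset.map_coe, hg, Multiset.map_map]; rfl)] at h
  simp at h

variable [Fact (Nat.Prime 5)] [Fact (Nat.Prime 7)] [Fact (Nat.Prime 11)]

theorem rows_ok11 (hG : Nat.card G = 443520) (A : Blk11 G) {p e : ℕ} [Fact p.Prime] (B : PBlk G p e)
    (χ : IrrCharacter G) (h : χ ∈ B.X ∨ χ = B.y) : ok11 (dg χ) = true :=
  A.ok11_deg hG χ (by
    rcases h with h | rfl
    · exact fun e0 => B.triv_X (e0 ▸ h)
    · exact B.y_ne)

theorem five_small (hG : Nat.card G = 443520) (A : Blk11 G) {v : G} (hv : orderOf v = 2) :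
    cn v ∈ smallDivs := mem_smallDivs (cn_dvd_small hG A hv)

/-- An element of order seven generates its centralizer and the automizer has order three. -/
theorem seven_self (hG : Nat.card G = 443520) (A : Blk11 G) (P : Sylow 7 G) :
    ∃ B : PBlk G 7 3, B.P = P ∧ Nat.card B.C = 7 := by
  classical
  obtain ⟨e, c, B, hB, hC, hcm, hmax, hopt⟩ := seven_options hG A P
  rcases hopt with ⟨rfl, rfl⟩ | hec
  · exact ⟨B, hB, by rw [hC]⟩
  exfalso
  obtain ⟨r₁, hj, hr₁⟩ := joint_seven hG A B hC hcm hmax hec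
  obtain ⟨Q⟩ : Nonempty (Sylow 5 G) := inferInstance
  obtain ⟨e', c', B', -, hC', hcm', hmax', hopt'⟩ := five_options hG A Q
  rcases hopt' with ⟨rfl, rfl⟩ | hec'
  swap
  · simp only [List.mem_cons, List.not_mem_nil, or_false, Prod.mk.injEq] at hec'
    exact no_joint hG A hj hr₁ B' hC' hcm' hmax' (by omega) (by omega)
  rw [mul_one] at hC'
  have hc : c ≠ 1 ∧ ¬ 7 ∣ c ∧ (e = 3 ∨ (e = 6 ∧ ∃ k, c = 2 ^ k ∧ k ≠ 0)) := by
    simp only [List.mem_cons, List.not_mem_nil, or_false, Prod.mk.injEq] at hec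
    rcases hec with ⟨rfl, rfl⟩ | ⟨rfl, rfl⟩ | ⟨rfl, rfl⟩ | ⟨rfl, rfl⟩
    · norm_num
    · norm_num
    · exact ⟨by norm_num, by norm_num, Or.inr ⟨rfl, 2, by norm_num⟩⟩
    · exact ⟨by norm_num, by norm_num, Or.inr ⟨rfl, 5, by norm_num⟩⟩
  obtain ⟨r, hr, hrow⟩ := B.exists_row hG (by norm_num) true ok11
    (fun _ χ hχ => B.big_X hG (m := 63360) (by norm_num) (by norm_num) hcm hC hc.1 hχ) (rows_ok11 hG A B) hmax
  obtain ⟨r', hr', hrow'⟩ := B'.exists_row hG (by norm_num) false ok11 (fun h => by simp at h)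
    (rows_ok11 hG A B') hmax'
  rcases hc.2.2 with rfl | ⟨rfl, k, hk, hk0⟩
  · haveI : Fact (Nat.Prime 2) := ⟨Nat.prime_two⟩
    obtain ⟨S⟩ : Nonempty (Sylow 2 G) := inferInstance
    have hS : Nat.card S = 2 ^ 7 := by
      rw [S.card_eq_multiplicity, hG, show (443520 : ℕ) = 2 ^ 7 * 3465 by norm_num,
        Nat.factorization_mul (by norm_num) (by norm_num), Finsupp.add_apply,
        Nat.Prime.factorization_pow (by norm_num : Nat.Prime 2), Finsupp.single_eq_same,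
        Nat.factorization_eq_zero_of_not_dvd (by norm_num : ¬ 2 ∣ 3465)]
    haveI : Nontrivial S := Finite.one_lt_card_iff_nontrivial.1 (by rw [hS]; norm_num)
    have hSp : IsPGroup 2 S := S.2
    obtain ⟨m, hm0, hm⟩ := (hSp.to_subgroup (Subgroup.center S)).nontrivial_iff_card.1
      (IsPGroup.center_nontrivial hSp)
    obtain ⟨z, hz⟩ := exists_prime_orderOf_dvd_card' (G := Subgroup.center S) 2
      (by rw [hm]; exact dvd_pow_self 2 hm0.ne')
    have hv : orderOf (((z : S) : G)) = 2 := by rw [Subgroup.orderOf_coe, Subgroup.orderOf_coe, hz]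
    have h128 : 128 ∣ cn (((z : S) : G)) := by
      rw [show (128 : ℕ) = 2 ^ 7 from rfl, ← hS]
      refine Subgroup.card_dvd_of_le fun w hw => Subgroup.mem_centralizer_singleton_iff.2 ?_
      exact congrArg (fun s : S => (s : G)) (Subgroup.mem_center_iff.1 z.2 ⟨w, hw⟩)
    have hH : cn (((z : S) : G)) ∈ ordsTwo := by
      rw [← ordsTwo_eq]
      exact List.mem_filter.2 ⟨five_small hG A hv, by simp [Nat.mod_eq_zero_of_dvd h128]⟩
    obtain ⟨a, ha, -, -⟩ := M22Ord.inv_value hG hv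
    obtain ⟨_, _, _, -, -, -, -, -, -, h⟩ := search_sound hG A (by norm_num) (by norm_num) B B' hC hc.2.1 hC'
      searchSevenThree hj hr₁ hr hrow hr' hrow' hv (by simp) rfl hH ha
    simp [noRule] at h
  · obtain ⟨v, hv, hvC, hcen⟩ := B.exists_central_two (by norm_num) hk0 (hk ▸ hC)
    obtain ⟨m, n, h1, h2, -, h4, -, h6, h7⟩ := B.local_card hC hc.2.1 hvC (by rw [hv]; norm_num)
      (ne_one_of_orderOf hv (by norm_num))
    have hH : cn v ∈ ordsSeven 6 := by
      have h := List.all_eq_true.1 (List.all_eq_true.1 checkOrdsSeven_true (6, c) hec) (cn v) (five_small hG A hv)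
      have hc0 : 0 < c := Nat.pos_of_dvd_of_pos hcm (by norm_num)
      rw [localOK_of h1 h2 h4 (h7 hcen) (by positivity) (by positivity) h6] at h
      simpa using h
    obtain ⟨a, ha, -, -⟩ := M22Ord.inv_value hG hv
    obtain ⟨_, _, _, -, -, -, -, -, -, h⟩ := search_sound hG A (by norm_num) (by norm_num) B B' hC hc.2.1 hC'
      searchSevenSix hj hr₁ hr hrow hr' hrow' hv (fun _ => hvC) rfl hH ha
    simp [noRule] at h

/-- An element of order five generates its centralizer and the automizer has order four. -/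
theorem five_self (hG : Nat.card G = 443520) (A : Blk11 G) (P : Sylow 5 G) :
    ∃ B : PBlk G 5 4, B.P = P ∧ Nat.card B.C = 5 ∧ ∀ χ ∈ B.X, dg χ ≤ dg B.y := by
  classical
  obtain ⟨e, c, B, hB, hC, hcm, hmax, hopt⟩ := five_options hG A P
  rcases hopt with ⟨rfl, rfl⟩ | hec
  · exact ⟨B, hB, by rw [hC], hmax rfl⟩
  exfalso
  obtain ⟨Q⟩ : Nonempty (Sylow 7 G) := inferInstance
  obtain ⟨B', -, hC'⟩ := seven_self hG A Q
  simp only [List.mem_cons, List.not_mem_nil, or_false, Prod.mk.injEq] at hec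
  have he : e = 2 ∨ e = 4 := by omega
  have h5c : ¬ 5 ∣ c := fun h => by have := h.trans hcm; norm_num at this
  haveI : Fact (Nat.Prime 2) := ⟨Nat.prime_two⟩
  obtain ⟨w, hw⟩ := exists_prime_orderOf_dvd_card' (G := B.C) 2 (hC ▸ dvd_mul_of_dvd_right (by omega) 5)
  set v : G := (w : G)
  have hv : orderOf v = 2 := by rw [Subgroup.orderOf_coe, hw]
  have hvC : v ∈ B.C := w.2
  obtain ⟨x, hxP, -, hxo, -⟩ := exists_gen B.P B.hP
  have h10 : 2 * 5 ∣ cn v := Nat.Coprime.mul_dvd_of_dvd_of_dvd (by norm_num)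
    (hv ▸ orderOf_dvd_cn (rfl : v * v = v * v)) (hxo ▸ orderOf_dvd_cn (B.comm hxP hvC).eq)
  have hH : cn v ∈ ordsFive :=
    List.mem_filter.2 ⟨five_small hG A hv, by simp [Nat.mod_eq_zero_of_dvd h10]⟩
  obtain ⟨r, hr, hrow⟩ := B.exists_row hG (by norm_num) true ok11
    (fun _ χ hχ => B.big_X hG (m := 88704) (by norm_num) (by norm_num) hcm hC (by omega) hχ)
    (rows_ok11 hG A B) hmax
  obtain ⟨r', hr', hrow'⟩ := B'.exists_row hG (by norm_num) false ok11 (fun h => by simp at h)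
    (rows_ok11 hG A B') (fun h => absurd h (by norm_num))
  obtain ⟨r₁, hR₁, hr₁⟩ := A.exists_row11 hG
  obtain ⟨a, ha, -, -⟩ := M22Ord.inv_value hG hv
  rcases he with rfl | rfl
  · obtain ⟨_, _, _, -, -, -, -, -, -, h⟩ := search_sound hG A (by norm_num) (by norm_num) B B' hC h5c hC'
      searchFiveTwo hR₁ hr₁ hr hrow hr' hrow' hv (fun _ => hvC) rfl hH ha
    simp [noRule] at h
  · obtain ⟨l₁, l, l', e₁, eB, eB', y₁, yB, yB', h⟩ := search_sound hG A (by norm_num) (by norm_num) B B' hC h5c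
      hC' searchFiveFour hR₁ hr₁ hr hrow hr' hrow' hv (fun _ => hvC) rfl hH ha
    exact killFive_false hG A B hC (by simp; omega) B' hC' hv rfl ha hr₁ hrow hrow' e₁ eB eB' y₁ yB yB' h

end Cfsg.Agent.Invol.M22Ord
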