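import Mathlib
import Cfsg.Agent.Lib.Invol.Order443520.SelfCentral
import Cfsg.Agent.Lib.Invol.Order443520.CheckInvolution

/-!
Simple groups of order 443520: the degrees, the values at an involution, and the single class of involutions.
-/

set_option autoImplicit false
set_option linter.style.haveILetI false
set_option linter.unusedSectionVars false

namespace Cfsg.Agent.Invol.M22Ord

open scoped ComplexConjugate
open Cfsg Cfsg.Agent.Block Cfsg.Agent.Char Cfsg.Agent.Invol.M12Ord

universe u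

/-- The value at an involution of the characters of a given degree. -/
def invVal (d : ℤ) : ℤ :=
  if d = 1 then 1 else if d = 21 then 5 else if d = 45 then -3 else if d = 55 then 7 else if d = 99 then 3
  else if d = 154 then 10 else if d = 210 then 2 else if d = 231 then 7 else if d = 280 then -8 else 1

variable {G : Type u} [Group G] [Finite G] [IsSimpleGroup G]

/-- The three principal blocks at the primes whose Sylow subgroups generate their centralizers. -/
structure Frame (G : Type u) [Group G] [Finite G] [Fact (Nat.Prime 5)] [Fact (Nat.Prime 7)]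
    [Fact (Nat.Prime 11)] where
  A : Blk11 G
  B : PBlk G 7 3
  hB : Nat.card B.C = 7
  B' : PBlk G 5 4
  hB' : Nat.card B'.C = 5
  max' : ∀ χ ∈ B'.X, dg χ ≤ dg B'.y

variable [Fact (Nat.Prime 5)] [Fact (Nat.Prime 7)] [Fact (Nat.Prime 11)]

theorem exists_frame (hG : Nat.card G = 443520) : Nonempty (Frame G) := by
  obtain ⟨A, hA⟩ := exists_eleven (G := G) hG
  obtain ⟨P⟩ : Nonempty (Sylow 7 G) := inferInstance
  obtain ⟨Q⟩ : Nonempty (Sylow 5 G) := inferInstance
  obtain ⟨B, -, hB⟩ := seven_self hG ⟨A, hA⟩ P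
  obtain ⟨B', -, hB', hm⟩ := five_self hG ⟨A, hA⟩ Q
  exact ⟨⟨⟨A, hA⟩, B, hB, B', hB', hm⟩⟩

namespace Frame

variable (K : Frame G)

/-- A character in none of the three blocks has degree 385. -/
theorem deg_out (hG : Nat.card G = 443520) {S : Finset (IrrCharacter G)}
    (hmem : ∀ χ, (χ ∈ K.A.1.members ∨ (χ ∈ K.B.members ∧ 11 ∣ dg χ) ∨ χ ∈ K.B'.members) → χ ∈ S)
    {χ : IrrCharacter G} (h1 : χ ≠ trivialIrr G) (hS : χ ∉ S) : dg χ = 385 := by
  have h11 : 11 ∣ dg χ := Blk11.eleven_dvd K.A h1 fun h => hS (hmem χ (Or.inl h))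
  have h5 : 5 ∣ dg χ := K.B'.out K.hB' χ h1
    (fun h => hS (hmem χ (Or.inr (Or.inr (K.B'.mem_members.2 (Or.inl h))))))
    fun h => hS (hmem χ (Or.inr (Or.inr (K.B'.mem_members.2 (Or.inr h)))))
  have h7 : 7 ∣ dg χ := K.B.out K.hB χ h1
    (fun h => hS (hmem χ (Or.inr (Or.inl ⟨K.B.mem_members.2 (Or.inl h), h11⟩))))
    fun h => hS (hmem χ (Or.inr (Or.inl ⟨K.B.mem_members.2 (Or.inr h), h11⟩)))
  have h385 : 5 * 7 * 11 ∣ dg χ := Nat.Coprime.mul_dvd_of_dvd_of_dvd (by norm_num)
    (Nat.Coprime.mul_dvd_of_dvd_of_dvd (by norm_num) h5 h7) h11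
  obtain ⟨j, hj⟩ := h385
  have := M22Ord.dg_le hG χ
  have : 0 < dg χ := charDeg_pos χ
  omega

include K in
/-- The blocks are among the five listed. -/
theorem exists_rows (hG : Nat.card G = 443520) :
    ∃ q ∈ finalRows, K.A.1.IsRow q.1 ∧ K.B.IsRow q.2.1 ∧ K.B'.IsRow q.2.2 := by
  classical
  obtain ⟨r₁, hR₁, hr₁⟩ := K.A.exists_row11 hG
  obtain ⟨r, hR, hr⟩ := K.B.exists_row hG (by norm_num) false ok11 (fun h => by simp at h)
    (rows_ok11 hG K.A K.B) (fun h => absurd h (by norm_num))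
  obtain ⟨r', hR', hr'⟩ := K.B'.exists_row hG (by norm_num) false ok11 (fun h => by simp at h)
    (rows_ok11 hG K.A K.B') fun _ => K.max'
  have d₁ := K.A.1.blockDegs_eq hr₁
  have d := K.B.blockDegs_eq hr
  have d' := K.B'.blockDegs_eq hr'
  rw [show (11 - 1) / 5 = 2 from rfl] at d₁
  rw [show (7 - 1) / 3 = 2 from rfl] at d
  rw [show (5 - 1) / 4 = 1 from rfl] at d'
  obtain ⟨hf, hr11, S, hS, hg, hmem⟩ := fitted_of K.A K.B K.B' K.hB' id (fun χ => (dg χ : ℤ)) (fun _ => rfl)
    d₁ d d'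
  set L := glue id 5 (blockDegs 2 r₁) (blockDegs 2 r) (blockDegs 1 r')
  set R := Finset.univ \ insert (trivialIrr G) S with hR0
  have e1 : (L.map fun x => x * x).sum = ∑ χ ∈ S, (dg χ : ℤ) * dg χ := by
    have e : ((L : Multiset ℤ).map fun x => x * x).sum = (L.map fun x => x * x).sum := by simp
    rw [← e, hg, Multiset.map_map]
    rfl
  have hall : (443520 : ℤ) = 1 + ∑ χ ∈ S, (dg χ : ℤ) * dg χ + (R.card : ℤ) * 148225 := by
    have h : ((∑ χ : IrrCharacter G, dg χ ^ 2 : ℕ) : ℤ) = 443520 := by rw [M22Ord.sum_sq hG]; rfl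
    push_cast at h
    rw [← h, ← Finset.sum_sdiff (Finset.subset_univ (insert (trivialIrr G) S)), Finset.sum_insert hS, dg_trivial,
      Finset.sum_congr rfl (s₁ := Finset.univ \ insert (trivialIrr G) S) (g := fun _ => (148225 : ℤ)) fun χ hχ => ?_]
    · simp only [sq, Finset.sum_const, nsmul_eq_mul, hR0]
      push_cast
      ring
    · simp only [Finset.mem_sdiff, Finset.mem_univ, true_and, Finset.mem_insert, not_or] at hχ
      rw [K.deg_out hG hmem hχ.1 hχ.2]
      norm_num
  have hcfg : (r, r') ∈ configs 7 3 5 4 (rows 7 3 false ok11) (rows 5 4 false ok11) r₁ := by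
    refine List.mem_flatMap.2 ⟨r, List.mem_filter.2 ⟨hR, K.B.subl_host K.A hr hr₁⟩,
      List.mem_map.2 ⟨r', List.mem_filter.2 ⟨hR', ?_⟩, rfl⟩⟩
    simp only [degFits, Bool.and_eq_true, List.all_eq_true, decide_eq_true_eq]
    refine ⟨⟨hf, fun x hx => hr11 x hx⟩, ?_⟩
    show 1 + (L.map fun x => x * x).sum ≤ 443520
    rw [e1]
    omega
  have h := List.all_eq_true.1 (List.all_eq_true.1 checkFinalRows_true r₁ hR₁) (r, r') hcfg
  rw [Bool.or_eq_true] at h
  refine ⟨(r₁, r, r'), List.contains_iff_mem.1 (h.resolve_left ?_), hr₁, hr, hr'⟩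
  simp only [degExact, Bool.not_eq_true', decide_eq_false_iff_not, not_not]
  show (443520 - (1 + (L.map fun x => x * x).sum)) % 148225 = 0
  rw [e1]
  omega

include K in
/-- The nontrivial degrees with their values at an involution, and its centralizer. -/
theorem inv_column (hG : Nat.card G = 443520) {v : G} (hv : orderOf v = 2) :
    cn v = 384 ∧ ∀ a : IrrCharacter G → ℤ, (∀ χ : IrrCharacter G, (χ : G → ℂ) v = a χ) →
      ((Finset.univ : Finset (IrrCharacter G)).val.map fun χ => ((dg χ : ℤ), a χ)) =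
        (((1, 1) :: involCol : List (ℤ × ℤ)) : Multiset (ℤ × ℤ)) := by
  classical
  obtain ⟨a, ha, h1, -⟩ := M22Ord.inv_value hG hv
  obtain ⟨⟨r₁, r, r'⟩, hq, hr₁, hr, hr'⟩ := K.exists_rows hG
  have hev : cn v ∈ ordsEven := List.mem_filter.2 ⟨five_small hG K.A hv,
    by simp [Nat.mod_eq_zero_of_dvd (hv ▸ orderOf_dvd_cn (rfl : v * v = v * v))]⟩
  obtain ⟨l₁, l, l', e₁, eB, eB', y₁, yB, yB', hk⟩ := search_sound hG K.A (by norm_num) (by norm_num) K.B K.B'
    (c := 1) (by rw [K.hB]) (by norm_num) K.hB' (List.all_eq_true.1 checkInvolution_true _ hq)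
    (List.mem_singleton.2 rfl) hr₁ (List.mem_singleton.2 rfl) hr (List.mem_singleton.2 rfl) hr' hv (by simp) rfl
    hev ha
  have hvr : ∀ {k : ℕ}, k.Prime → k ≠ 2 → ¬ k ∣ orderOf v := fun hk hk2 hd =>
    hk2 ((Nat.prime_dvd_prime_iff_eq hk Nat.prime_two).1 (hv ▸ hd))
  have c₁ := K.A.1.blockChars_eq (hvr (by norm_num) (by norm_num)) ha hr₁ e₁ y₁
  have cB := K.B.blockChars_eq (hvr (by norm_num) (by norm_num)) ha hr eB yB
  have cB' := K.B'.blockChars_eq (hvr (by norm_num) (by norm_num)) ha hr' eB' yB'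
  rw [show (11 - 1) / 5 = 2 from rfl] at c₁
  rw [show (7 - 1) / 3 = 2 from rfl] at cB
  rw [show (5 - 1) / 4 = 1 from rfl] at cB'
  obtain ⟨-, -, S, hS, hg, hmem⟩ := fitted_of K.A K.B K.B' K.hB' Prod.fst (fun χ => ((dg χ : ℤ), a χ))
    (fun _ => rfl) c₁ cB cB'
  set F := glue Prod.fst 5 (blockChars 2 r₁ l₁) (blockChars 2 r l) (blockChars 1 r' l') with hF
  set R := Finset.univ \ insert (trivialIrr G) S with hR
  have hdR : ∀ χ ∈ R, dg χ = 385 := fun χ hχ => by
    simp only [hR, Finset.mem_sdiff, Finset.mem_univ, true_and, Finset.mem_insert, not_or] at hχ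
    exact K.deg_out hG hmem hχ.1 hχ.2
  have hsplit : ∀ f : IrrCharacter G → ℤ, ∑ χ : IrrCharacter G, f χ =
      f (trivialIrr G) + ∑ χ ∈ S, f χ + ∑ χ ∈ R, f χ := fun f => by
    rw [← Finset.sum_sdiff (Finset.subset_univ (insert (trivialIrr G) S)), Finset.sum_insert hS]
    ring
  have hsumF : ∀ f : ℤ × ℤ → ℤ, (F.map f).sum = ∑ χ ∈ S, f ((dg χ : ℤ), a χ) := fun f => by
    have e : ((F : Multiset (ℤ × ℤ)).map f).sum = (F.map f).sum := by simp
    rw [← e, hg, Multiset.map_map]
    rfl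
  have hk0 : (443520 - degOf F).toNat / 148225 = R.card := by
    have h := hsplit fun χ => (dg χ : ℤ) * dg χ
    rw [Finset.sum_congr rfl (s₁ := R) (g := fun _ => (148225 : ℤ)) fun χ hχ => by rw [hdR χ hχ]; norm_num,
      Finset.sum_const, nsmul_eq_mul, dg_trivial] at h
    have h' : ((∑ χ : IrrCharacter G, dg χ ^ 2 : ℕ) : ℤ) = 443520 := by rw [M22Ord.sum_sq hG]; rfl
    push_cast at h'
    simp only [← sq] at h
    rw [h'] at h
    rw [degOf, hsumF]
    simp only [← sq]
    push_cast at h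
    omega
  set w : List ((ℤ × ℤ) × ℤ) := R.toList.map fun χ => (((385 : ℤ), (0 : ℤ)), a χ) with hw
  have hwm : w ∈ assigns wval (List.replicate ((443520 - degOf F).toNat / 148225)
      (((385 : ℤ), (0 : ℤ)), cand 5 (cn v) false (385, 0))) (cn v - 1) := by
    have h := mem_assigns wval (fun z : ℤ × ℤ => cand 5 (cn v) false z) w (cn v - 1) (fun z hz => ?_) ?_
    · rw [hk0, ← Finset.length_toList]
      rw [hw, List.map_map, List.map_map] at h
      simpa [Function.comp_def, List.map_const'] using h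
    · obtain ⟨χ, hχ, rfl⟩ := List.mem_map.1 hz
      have hχ' : χ ∈ R := Finset.mem_toList.1 hχ
      have hne : χ ≠ trivialIrr G := fun e0 => by
        have := hdR χ hχ'
        rw [e0, dg_trivial] at this
        norm_num at this
      have h := mem_cand (p := 5) (cg := false) (s := 0) (by norm_num) (okv_of hG hv rfl hne (ha χ)) (by simp)
      rwa [hdR χ hχ'] at h
    · have hn := norm_insert_le R (by simp [hR]) a ha
      have e2 : ((∑ χ ∈ R, wval (a χ) : ℕ) : ℤ) = ∑ χ ∈ R, a χ * a χ := by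
        push_cast [wval]
        exact Finset.sum_congr rfl fun χ _ => by rw [← Int.natAbs_mul_self (a := a χ)]; push_cast; rfl
      rw [hw, List.map_map]
      show (R.toList.map fun χ => wval (a χ)).sum ≤ cn v - 1
      rw [Finset.sum_map_toList]
      omega
  have hk' := List.all_eq_true.1 hk w hwm
  rw [← hF] at hk'
  set full := F ++ w.map (fun x => (x.1.1, x.2)) with hfull0
  have hfull : (full : Multiset (ℤ × ℤ)) =
      (Finset.univ.erase (trivialIrr G)).val.map fun χ => ((dg χ : ℤ), a χ) := by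
    have hu : (Finset.univ.erase (trivialIrr G)).val = S.val + R.val := by
      rw [← Finset.disjUnion_val S R (Finset.disjoint_left.2 fun χ h h' => by
        simp only [hR, Finset.mem_sdiff, Finset.mem_insert, not_or] at h'
        exact h'.2.2 h)]
      congr 1
      ext χ
      simp only [Finset.mem_erase, Finset.mem_univ, and_true, Finset.mem_disjUnion, hR, Finset.mem_sdiff,
        Finset.mem_insert, true_and, not_or]
      constructor
      · intro h
        by_cases hχ : χ ∈ S
        · exact Or.inl hχ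
        · exact Or.inr ⟨h, hχ⟩
      · rintro (h | h)
        · exact fun e0 => hS (e0 ▸ h)
        · exact h.1
    rw [hfull0, ← Multiset.coe_add, hg, hu, Multiset.map_add, hw, List.map_map, ← Multiset.map_coe,
      Finset.coe_toList]
    congr 1
    exact Multiset.map_congr rfl fun χ hχ => by simp [hdR χ hχ]
  have hval : ∀ f : ℤ × ℤ → ℤ, 1 + (full.map f).sum =
      1 - f (1, 1) + ∑ χ : IrrCharacter G, f ((dg χ : ℤ), a χ) := fun f => by
    have e : ((full : Multiset (ℤ × ℤ)).map f).sum = (full.map f).sum := by simp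
    rw [← e, hfull, Multiset.map_map, ← Finset.add_sum_erase _ _ (Finset.mem_univ (trivialIrr G)), h1,
      dg_trivial, Nat.cast_one]
    show 1 + ∑ χ ∈ Finset.univ.erase (trivialIrr G), f ((dg χ : ℤ), a χ) = _
    ring
  have hn : normOf full = (cn v : ℤ) := by
    rw [normOf, hval, norm_eq a ha]; ring
  have ho : orthOf full = 0 := by
    rw [orthOf, hval, Finset.sum_congr rfl (g := fun χ => a χ * (dg χ : ℤ)) fun χ _ => mul_comm _ _,
      orth_one_int (ne_one_of_orderOf hv (by norm_num)) a ha]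
    ring
  simp only [hn, ho, ne_eq, not_true_eq_false, decide_false, Bool.false_or, Bool.and_eq_true, Nat.beq_eq] at hk'
  refine ⟨hk'.1.1, fun b hb => ?_⟩
  obtain rfl : b = a := funext fun χ => Int.cast_injective (α := ℂ) (by rw [← ha, ← hb])
  rw [← Finset.insert_erase (Finset.mem_univ (trivialIrr G)), Finset.insert_val_of_notMem (Finset.notMem_erase _ _),
    Multiset.map_cons, ← hfull, eq_of_subl hk'.1.2 hk'.2, h1, dg_trivial, Nat.cast_one, Multiset.cons_coe]

include K in
theorem inv_value_eq (hG : Nat.card G = 443520) {v : G} (hv : orderOf v = 2) (χ : IrrCharacter G) :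
    (χ : G → ℂ) v = (invVal (dg χ) : ℂ) := by
  classical
  obtain ⟨a, ha, h1, -⟩ := M22Ord.inv_value hG hv
  have h := (K.inv_column hG hv).2 a ha
  have hm : ((dg χ : ℤ), a χ) ∈ ((((1, 1) :: involCol : List (ℤ × ℤ))) : Multiset (ℤ × ℤ)) := by
    rw [← h]
    exact Multiset.mem_map.2 ⟨χ, Finset.mem_univ_val _, rfl⟩
  have hall : ∀ x ∈ ((1, 1) :: involCol : List (ℤ × ℤ)), x.2 = invVal x.1 := by decide
  rw [ha, ← hall _ (Multiset.mem_coe.1 hm)]

include K in
/-- The involutions form one class. -/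
theorem inv_conj (hG : Nat.card G = 443520) {v w : G} (hv : orderOf v = 2) (hw : orderOf w = 2) : IsConj v w := by
  by_contra h
  have h0 := M12Ord.orth h (fun χ => invVal (dg χ)) (fun χ => invVal (dg χ)) (K.inv_value_eq hG hv)
    (K.inv_value_eq hG hw)
  rw [norm_eq (fun χ => invVal (dg χ)) (K.inv_value_eq hG hv), (K.inv_column hG hv).1] at h0
  omega

end Frame

end Cfsg.Agent.Invol.M22Ord
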