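import Mathlib
import Cfsg.Agent.Lib.Invol.Order443520.Involution
import Cfsg.Agent.Lib.Char.PSolvableIto

/-!
Simple groups of order 443520: at elements of order prime to seventy-seven the values are integers depending on
the degree alone.
-/

set_option autoImplicit false
set_option linter.style.haveILetI false
set_option linter.unusedSectionVars false

namespace Cfsg.Agent.Invol.M22Ord

open scoped ComplexConjugate
open Cfsg Cfsg.Agent.Block Cfsg.Agent.Char Cfsg.Agent.Invol.M12Ord

universe u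

/-- The degrees, with multiplicity. -/
def allDegs : List ℤ := 1 :: involCol.map Prod.fst

/-- The principal block at eleven. -/
def rowA : Row := ([(210, 1), (45, 1), (45, 1), (21, -1)], 1, 280)

/-- The principal block at seven. -/
def rowB : Row := ([(99, 1), (55, -1)], 1, 45)

/-- The principal block at five. -/
def rowC : Row := ([(154, -1), (99, -1), (21, 1)], -1, 231)

/-- Only one of the listed triples of blocks has all its degrees among the degrees of the group. -/
theorem finalRows_degs : ∀ q ∈ finalRows, q = (rowA, rowB, rowC) ∨ ∃ x ∈ q.1.1, x.1 ∉ allDegs := by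
  decide +kernel

variable {G : Type u} [Group G] [Finite G] [IsSimpleGroup G]
variable [Fact (Nat.Prime 5)] [Fact (Nat.Prime 7)] [Fact (Nat.Prime 11)]

namespace Frame

variable (K : Frame G)

include K in
theorem degs_eq (hG : Nat.card G = 443520) :
    ((Finset.univ : Finset (IrrCharacter G)).val.map fun χ => (dg χ : ℤ)) = (allDegs : Multiset ℤ) := by
  haveI : Fact (Nat.Prime 2) := ⟨Nat.prime_two⟩
  obtain ⟨v, hv⟩ := exists_prime_orderOf_dvd_card' (G := G) 2 (by rw [hG]; norm_num)
  obtain ⟨a, ha, -, -⟩ := M22Ord.inv_value hG hv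
  have h := congrArg (Multiset.map Prod.fst) ((K.inv_column hG hv).2 a ha)
  rw [Multiset.map_map, Multiset.map_coe, List.map_cons] at h
  exact h

include K in
theorem the_rows (hG : Nat.card G = 443520) :
    K.A.1.IsRow rowA ∧ K.B.IsRow rowB ∧ K.B'.IsRow rowC := by
  obtain ⟨q, hq, h1, h2, h3⟩ := K.exists_rows hG
  rcases finalRows_degs q hq with rfl | ⟨x, hx, hnot⟩
  · exact ⟨h1, h2, h3⟩
  · exfalso
    have hx' : x ∈ (q.1.1 : Multiset (ℤ × ℤ)) := hx
    rw [h1.1, Multiset.mem_map] at hx'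
    obtain ⟨χ, -, rfl⟩ := hx'
    have hd : (dg χ : ℤ) ∈ (allDegs : Multiset ℤ) := by
      rw [← K.degs_eq hG]
      exact Multiset.mem_map.2 ⟨χ, Finset.mem_univ_val _, rfl⟩
    exact hnot hd

include K in
theorem card_deg (hG : Nat.card G = 443520) (d : ℕ) :
    (Finset.univ.filter fun χ : IrrCharacter G => dg χ = d).card = allDegs.count (d : ℤ) := by
  rw [← Multiset.coe_count, ← K.degs_eq hG, Multiset.count_map, Finset.card_def, Finset.filter_val]
  exact congrArg Multiset.card (Multiset.filter_congr fun χ _ => by simp [eq_comm])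

include K in
theorem sum_all (hG : Nat.card G = 443520) (F : ℤ → ℤ) :
    ∑ χ : IrrCharacter G, F (dg χ) = (allDegs.map F).sum := by
  have e : ((allDegs : Multiset ℤ).map F).sum = (allDegs.map F).sum := by simp
  rw [← e, ← K.degs_eq hG, Multiset.map_map]
  rfl

include K in
/-- At an element of order prime to seventy-seven, characters of equal degree agree. -/
theorem eq_of_dg (hG : Nat.card G = 443520) {g : G} (h7 : ¬ 7 ∣ orderOf g) (h11 : ¬ 11 ∣ orderOf g)
    {χ ψ : IrrCharacter G} (h : dg χ = dg ψ) : (χ : G → ℂ) g = (ψ : G → ℂ) g := by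
  classical
  obtain ⟨hA, hB, -⟩ := K.the_rows hG
  have hd : (dg χ : ℤ) ∈ allDegs := by
    have : (dg χ : ℤ) ∈ (allDegs : Multiset ℤ) := by
      rw [← K.degs_eq hG]; exact Multiset.mem_map.2 ⟨χ, Finset.mem_univ_val _, rfl⟩
    exact this
  have hcase : ∀ d ∈ allDegs, allDegs.count d = 1 ∨ (d = 45 ∧ allDegs.count d = 2) ∨ (d = 280 ∧ allDegs.count d = 2) := by
    decide
  have key : ∀ {p e : ℕ} [Fact p.Prime] (B : PBlk G p e), ¬ p ∣ orderOf g → ∀ d : ℕ, dg B.y = d →
      allDegs.count (d : ℤ) = B.Y.card → ∀ φ : IrrCharacter G, dg φ = d → (φ : G → ℂ) g = (B.y : G → ℂ) g := by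
    intro p e _ B hg d hy hc φ hφ
    refine B.eq_y ?_ hg
    rw [Finset.eq_of_subset_of_card_le (s := B.Y) (t := Finset.univ.filter fun θ : IrrCharacter G => dg θ = d)
      (fun θ hθ => Finset.mem_filter.2 ⟨Finset.mem_univ _, (B.dg_Y hθ).trans hy⟩)
      (by rw [K.card_deg hG, hc])]
    exact Finset.mem_filter.2 ⟨Finset.mem_univ _, hφ⟩
  rcases hcase _ hd with h1 | ⟨h1, h2⟩ | ⟨h1, h2⟩
  · rw [← K.card_deg hG] at h1
    rw [Finset.card_le_one.1 h1.le χ (by simp) ψ (by simp [h])]
  · have hy : dg K.B.y = 45 := by have e := hB.2.2; simp only [rowB] at e; omega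
    have hc : allDegs.count ((45 : ℕ) : ℤ) = K.B.Y.card := by
      have := K.B.card_Y
      rw [show allDegs.count ((45 : ℕ) : ℤ) = 2 by decide]; omega
    have hχ : dg χ = 45 := by omega
    rw [key K.B h7 45 hy hc χ hχ, key K.B h7 45 hy hc ψ (by omega)]
  · have hy : dg K.A.1.y = 280 := by have e := hA.2.2; simp only [rowA] at e; omega
    have hc : allDegs.count ((280 : ℕ) : ℤ) = K.A.1.Y.card := by
      have := K.A.1.card_Y
      rw [show allDegs.count ((280 : ℕ) : ℤ) = 2 by decide]; omega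
    have hχ : dg χ = 280 := by omega
    rw [key K.A.1 h11 280 hy hc χ hχ, key K.A.1 h11 280 hy hc ψ (by omega)]

include K in
/-- The powers prime to the order of such an element are conjugate to it. -/
theorem rational (hG : Nat.card G = 443520) {g : G} (h7 : ¬ 7 ∣ orderOf g) (h11 : ¬ 11 ∣ orderOf g) {k : ℕ}
    (hk : k.Coprime (orderOf g)) : IsConj (g ^ k) g := by
  refine Cfsg.Agent.Char.PIto.isConj_of_forall fun χ => ?_
  obtain ⟨k', hk', hmod⟩ := exists_coprime_lift (N := Nat.card G) Nat.card_pos (orderOf_dvd_natCard g) hk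
  rw [pow_eq_pow_iff_modEq.2 hmod.symm]
  let ψ : IrrCharacter G := ⟨fun x => (χ : G → ℂ) (x ^ k'), IsIrr.pow_map χ.2 hk'⟩
  have hd : dg ψ = dg χ := by
    apply Nat.cast_injective (R := ℂ)
    rw [← value_one, ← value_one]
    show (χ : G → ℂ) ((1 : G) ^ k') = _
    rw [one_pow]
  exact K.eq_of_dg hG h7 h11 (χ := ψ) hd

include K in
/-- The values at such an element are integers depending on the degree alone. -/
theorem exists_val (hG : Nat.card G = 443520) {g : G} (h7 : ¬ 7 ∣ orderOf g) (h11 : ¬ 11 ∣ orderOf g) :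
    ∃ f : ℤ → ℤ, ∀ χ : IrrCharacter G, (χ : G → ℂ) g = (f (dg χ) : ℂ) := by
  classical
  choose a ha using fun χ : IrrCharacter G => IsChar.exists_int_of_fixed (IsIrr.isCharacter χ.2) g fun k hk =>
    IsClass.eq_of_isConj (IsIrr.classFun χ.2) (K.rational hG h7 h11 hk)
  refine ⟨fun d => if h : ∃ χ : IrrCharacter G, (dg χ : ℤ) = d then a h.choose else 0, fun χ => ?_⟩
  have h : ∃ ψ : IrrCharacter G, (dg ψ : ℤ) = (dg χ : ℤ) := ⟨χ, rfl⟩
  simp only [dif_pos h]
  rw [← ha]
  exact (K.eq_of_dg hG h7 h11 (by exact_mod_cast h.choose_spec)).symm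

include K in
/-- The relations from the three blocks. -/
theorem relations (hG : Nat.card G = 443520) {g : G} (h5 : ¬ 5 ∣ orderOf g) (h7 : ¬ 7 ∣ orderOf g)
    (h11 : ¬ 11 ∣ orderOf g) {f : ℤ → ℤ} (hf : ∀ χ : IrrCharacter G, (χ : G → ℂ) g = (f (dg χ) : ℂ)) :
    f 280 = 1 + f 210 + 2 * f 45 - f 21 ∧ f 45 = 1 + f 99 - f 55 ∧ f 231 = -1 + f 154 + f 99 - f 21 := by
  have key : ∀ {p e : ℕ} [Fact p.Prime] (B : PBlk G p e) (r : Row), ¬ p ∣ orderOf g → B.IsRow r →
      r.2.1 * f r.2.2 = 1 + (r.1.map fun x => x.2 * f x.1).sum := by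
    intro p e _ B r hg hr
    have h := B.rel B.y B.y_mem g hg
    simp only [hf] at h
    have h' : B.ε * f (dg B.y) = 1 + ∑ χ ∈ B.X, B.s χ * f (dg χ) := by
      apply Int.cast_injective (α := ℂ)
      push_cast
      exact h
    have e1 : ((r.1 : Multiset (ℤ × ℤ)).map fun x => x.2 * f x.1).sum = (r.1.map fun x => x.2 * f x.1).sum := by
      simp
    rw [hr.2.1, hr.2.2, ← e1, hr.1, Multiset.map_map]
    exact h'
  obtain ⟨hA, hB, hC⟩ := K.the_rows hG
  have e1 := key K.A.1 rowA h11 hA
  have e2 := key K.B rowB h7 hB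
  have e3 := key K.B' rowC h5 hC
  simp only [rowA, rowB, rowC, List.map_cons, List.map_nil, List.sum_cons, List.sum_nil] at e1 e2 e3
  refine ⟨by linarith, by linarith, by linarith⟩

include K in
theorem val_triv (_hG : Nat.card G = 443520) {g : G} {f : ℤ → ℤ}
    (hf : ∀ χ : IrrCharacter G, (χ : G → ℂ) g = (f (dg χ) : ℂ)) : f 1 = 1 := by
  apply Int.cast_injective (α := ℂ)
  have h := hf (trivialIrr G)
  rw [dg_trivial, Nat.cast_one] at h
  rw [← h, Int.cast_one]
  rfl

end Frame

end Cfsg.Agent.Invol.M22Ord
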