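import Mathlib
import Cfsg.Agent.Lib.Invol.Order443520.Values

/-!
Order 443520: checks determining the values at elements of order three and six.
-/

set_option autoImplicit false

namespace Cfsg.Agent.Invol.M22Ord

/-- The values in the order of the degrees, from the four free ones. -/
def derived (a21 a45 a55 a154 : ℤ) : List ℤ :=
  let a99 := a45 + a55 - 1
  let a210 := a21 - 2 * a45 + a55 + a154 - 2
  let a231 := -2 - a21 + a45 + a55 + a154
  let a280 := a55 + a154 - 1
  [1, a21, a45, a45, a55, a99, a154, a210, a231, a280, a280, 4 - 3 * a55 - 3 * a154]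

/-- The sum of the squares of a list. -/
def sqSum (l : List ℤ) : ℤ := (l.map fun a => a * a).sum

/-- Congruence to the degree at an element of order three, and integrality. -/
def ok3 (h : ℕ) (x : ℤ × ℤ) : Bool :=
  Nat.beq ((x.2 - x.1).natAbs % 3) 0 && Nat.beq ((443520 / h * x.2.natAbs) % x.1.natAbs) 0

/-- The candidates at an element of order three. -/
def cand3 (h d : ℕ) : List ℤ := (stepList h d).filter fun a => ok3 h ((d : ℤ), a)

/-- The possible orders of the centralizer of an element of order three. -/
def ordsThree : List ℕ := [9, 18, 36, 72, 144, 288, 576, 1152]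

/-- The three possible columns at elements of order three. -/
def colsThree : List (ℕ × List ℤ) :=
  [(9, [1, 0, 0, 0, 1, 0, 1, 0, 0, 1, 1, -2]), (36, [1, 3, 0, 0, 1, 0, 1, 3, -3, 1, 1, -2]),
    (36, [1, -3, 0, 0, 1, 0, 1, -3, 3, 1, 1, -2])]

/-- The columns at elements of order three are among the listed ones. -/
def checkThree : Bool :=
  ordsThree.all fun h => (cand3 h 55).all fun a55 => (cand3 h 154).all fun a154 =>
    decide ((h : ℤ) < 1 + a55 * a55 + a154 * a154 + 2 * ((a55 + a154 - 1) * (a55 + a154 - 1))) ||
      (cand3 h 45).all fun a45 => (cand3 h 21).all fun a21 =>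
        let l := derived a21 a45 a55 a154
        decide (sqSum l ≠ (h : ℤ)) || !(allDegs.zip l).all (ok3 h) || colsThree.contains (h, l)

/-- The candidates at an element of order six, from the values at its parts. -/
def cand6 (h : ℕ) (t v : ℤ) : List ℤ :=
  ([-6, -5, -4, -3, -2, -1, 0, 1, 2, 3, 4, 5, 6] : List ℤ).filter fun x =>
    Nat.blt (x.natAbs * x.natAbs) h && Nat.beq ((x - t).natAbs % 3) 0 && Nat.beq ((x - v).natAbs % 2) 0

/-- The values at an involution, in the order of the degrees. -/
def colTwo : List ℤ := [1, 5, -3, -3, 7, 3, 10, 2, 7, -8, -8, 1]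

/-- The value at an element of order three of the characters of a given degree. -/
def threeVal (d : ℤ) : ℤ :=
  if d = 21 then 3 else if d = 45 then 0 else if d = 99 then 0 else if d = 210 then 3 else if d = 231 then -3
  else if d = 385 then -2 else 1

/-- Searches the columns at an element of order six. -/
def searchSix (V : List ℤ) (good : ℕ → Bool) : Bool :=
  ([6, 12, 18, 36] : List ℕ).all fun h => (cand6 h 7 (V.getD 4 0)).all fun a55 =>
    (cand6 h 10 (V.getD 6 0)).all fun a154 => (cand6 h (-3) (V.getD 2 0)).all fun a45 =>
      (cand6 h 5 (V.getD 1 0)).all fun a21 =>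
        let l := derived a21 a45 a55 a154
        decide (sqSum l ≠ (h : ℤ)) ||
          !(l.zip (colTwo.zip V)).all (fun x => Nat.beq ((x.1 - x.2.1).natAbs % 3) 0 &&
            Nat.beq ((x.1 - x.2.2).natAbs % 2) 0) ||
          decide (((l.zip V).map fun x => x.1 * x.2).sum ≠ 0) || good h

theorem checkThree_true : checkThree = true := by decide +kernel

theorem searchSix_minus :
    searchSix [1, -3, 0, 0, 1, 0, 1, -3, 3, 1, 1, -2] (fun _ => false) = true := by decide +kernel

theorem searchSix_plus :
    searchSix [1, 3, 0, 0, 1, 0, 1, 3, -3, 1, 1, -2] (fun h => Nat.beq h 12) = true := by decide +kernel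

theorem colTwo_eq : allDegs.map invVal = colTwo := by decide +kernel

theorem threeVal_eq : allDegs.map threeVal = [1, 3, 0, 0, 1, 0, 1, 3, -3, 1, 1, -2] := by decide +kernel

end Cfsg.Agent.Invol.M22Ord
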