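import Mathlib
import Cfsg.Agent.Lib.Invol.Order443520.CheckThree

/-!
Simple groups of order 443520: one class of elements of order three, with centralizer of order thirty-six, meeting
the centralizer of an involution in twelve elements.
-/

set_option autoImplicit false
set_option linter.style.haveILetI false
set_option linter.unusedSectionVars false

namespace Cfsg.Agent.Invol.M22Ord

open scoped ComplexConjugate
open Cfsg Cfsg.Agent.Block Cfsg.Agent.Char Cfsg.Agent.Invol.M12Ord

universe u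

variable {G : Type u} [Group G] [Finite G] [IsSimpleGroup G]
variable [Fact (Nat.Prime 5)] [Fact (Nat.Prime 7)] [Fact (Nat.Prime 11)]

theorem mem_zip_map (f : ℤ → ℤ) {l : List ℤ} {x : ℤ × ℤ} (hx : x ∈ l.zip (l.map f)) : x.1 ∈ l ∧ x.2 = f x.1 := by
  induction l with
  | nil => simp at hx
  | cons a t ih =>
    rw [List.map_cons, List.zip_cons_cons, List.mem_cons] at hx
    rcases hx with rfl | hx
    · exact ⟨List.mem_cons_self, rfl⟩
    · exact ⟨List.mem_cons_of_mem _ (ih hx).1, (ih hx).2⟩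

theorem mem_zip3_map (f f' f'' : ℤ → ℤ) {l : List ℤ} {x : ℤ × ℤ × ℤ}
    (hx : x ∈ (l.map f).zip ((l.map f').zip (l.map f''))) : ∃ d ∈ l, x = (f d, f' d, f'' d) := by
  induction l with
  | nil => simp at hx
  | cons a t ih =>
    rw [List.map_cons, List.map_cons, List.map_cons, List.zip_cons_cons, List.zip_cons_cons, List.mem_cons] at hx
    rcases hx with rfl | hx
    · exact ⟨a, List.mem_cons_self, rfl⟩
    · obtain ⟨d, hd, h⟩ := ih hx; exact ⟨d, List.mem_cons_of_mem _ hd, h⟩

namespace Frame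

variable (K : Frame G)

include K in
theorem exists_deg (hG : Nat.card G = 443520) {d : ℤ} (hd : d ∈ allDegs) :
    ∃ χ : IrrCharacter G, (dg χ : ℤ) = d := by
  have h : d ∈ (allDegs : Multiset ℤ) := hd
  rw [← K.degs_eq hG, Multiset.mem_map] at h
  obtain ⟨χ, -, h⟩ := h
  exact ⟨χ, h⟩

include K in
theorem sum_col (hG : Nat.card G = 443520) {g : G} {f f' : ℤ → ℤ} {g' : G}
    (hf : ∀ χ : IrrCharacter G, (χ : G → ℂ) g = (f (dg χ) : ℂ))
    (hf' : ∀ χ : IrrCharacter G, (χ : G → ℂ) g' = (f' (dg χ) : ℂ)) (h : ¬ IsConj g g') :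
    (allDegs.map fun d => f d * f' d).sum = 0 := by
  rw [← K.sum_all hG fun d => f d * f' d]
  exact M12Ord.orth h (fun χ => f (dg χ)) (fun χ => f' (dg χ)) hf hf'

include K in
/-- The values at an element of order three or six are given by four of them. -/
theorem col_derived (hG : Nat.card G = 443520) {g : G} (h5 : ¬ 5 ∣ orderOf g) (h7 : ¬ 7 ∣ orderOf g)
    (h11 : ¬ 11 ∣ orderOf g) (h1 : g ≠ 1) (h2 : orderOf g ≠ 2) {f : ℤ → ℤ}
    (hf : ∀ χ : IrrCharacter G, (χ : G → ℂ) g = (f (dg χ) : ℂ)) :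
    allDegs.map f = derived (f 21) (f 45) (f 55) (f 154) ∧ sqSum (allDegs.map f) = (cn g : ℤ) := by
  haveI : Fact (Nat.Prime 2) := ⟨Nat.prime_two⟩
  obtain ⟨t, ht⟩ := exists_prime_orderOf_dvd_card' (G := G) 2 (by rw [hG]; norm_num)
  obtain ⟨r1, r2, r3⟩ := K.relations hG h5 h7 h11 hf
  have r0 := K.val_triv hG hf
  have o2 := K.sum_col hG hf (f' := invVal) (g' := t) (K.inv_value_eq hG ht) fun hc => by
    obtain ⟨k, hk⟩ := isConj_iff.1 hc
    apply h2
    rw [← ht, ← hk]
    exact MulEquiv.orderOf_eq (MulAut.conj k) g |>.symm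
  have o1 := K.sum_col hG hf (f' := fun d => d) (g' := (1 : G))
    (fun χ => by rw [value_one, Int.cast_natCast]) fun hc => h1 (isConj_one_left.1 hc)
  simp only [allDegs, involCol, List.map_cons, List.map_nil, List.sum_cons, List.sum_nil, invVal] at o1 o2
  norm_num at o1 o2
  refine ⟨?_, ?_⟩
  · simp only [allDegs, involCol, List.map_cons, List.map_nil, derived, List.cons.injEq, and_true, true_and]
    refine ⟨?_, ?_, ?_, ?_, ?_, ?_, ?_⟩ <;> linarith
  · rw [sqSum, List.map_map, ← show ∑ χ : IrrCharacter G, f (dg χ) * f (dg χ) = _ from norm_eq _ hf,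
      K.sum_all hG fun d => f d * f d]
    rfl

include K in
/-- An element of order three or six has no part of order five, seven or eleven in its centralizer. -/
theorem cn_dvd_local (hG : Nat.card G = 443520) {g : G} {q : ℕ} (hq : q.Prime) (hq3 : q = 2 ∨ q = 3)
    (hg : q ∣ orderOf g) : cn g ∣ 1152 := by
  have hdvd := hG ▸ cn_dvd_card g
  have key : ∀ {p e : ℕ} [Fact p.Prime] (B : PBlk G p e), Nat.card B.C = p → q ≠ p → ¬ p ∣ cn g := by
    intro p e _ B hB hne hd
    obtain ⟨z, hz⟩ := exists_prime_orderOf_dvd_card' (G := Subgroup.centralizer ({g} : Set G)) p hd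
    have h := orderOf_dvd_cn (Subgroup.mem_centralizer_singleton_iff.1 z.2).symm
    rw [B.cn_of_orderOf (x := (z : G)) (by rw [Subgroup.orderOf_coe, hz]), hB] at h
    exact hne ((Nat.prime_dvd_prime_iff_eq hq Fact.out).1 (hg.trans h))
  have hc : Nat.Coprime (cn g) 385 := by
    rw [show 385 = 5 * 7 * 11 by norm_num, Nat.coprime_comm]
    refine Nat.Coprime.mul_left (Nat.Coprime.mul_left ?_ ?_) ?_
    · exact (Fact.out : Nat.Prime 5).coprime_iff_not_dvd.2 (key K.B' K.hB' (by omega))
    · exact (Fact.out : Nat.Prime 7).coprime_iff_not_dvd.2 (key K.B K.hB (by omega))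
    · exact (Fact.out : Nat.Prime 11).coprime_iff_not_dvd.2 (key K.A.1 K.A.2 (by omega))
  exact hc.dvd_of_dvd_mul_left (show cn g ∣ 385 * 1152 from hdvd)

include K in
/-- The column at an element of order three is one of three. -/
theorem three_cases (hG : Nat.card G = 443520) {g : G} (hg : orderOf g = 3) {f : ℤ → ℤ}
    (hf : ∀ χ : IrrCharacter G, (χ : G → ℂ) g = (f (dg χ) : ℂ)) : (cn g, allDegs.map f) ∈ colsThree := by
  classical
  haveI : Fact (Nat.Prime 3) := ⟨Nat.prime_three⟩
  obtain ⟨hder, hsq⟩ := K.col_derived hG (g := g) (by rw [hg]; norm_num) (by rw [hg]; norm_num) (by rw [hg]; norm_num)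
    (ne_one_of_orderOf hg (by norm_num)) (by rw [hg]; norm_num) hf
  have h9 : 9 ∣ cn g := by
    obtain ⟨P, hP⟩ := (IsPGroup.of_card (p := 3) (G := ↥(Subgroup.zpowers g)) (n := 1)
      (by rw [Nat.card_zpowers, hg, pow_one])).exists_le_sylow
    have hPc : Nat.card P = 3 ^ 2 := by
      rw [P.card_eq_multiplicity, hG, show (443520 : ℕ) = 3 ^ 2 * 49280 by norm_num,
        Nat.factorization_mul (by norm_num) (by norm_num), Finsupp.add_apply,
        Nat.Prime.factorization_pow Nat.prime_three, Finsupp.single_eq_same,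
        Nat.factorization_eq_zero_of_not_dvd (by norm_num : ¬ 3 ∣ 49280)]
    rw [show (9 : ℕ) = 3 ^ 2 from rfl, ← hPc]
    have hcomm := IsPGroup.commutative_of_card_eq_prime_sq (G := P) hPc
    exact Subgroup.card_dvd_of_le fun w hw => Subgroup.mem_centralizer_singleton_iff.2
      (congrArg (fun s : P => (s : G)) (hcomm ⟨w, hw⟩ ⟨g, hP (Subgroup.mem_zpowers g)⟩))
  have hh : cn g ∈ ordsThree := by
    obtain ⟨j, hj⟩ := h9
    have hd : j ∣ 128 := by
      have h := K.cn_dvd_local hG Nat.prime_three (Or.inr rfl) (dvd_of_eq hg.symm)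
      rw [hj] at h
      exact Nat.dvd_of_mul_dvd_mul_left (by norm_num : 0 < 9) (show 9 * j ∣ 9 * 128 from h)
    have hj' : j ∈ Nat.divisors 128 := Nat.mem_divisors.2 ⟨hd, by norm_num⟩
    rw [show Nat.divisors 128 = {1, 2, 4, 8, 16, 32, 64, 128} by decide +kernel] at hj'
    rw [hj]
    simp only [Finset.mem_insert, Finset.mem_singleton] at hj'
    rcases hj' with rfl | rfl | rfl | rfl | rfl | rfl | rfl | rfl <;> decide
  have hok : ∀ d ∈ allDegs, ok3 (cn g) (d, f d) = true := by
    intro d hd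
    obtain ⟨χ, rfl⟩ := K.exists_deg hG hd
    have hcong : ((3 : ℕ) : ℤ) ∣ f (dg χ) - (dg χ : ℤ) := by
      rw [← neg_sub, Int.dvd_neg]
      refine congr_int χ (u := g) (v := 1) ?_ (Commute.one_right g) (by rw [orderOf_one]; norm_num) ?_ ?_
      · rw [← hg]; exact pow_orderOf_eq_one g
      · rw [mul_one]; exact hf χ
      · rw [value_one, Int.cast_natCast]
    simp only [ok3, Bool.and_eq_true, Nat.beq_eq, Int.natAbs_natCast]
    refine ⟨Nat.mod_eq_zero_of_dvd (Int.natCast_dvd.1 hcong), ?_⟩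
    have h := Int.dvd_of_emod_eq_zero (M22Ord.idx_mod hG χ (hf χ))
    rw [Int.natCast_dvd, Int.natAbs_mul, Int.natAbs_natCast] at h
    exact Nat.mod_eq_zero_of_dvd h
  have hmem : ∀ d : ℕ, 1 < d → (d : ℤ) ∈ allDegs → f d ∈ cand3 (cn g) d := by
    intro d hd1 hd
    obtain ⟨χ, hχ⟩ := K.exists_deg hG hd
    have hdd : dg χ = d := by exact_mod_cast hχ
    have hne : χ ≠ trivialIrr G := fun e => by rw [e, dg_trivial] at hdd; omega
    obtain ⟨h1, h2⟩ := M22Ord.value_lt hG hne (ne_one_of_orderOf hg (by norm_num)) (hf χ)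
    have hn := norm_insert_le {χ} (by simp [hne.symm]) (fun ψ => f (dg ψ)) hf
    rw [Finset.sum_singleton] at hn
    refine List.mem_filter.2 ⟨?_, hok _ hd⟩
    subst hdd
    exact mem_stepList h1 h2 (by omega) (Int.dvd_of_emod_eq_zero (M22Ord.idx_mod hG χ (hf χ)))
  have h := List.all_eq_true.1 (List.all_eq_true.1 (List.all_eq_true.1 checkThree_true _ hh) _
    (hmem 55 (by norm_num) (by decide))) _ (hmem 154 (by norm_num) (by decide))
  rw [Bool.or_eq_true] at h
  rcases h with h | h
  · exfalso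
    simp only [decide_eq_true_eq] at h
    rw [hder, sqSum, derived] at hsq
    simp only [List.map_cons, List.map_nil, List.sum_cons, List.sum_nil] at hsq
    simp only [Nat.cast_ofNat] at h
    nlinarith [mul_self_nonneg (f 21), mul_self_nonneg (f 45), mul_self_nonneg (f 45 + f 55 - 1),
      mul_self_nonneg (f 21 - 2 * f 45 + f 55 + f 154 - 2), mul_self_nonneg (-2 - f 21 + f 45 + f 55 + f 154),
      mul_self_nonneg (4 - 3 * f 55 - 3 * f 154)]
  have h' := List.all_eq_true.1 (List.all_eq_true.1 h _ (hmem 45 (by norm_num) (by decide))) _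
    (hmem 21 (by norm_num) (by decide))
  simp only [Nat.cast_ofNat] at h'
  simp only [← hder, hsq] at h'
  have hall : (allDegs.zip (allDegs.map f)).all (ok3 (cn g)) = true :=
    List.all_eq_true.2 fun x hx => by
      obtain ⟨hd, he⟩ := mem_zip_map f hx
      rw [show x = (x.1, f x.1) from Prod.ext rfl he]
      exact hok _ hd
  simpa [hall] using h'

include K in
/-- An element of order six from a commuting involution and element of order three. -/
theorem six_check (hG : Nat.card G = 443520) {t v : G} (ht : orderOf t = 2) (hv : orderOf v = 3)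
    (hc : Commute t v) {f : ℤ → ℤ} (hf : ∀ χ : IrrCharacter G, (χ : G → ℂ) v = (f (dg χ) : ℂ))
    (h36 : cn v = 36) {good : ℕ → Bool} (hs : searchSix (allDegs.map f) good = true) :
    good (cn (t * v)) = true := by
  classical
  have ho : orderOf (t * v) = 6 := by
    rw [hc.orderOf_mul_eq_mul_orderOf_of_coprime (by rw [ht, hv]; norm_num), ht, hv]
  obtain ⟨w, hw⟩ := K.exists_val hG (g := t * v) (by rw [ho]; norm_num) (by rw [ho]; norm_num)
  obtain ⟨hder, hsq⟩ := K.col_derived hG (g := t * v) (by rw [ho]; norm_num) (by rw [ho]; norm_num)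
    (by rw [ho]; norm_num) (ne_one_of_orderOf ho (by norm_num)) (by rw [ho]; norm_num) hw
  have hcn : cn (t * v) ∣ 36 := by
    rw [← h36]
    refine Subgroup.card_dvd_of_le fun x hx => ?_
    rw [Subgroup.mem_centralizer_singleton_iff] at hx ⊢
    have e : (t * v) ^ 4 = v := by
      rw [hc.mul_pow, show t ^ 4 = 1 by rw [← orderOf_dvd_iff_pow_eq_one, ht]; norm_num, one_mul,
        show v ^ 4 = v ^ 3 * v from pow_succ v 3, ← hv, pow_orderOf_eq_one, one_mul]
    rw [← e]
    exact (Commute.pow_right (show Commute x (t * v) from hx) 4).eq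
  have h6 : 6 ∣ cn (t * v) := ho ▸ orderOf_dvd_cn (rfl : t * v * (t * v) = t * v * (t * v))
  have hh : cn (t * v) ∈ ([6, 12, 18, 36] : List ℕ) := by
    obtain ⟨j, hj⟩ := h6
    have hd : j ∣ 6 := Nat.dvd_of_mul_dvd_mul_left (by norm_num : 0 < 6) (show 6 * j ∣ 6 * 6 by rw [← hj]; exact hcn)
    have hj' : j ∈ Nat.divisors 6 := Nat.mem_divisors.2 ⟨hd, by norm_num⟩
    rw [show Nat.divisors 6 = {1, 2, 3, 6} by decide +kernel] at hj'
    rw [hj]
    simp only [Finset.mem_insert, Finset.mem_singleton] at hj'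
    rcases hj' with rfl | rfl | rfl | rfl <;> decide
  have hcong : ∀ d ∈ allDegs, (3 : ℤ) ∣ w d - invVal d ∧ (2 : ℤ) ∣ w d - f d := by
    intro d hd
    obtain ⟨χ, rfl⟩ := K.exists_deg hG hd
    constructor
    · haveI : Fact (Nat.Prime 3) := ⟨Nat.prime_three⟩
      rw [← neg_sub, Int.dvd_neg]
      exact congr_int χ (p := 3) (u := v) (v := t) (by rw [← hv]; exact pow_orderOf_eq_one v) hc.symm
        (by rw [ht]; norm_num) (by rw [← hc.eq]; exact hw χ) (K.inv_value_eq hG ht χ)
    · haveI : Fact (Nat.Prime 2) := ⟨Nat.prime_two⟩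
      rw [← neg_sub, Int.dvd_neg]
      exact congr_int χ (p := 2) (u := t) (v := v) (by rw [← ht]; exact pow_orderOf_eq_one t) hc
        (by rw [hv]; norm_num) (hw χ) (hf χ)
  have hmem : ∀ d : ℤ, d ∈ allDegs → d ≠ 1 → w d ∈ cand6 (cn (t * v)) (invVal d) (f d) := by
    intro d hd hd1
    obtain ⟨χ, hχ⟩ := K.exists_deg hG hd
    have hne : χ ≠ trivialIrr G := fun e => by rw [e, dg_trivial] at hχ; omega
    have hn := norm_insert_le {χ} (by simp [hne.symm]) (fun ψ => w (dg ψ)) hw
    rw [Finset.sum_singleton, hχ] at hn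
    have h36' : cn (t * v) ≤ 36 := Nat.le_of_dvd (by norm_num) hcn
    obtain ⟨h3, h2⟩ := hcong d hd
    refine List.mem_filter.2 ⟨?_, ?_⟩
    · have hb : w d * w d ≤ 35 := by omega
      have h1 : -6 ≤ w d := by nlinarith
      have h2 : w d ≤ 6 := by nlinarith
      generalize w d = z at h1 h2
      interval_cases z <;> decide
    · simp only [Bool.and_eq_true, Nat.blt_eq, Nat.beq_eq]
      refine ⟨⟨?_, Nat.mod_eq_zero_of_dvd (Int.natCast_dvd.1 (show ((3 : ℕ) : ℤ) ∣ _ from h3))⟩,
        Nat.mod_eq_zero_of_dvd (Int.natCast_dvd.1 (show ((2 : ℕ) : ℤ) ∣ _ from h2))⟩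
      rw [← Int.natAbs_mul_self (a := w d)] at hn
      omega
  have e55 : (allDegs.map f).getD 4 0 = f 55 := rfl
  have e154 : (allDegs.map f).getD 6 0 = f 154 := rfl
  have e45 : (allDegs.map f).getD 2 0 = f 45 := rfl
  have e21 : (allDegs.map f).getD 1 0 = f 21 := rfl
  have h := List.all_eq_true.1 hs _ hh
  have i55 : invVal 55 = 7 := by decide
  have i154 : invVal 154 = 10 := by decide
  have i45 : invVal 45 = -3 := by decide
  have i21 : invVal 21 = 5 := by decide
  rw [e55, e154, e45, e21, ← i55, ← i154, ← i45, ← i21] at h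
  have h' := List.all_eq_true.1 (List.all_eq_true.1 (List.all_eq_true.1 (List.all_eq_true.1 h _
    (hmem 55 (by decide) (by norm_num))) _ (hmem 154 (by decide) (by norm_num))) _
    (hmem 45 (by decide) (by norm_num))) _ (hmem 21 (by decide) (by norm_num))
  simp only [← hder, hsq] at h'
  have hz : ((allDegs.map w).zip (colTwo.zip (allDegs.map f))).all (fun x => Nat.beq ((x.1 - x.2.1).natAbs % 3) 0 &&
      Nat.beq ((x.1 - x.2.2).natAbs % 2) 0) = true := List.all_eq_true.2 fun x hx => by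
    rw [← colTwo_eq] at hx
    obtain ⟨d, hd, rfl⟩ := mem_zip3_map w invVal f hx
    obtain ⟨h3, h2⟩ := hcong d hd
    simp only [Bool.and_eq_true, Nat.beq_eq]
    exact ⟨Nat.mod_eq_zero_of_dvd (Int.natCast_dvd.1 (show ((3 : ℕ) : ℤ) ∣ _ from h3)),
      Nat.mod_eq_zero_of_dvd (Int.natCast_dvd.1 (show ((2 : ℕ) : ℤ) ∣ _ from h2))⟩
  have ho0 : (((allDegs.map w).zip (allDegs.map f)).map fun x => x.1 * x.2).sum = 0 := by
    rw [List.zip_map', List.map_map]
    refine K.sum_col hG hw hf fun hcj => ?_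
    obtain ⟨k, hk⟩ := isConj_iff.1 hcj
    have e := MulEquiv.orderOf_eq (MulAut.conj k) (t * v)
    rw [MulAut.conj_apply, hk, hv, ho] at e
    norm_num at e
  simpa [hz, ho0] using h'

include K in
/-- An element of order three commuting with an involution. -/
theorem exists_three (hG : Nat.card G = 443520) :
    ∃ t v : G, orderOf t = 2 ∧ orderOf v = 3 ∧ Commute t v := by
  haveI : Fact (Nat.Prime 2) := ⟨Nat.prime_two⟩
  haveI : Fact (Nat.Prime 3) := ⟨Nat.prime_three⟩
  obtain ⟨t, ht⟩ := exists_prime_orderOf_dvd_card' (G := G) 2 (by rw [hG]; norm_num)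
  have h : 3 ∣ cn t := by rw [(K.inv_column hG ht).1]; norm_num
  obtain ⟨v, hv⟩ := exists_prime_orderOf_dvd_card' (G := Subgroup.centralizer ({t} : Set G)) 3 h
  exact ⟨t, v, ht, by rw [Subgroup.orderOf_coe, hv], (Subgroup.mem_centralizer_singleton_iff.1 v.2).symm⟩

include K in
/-- The column at every element of order three, and the order of its centralizer. -/
theorem three_column (hG : Nat.card G = 443520) {g : G} (hg : orderOf g = 3) :
    cn g = 36 ∧ ∀ χ : IrrCharacter G, (χ : G → ℂ) g = (threeVal (dg χ) : ℂ) := by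
  classical
  obtain ⟨t, v, ht, hv, hc⟩ := K.exists_three hG
  have h77 : ∀ {x : G}, orderOf x = 3 → ¬ 7 ∣ orderOf x ∧ ¬ 11 ∣ orderOf x := fun hx => by rw [hx]; norm_num
  obtain ⟨f, hf⟩ := K.exists_val hG (h77 hv).1 (h77 hv).2
  obtain ⟨f', hf'⟩ := K.exists_val hG (h77 hg).1 (h77 hg).2
  have hcol := K.three_cases hG hv hf
  have h2 : 2 ∣ cn v := ht ▸ orderOf_dvd_cn hc.eq
  simp only [colsThree, List.mem_cons, List.not_mem_nil, or_false, Prod.mk.injEq] at hcol
  have hplus : cn v = 36 ∧ allDegs.map f = [1, 3, 0, 0, 1, 0, 1, 3, -3, 1, 1, -2] := by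
    rcases hcol with ⟨h, -⟩ | h | ⟨h, h'⟩
    · rw [h] at h2; norm_num at h2
    · exact h
    · exfalso
      have := K.six_check hG ht hv hc hf h (good := fun _ => false) (by rw [h']; exact searchSix_minus)
      simp at this
  have hval : ∀ (F : ℤ → ℤ), allDegs.map F = [1, 3, 0, 0, 1, 0, 1, 3, -3, 1, 1, -2] →
      ∀ χ : IrrCharacter G, F (dg χ) = threeVal (dg χ) := fun F hF χ => by
    have hd : (dg χ : ℤ) ∈ allDegs := by
      have : (dg χ : ℤ) ∈ (allDegs : Multiset ℤ) := by
        rw [← K.degs_eq hG]; exact Multiset.mem_map.2 ⟨χ, Finset.mem_univ_val _, rfl⟩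
      exact this
    rw [← threeVal_eq] at hF
    exact (List.map_inj_left.1 hF) _ hd
  by_cases hcg : IsConj v g
  · exact ⟨(cn_eq_of_isConj hcg).symm.trans hplus.1, fun χ => by
      rw [← IsClass.eq_of_isConj (IsIrr.classFun χ.2) hcg, hf, hval f hplus.2 χ]⟩
  · have hcol' := K.three_cases hG hg hf'
    have ho := K.sum_col hG hf hf' hcg
    have e : (allDegs.map fun d => f d * f' d) = ((allDegs.map f).zip (allDegs.map f')).map fun x => x.1 * x.2 := by
      rw [List.zip_map', List.map_map]; rfl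
    rw [e, hplus.2] at ho
    simp only [colsThree, List.mem_cons, List.not_mem_nil, or_false, Prod.mk.injEq] at hcol'
    rcases hcol' with ⟨-, h⟩ | ⟨-, h⟩ | ⟨-, h⟩ <;> rw [h] at ho <;> norm_num at ho

include K in
/-- The common centralizer of commuting elements of orders two and three has twelve elements. -/
theorem cn_six (hG : Nat.card G = 443520) {t v : G} (ht : orderOf t = 2) (hv : orderOf v = 3)
    (hc : Commute t v) : cn (t * v) = 12 := by
  obtain ⟨h36, hval⟩ := K.three_column hG hv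
  have h := K.six_check hG ht hv hc hval h36 (good := fun h => Nat.beq h 12)
    (by rw [threeVal_eq]; exact searchSix_plus)
  simpa using h

end Frame

end Cfsg.Agent.Invol.M22Ord
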