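import Mathlib
import Cfsg.Agent.Lib.Invol.Order443520.OrderThree
import Cfsg.Agent.Lib.Invol.Order443520.GroupTools

/-!
Simple groups of order 443520: the centralizer of an element of order three has a normal four-group of
involutions, permuted transitively.
-/

set_option autoImplicit false
set_option linter.style.haveILetI false
set_option linter.unusedSectionVars false

namespace Cfsg.Agent.Invol.M22Ord

open scoped ComplexConjugate
open Cfsg Cfsg.Agent.Block Cfsg.Agent.Char Cfsg.Agent.Invol.M12Ord

universe u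

variable {G : Type u} [Group G] [Finite G] [IsSimpleGroup G]
variable [Fact (Nat.Prime 5)] [Fact (Nat.Prime 7)] [Fact (Nat.Prime 11)]

/-- A commuting pair of an element of order three and an involution, with the four-group around the involution. -/
structure Klein (v t : G) where
  X : Subgroup G
  hv : orderOf v = 3
  ht : orderOf t = 2
  card : Nat.card X = 4
  t_mem : t ∈ X
  le_cen : X ≤ Subgroup.centralizer ({v} : Set G)
  norm : Subgroup.centralizer ({v} : Set G) ≤ Subgroup.normalizer (X : Set G)
  sq : ∀ y ∈ X, y * y = 1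
  two : ∀ y ∈ Subgroup.centralizer ({v} : Set G), ∀ k : ℕ, y ^ 2 ^ k = 1 → y ∈ X
  moves : ∀ z : G, orderOf z = 3 → Commute z v → z ∉ Subgroup.zpowers v → ∀ x ∈ X, Commute z x → x = 1

theorem orderOf_involution {x : G} (h : x * x = 1) (h1 : x ≠ 1) : orderOf x = 2 :=
  orderOf_eq_prime (by rw [sq, h]) h1

namespace Frame

variable (K : Frame G)

include K in
/-- Commuting elements of orders two and three. -/
theorem cen_six (hG : Nat.card G = 443520) {t v : G} (ht : orderOf t = 2) (hv : orderOf v = 3) (hc : Commute t v) :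
    Subgroup.centralizer ({t * v} : Set G) =
        Subgroup.centralizer ({t} : Set G) ⊓ Subgroup.centralizer ({v} : Set G) ∧
      Nat.card (Subgroup.centralizer ({t} : Set G) ⊓ Subgroup.centralizer ({v} : Set G) : Subgroup G) = 12 := by
  have heq : Subgroup.centralizer ({t * v} : Set G) =
      Subgroup.centralizer ({t} : Set G) ⊓ Subgroup.centralizer ({v} : Set G) := by
    ext x
    simp only [Subgroup.mem_inf, Subgroup.mem_centralizer_singleton_iff]
    refine ⟨fun h => ⟨?_, ?_⟩, fun h => (Commute.mul_right h.1 h.2).eq⟩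
    · have e : (t * v) ^ 3 = t := by
        rw [hc.mul_pow, show v ^ 3 = 1 by rw [← hv]; exact pow_orderOf_eq_one v, mul_one,
          pow_succ, show t ^ 2 = 1 by rw [← ht]; exact pow_orderOf_eq_one t, one_mul]
      rw [← e]
      exact (Commute.pow_right (show Commute x (t * v) from h) 3).eq
    · have e : (t * v) ^ 4 = v := by
        rw [hc.mul_pow, show t ^ 4 = 1 by rw [← orderOf_dvd_iff_pow_eq_one, ht]; norm_num, one_mul,
          pow_succ, show v ^ 3 = 1 by rw [← hv]; exact pow_orderOf_eq_one v, one_mul]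
      rw [← e]
      exact (Commute.pow_right (show Commute x (t * v) from h) 4).eq
  exact ⟨heq, by rw [← heq]; exact K.cn_six hG ht hv hc⟩

include K in
/-- An element of order three commutes with an involution. -/
theorem exists_commuting (hG : Nat.card G = 443520) {v : G} (hv : orderOf v = 3) :
    ∃ t : G, orderOf t = 2 ∧ Commute t v := by
  haveI : Fact (Nat.Prime 2) := ⟨Nat.prime_two⟩
  have h : 2 ∣ cn v := by rw [(K.three_column hG hv).1]; norm_num
  obtain ⟨t, ht⟩ := exists_prime_orderOf_dvd_card' (G := Subgroup.centralizer ({v} : Set G)) 2 h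
  exact ⟨t, by rw [Subgroup.orderOf_coe, ht], Subgroup.mem_centralizer_singleton_iff.1 t.2⟩

include K in
/-- The four-group in the centralizer of an element of order three. -/
theorem exists_klein (hG : Nat.card G = 443520) {v t : G} (ht : orderOf t = 2) (hv : orderOf v = 3)
    (hc : Commute t v) : Nonempty (Klein v t) := by
  classical
  haveI : Fact (Nat.Prime 2) := ⟨Nat.prime_two⟩
  haveI : Fact (Nat.Prime 3) := ⟨Nat.prime_three⟩
  set Cv := Subgroup.centralizer ({v} : Set G) with hCv
  set M := Subgroup.centralizer ({t} : Set G) ⊓ Cv with hM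
  obtain ⟨heq, hM12⟩ := K.cen_six hG ht hv hc
  have hCv36 : Nat.card Cv = 36 := (K.three_column hG hv).1
  have htC : t ∈ Cv := Subgroup.mem_centralizer_singleton_iff.2 hc.eq
  obtain ⟨S, hS⟩ := (IsPGroup.of_card (p := 2) (G := ↥(Subgroup.zpowers (⟨t, htC⟩ : Cv))) (n := 1)
    (by rw [Nat.card_zpowers, Subgroup.orderOf_mk, ht, pow_one])).exists_le_sylow
  have h22 : (36 : ℕ).factorization 2 = 2 := by
    rw [show (36 : ℕ) = 2 ^ 2 * 9 by norm_num, Nat.factorization_mul (by norm_num) (by norm_num),
      Finsupp.add_apply, Nat.Prime.factorization_pow Nat.prime_two, Finsupp.single_eq_same,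
      Nat.factorization_eq_zero_of_not_dvd (by norm_num : ¬ 2 ∣ 9)]
  have hSc : Nat.card S = 2 ^ 2 := by rw [S.card_eq_multiplicity, hCv36, h22]
  set X := (S : Subgroup Cv).map Cv.subtype with hX
  have hXc : Nat.card X = 4 := by
    rw [hX, ← Nat.card_congr ((S : Subgroup Cv).equivMapOfInjective _ Cv.subtype_injective).toEquiv]
    exact hSc
  have hXle : X ≤ Cv := Subgroup.map_subtype_le _
  have htX : t ∈ X := ⟨⟨t, htC⟩, hS (Subgroup.mem_zpowers _), rfl⟩
  have hcommS := IsPGroup.commutative_of_card_eq_prime_sq (G := S) hSc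
  have hcommX : ∀ a ∈ X, ∀ b ∈ X, a * b = b * a := by
    rintro a ⟨a', ha, rfl⟩ b ⟨b', hb, rfl⟩
    exact congrArg (fun s : S => ((s : Cv) : G)) (hcommS ⟨a', ha⟩ ⟨b', hb⟩)
  have hXM : X ≤ M := fun y hy => Subgroup.mem_inf.2
    ⟨Subgroup.mem_centralizer_singleton_iff.2 (hcommX y hy t htX), hXle hy⟩
  have hvC : v ∈ Cv := Subgroup.mem_centralizer_singleton_iff.2 rfl
  have hvM : v ∈ M := Subgroup.mem_inf.2 ⟨Subgroup.mem_centralizer_singleton_iff.2 hc.eq.symm, hvC⟩
  -- the normalizer of `S` contains `M`
  have hMn : ∀ m ∈ M, ∀ y ∈ X, m * y = y * m := by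
    intro m hm y hy
    have hXv : ∀ y ∈ X, v * y = y * v := fun y hy =>
      (Subgroup.mem_centralizer_singleton_iff.1 (hXle hy)).symm
    set U := Subgroup.centralizer ((X : Set G)) ⊓ M with hU
    have hXU : X ≤ U := le_inf (fun a ha => Subgroup.mem_centralizer_iff.2 fun b hb => hcommX b hb a ha) hXM
    have hvU : v ∈ U := Subgroup.mem_inf.2 ⟨Subgroup.mem_centralizer_iff.2 fun b hb => (hXv b hb).symm, hvM⟩
    have h12 : 12 ∣ Nat.card U := Nat.Coprime.mul_dvd_of_dvd_of_dvd (m := 4) (n := 3) (by norm_num)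
      (hXc ▸ Subgroup.card_dvd_of_le hXU)
      (by have h := Subgroup.orderOf_dvd_natCard U hvU; rwa [hv] at h)
    have hUM : U = M := Subgroup.eq_of_le_of_card_ge inf_le_right (hM12.trans_le (Nat.le_of_dvd Nat.card_pos h12))
    exact (Subgroup.mem_centralizer_iff.1 (Subgroup.mem_inf.1 (hUM.symm ▸ hm : m ∈ U)).1 y hy).symm
  set Mc := M.subgroupOf Cv with hMc
  have hMcc : Nat.card Mc = 12 := by
    rw [Nat.card_congr (Subgroup.subgroupOfEquivOfLe (show M ≤ Cv from inf_le_right)).toEquiv, hM12]
  -- the Sylow subgroup is normal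
  have hnorm : (S : Subgroup Cv).Normal := by
    by_contra hn
    have hle : Mc ≤ Subgroup.normalizer ((S : Subgroup Cv) : Set Cv) := fun m hm => by
      refine Subgroup.mem_normalizer_iff.2 fun y => ?_
      have key : ∀ z ∈ (S : Subgroup Cv), m * z * m⁻¹ = z := fun z hz => by
        have := hMn _ hm (z : G) ⟨z, hz, rfl⟩
        apply Subtype.ext
        show (m : G) * z * (m : G)⁻¹ = z
        rw [show (m : G) * z = z * m from this, mul_inv_cancel_right]
      refine ⟨fun hy => by rw [key y hy]; exact hy, fun hy => ?_⟩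
      have := key _ hy
      have e : m * y * m⁻¹ = y := mul_left_cancel (mul_right_cancel this)
      rwa [e] at hy
    have hidx : Mc.index = 3 := by
      have h := Subgroup.card_mul_index Mc
      rw [hMcc, hCv36] at h
      omega
    have hNM : Subgroup.normalizer ((S : Subgroup Cv) : Set Cv) = Mc := by
      rcases (Nat.dvd_prime Nat.prime_three).1 (hidx ▸ Subgroup.index_dvd_of_le hle) with h | h
      · exact absurd (Subgroup.normalizer_eq_top_iff.1 (Subgroup.index_eq_one.1 h)) hn
      · refine (Subgroup.eq_of_le_of_card_ge hle ?_).symm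
        have h' := Subgroup.card_mul_index (Subgroup.normalizer ((S : Subgroup Cv) : Set Cv))
        rw [h, hCv36] at h'
        omega
    have hn2 : Nat.card (Sylow 2 Cv) = 3 := by
      rw [Sylow.card_eq_index_normalizer S]
      show (Subgroup.normalizer ((S : Subgroup Cv) : Set Cv)).index = 3
      rw [hNM, hidx]
    set ρ := MulAction.toPermHom Cv (Sylow 2 Cv) with hρ
    have hDM : ρ.ker ≤ Mc := fun y hy => by
      rw [← hNM]
      show y ∈ Subgroup.normalizer (S : Set Cv)
      rw [← Sylow.stabilizer_eq_normalizer]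
      exact MulAction.mem_stabilizer_iff.2 (by
        have := congrArg (fun σ : Equiv.Perm (Sylow 2 Cv) => σ S) (MonoidHom.mem_ker.1 hy)
        simpa [hρ] using this)
    have hdvd : ρ.ker.index ∣ 6 := by
      haveI := Fintype.ofFinite (Sylow 2 Cv)
      rw [Subgroup.index_ker]
      have h := Subgroup.card_subgroup_dvd_card ρ.range
      rw [Nat.card_perm, hn2] at h
      exact h
    have hcm := Subgroup.card_mul_index ρ.ker
    rw [hCv36] at hcm
    have h6 : Nat.card ρ.ker = 6 := by
      have hd12 : Nat.card ρ.ker ∣ 12 := hMcc ▸ Subgroup.card_dvd_of_le hDM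
      have hne : Nat.card ρ.ker ≠ 12 := fun e => by
        have heqD : ρ.ker = Mc := Subgroup.eq_of_le_of_card_ge hDM (by rw [e, hMcc])
        have hn' : Mc.Normal := heqD ▸ ρ.normal_ker
        refine hn ⟨fun y hy m => ?_⟩
        have hy' : y ∈ Mc := hXM ⟨y, hy, rfl⟩
        have hT : ∀ z ∈ Mc, (z : G) * (z : G) * ((z : G) * (z : G)) = 1 → z ∈ (S : Subgroup Cv) := by
          intro z hz hz4
          have hle' : (S : Subgroup Cv) ⊔ Subgroup.zpowers z ≤ Mc :=
            sup_le (fun s hs => hXM ⟨s, hs, rfl⟩) (Subgroup.zpowers_le.2 hz)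
          have hp : IsPGroup 2 ((S : Subgroup Cv) ⊔ Subgroup.zpowers z : Subgroup Cv) := by
            have h4 : orderOf z ∣ 2 ^ 2 := orderOf_dvd_of_pow_eq_one (Subtype.ext (by
              show ((z : G)) ^ (2 ^ 2) = 1
              rw [← hz4]; simp [pow_succ, mul_assoc]))
            obtain ⟨i, -, hi⟩ := (Nat.dvd_prime_pow Nat.prime_two).1 h4
            have hzp : IsPGroup 2 (Subgroup.zpowers z) := IsPGroup.of_card (n := i) (by rw [Nat.card_zpowers, hi])
            exact S.2.to_sup_of_normal_left' hzp (Subgroup.zpowers_le.2 (hle hz))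
          have := S.3 hp le_sup_left
          exact this ▸ le_sup_right (a := (S : Subgroup Cv)) (Subgroup.mem_zpowers z)
        refine hT _ (hn'.conj_mem y hy' m) ?_
        have h4 : y ^ 4 = 1 := by
          have h := pow_card_eq_one' (x := (⟨y, hy⟩ : (S : Subgroup Cv)))
          rw [show Nat.card (S : Subgroup Cv) = 2 ^ 2 from hSc] at h
          exact congrArg Subtype.val h
        have h4' : (y : G) ^ 4 = 1 := congrArg Subtype.val h4
        show ((m : G) * y * (m : G)⁻¹) * ((m : G) * y * (m : G)⁻¹) *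
          (((m : G) * y * (m : G)⁻¹) * ((m : G) * y * (m : G)⁻¹)) = 1
        rw [show ((m : G) * y * (m : G)⁻¹) * ((m : G) * y * (m : G)⁻¹) *
          (((m : G) * y * (m : G)⁻¹) * ((m : G) * y * (m : G)⁻¹)) = (m : G) * (y : G) ^ 4 * (m : G)⁻¹ by simp [pow_succ, mul_assoc], h4']
        group
      have hi0 : ρ.ker.index ≤ 6 := Nat.le_of_dvd (by norm_num) hdvd
      have hk12 : Nat.card ρ.ker ≤ 12 := Nat.le_of_dvd (by norm_num) hd12
      generalize Nat.card ρ.ker = a at hd12 hne hcm hk12
      generalize ρ.ker.index = b at hcm hi0 hdvd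
      interval_cases b <;> omega
    obtain ⟨⟨s, hs⟩, hso⟩ := exists_prime_orderOf_dvd_card' (G := ρ.ker) 2 (by rw [h6]; norm_num)
    rw [Subgroup.orderOf_mk] at hso
    have hs1 : orderOf (s : G) = 2 := by rw [Subgroup.orderOf_coe, hso]
    have hsv : Commute (s : G) v := Subgroup.mem_centralizer_singleton_iff.1 s.2
    -- `s` is central
    have hcent : ∀ y : Cv, y * s * y⁻¹ = s := by
      intro y
      set s' := y * s * y⁻¹ with hs'
      have hs'k : s' ∈ ρ.ker := ρ.normal_ker.conj_mem s hs y
      by_contra hne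
      have hMc_comm : ∀ a ∈ Mc, ∀ b ∈ Mc, (a : G) * b = b * a := by
        intro a ha b hb
        set U := Subgroup.centralizer ({(b : G)} : Set G) ⊓ M with hU
        have hXU : X ≤ U := le_inf (fun z hz => Subgroup.mem_centralizer_singleton_iff.2 (hMn _ hb z hz).symm) hXM
        have hvU : v ∈ U := Subgroup.mem_inf.2 ⟨Subgroup.mem_centralizer_singleton_iff.2
          (Subgroup.mem_centralizer_singleton_iff.1 b.2).symm, hvM⟩
        have h12 : 12 ∣ Nat.card U := Nat.Coprime.mul_dvd_of_dvd_of_dvd (m := 4) (n := 3) (by norm_num)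
          (hXc ▸ Subgroup.card_dvd_of_le hXU)
          (by have h := Subgroup.orderOf_dvd_natCard U hvU; rwa [hv] at h)
        have hUM : U = M := Subgroup.eq_of_le_of_card_ge inf_le_right
          (hM12.trans_le (Nat.le_of_dvd Nat.card_pos h12))
        exact Subgroup.mem_centralizer_singleton_iff.1 (Subgroup.mem_inf.1 (hUM.symm ▸ ha : (a : G) ∈ U)).1
      let T : Subgroup Cv :=
        { carrier := {z | z ∈ ρ.ker ∧ z * z = 1}
          one_mem' := ⟨one_mem _, one_mul 1⟩
          mul_mem' := by
            rintro a b ⟨ha, ha2⟩ ⟨hb, hb2⟩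
            refine ⟨mul_mem ha hb, ?_⟩
            have e : a * b = b * a := Subtype.ext (hMc_comm a (hDM ha) b (hDM hb))
            calc a * b * (a * b) = a * (b * a) * b := by group
              _ = a * (a * b) * b := by rw [← e]
              _ = (a * a) * (b * b) := by group
              _ = 1 := by rw [ha2, hb2, one_mul]
          inv_mem' := by
            rintro a ⟨ha, ha2⟩
            exact ⟨inv_mem ha, by rw [← mul_inv_rev, ha2, inv_one]⟩ }
      have hs2 : s * s = 1 := by rw [← sq, ← hso]; exact pow_orderOf_eq_one s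
      have hsT : s ∈ T := ⟨hs, hs2⟩
      have hs'T : s' ∈ T := ⟨hs'k, by
        rw [hs', show y * s * y⁻¹ * (y * s * y⁻¹) = y * (s * s) * y⁻¹ by group, hs2]; group⟩
      have hsub : ∀ z ∈ T, z ∈ ({1, s} : Finset Cv) := by
        have hTp : IsPGroup 2 T := fun z => ⟨1, Subtype.ext (by
          show (z : Cv) ^ 2 ^ 1 = 1
          rw [pow_one, sq]; exact z.2.2)⟩
        obtain ⟨n, hn'⟩ := IsPGroup.iff_card.1 hTp
        have hdvd6 : Nat.card T ∣ 6 := h6 ▸ Subgroup.card_dvd_of_le fun z hz => hz.1
        have hT2 : Nat.card T ≤ 2 := by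
          rw [hn'] at hdvd6 ⊢
          rcases Nat.lt_or_ge n 2 with h | h
          · interval_cases n <;> norm_num
          · exfalso
            have := (Nat.pow_dvd_pow 2 h).trans hdvd6
            norm_num at this
        intro z hz
        by_contra hz'
        simp only [Finset.mem_insert, Finset.mem_singleton, not_or] at hz'
        haveI := Fintype.ofFinite T
        have h3 : 3 ≤ Nat.card T := by
          rw [Nat.card_eq_fintype_card, Fintype.card]
          refine le_trans (le_of_eq ?_) (Finset.card_le_card (Finset.subset_univ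
            ({⟨1, one_mem _⟩, ⟨s, hsT⟩, ⟨z, hz⟩} : Finset T)))
          rw [Finset.card_insert_of_notMem, Finset.card_insert_of_notMem, Finset.card_singleton]
          · simp [Ne.symm hz'.2]
          · have hs1' : (1 : Cv) ≠ s := fun e => by rw [← e, orderOf_one] at hso; norm_num at hso
            simp [hs1', Ne.symm hz'.1]
        omega
      have := hsub s' hs'T
      simp only [Finset.mem_insert, Finset.mem_singleton] at this
      rcases this with e | e
      · rw [hs', mul_inv_eq_one, mul_eq_left] at e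
        rw [e, orderOf_one] at hso; norm_num at hso
      · exact hne e
    obtain ⟨-, h12⟩ := K.cen_six hG hs1 hv hsv
    have hle' : Cv ≤ Subgroup.centralizer ({(s : G)} : Set G) ⊓ Cv := le_inf (fun y hy =>
      Subgroup.mem_centralizer_singleton_iff.2 (by
        have := congrArg Subtype.val (hcent ⟨y, hy⟩)
        change y * (s : G) * y⁻¹ = (s : G) at this
        exact mul_inv_eq_iff_eq_mul.1 this)) le_rfl
    have := Subgroup.card_le_of_le hle'
    rw [h12, hCv36] at this
    omega
  have hXn : Cv ≤ Subgroup.normalizer (X : Set G) := fun y hy => mem_normalizer_of_inv (v := y) fun z hz => by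
    obtain ⟨z', hz', rfl⟩ := hz
    exact ⟨⟨y, hy⟩ * z' * ⟨y, hy⟩⁻¹, hnorm.conj_mem z' hz' _, rfl⟩
  have htwo : ∀ y ∈ Cv, ∀ k : ℕ, y ^ 2 ^ k = 1 → y ∈ X := by
    intro y hy k hk
    haveI := hnorm
    have hcop : Nat.Coprime (orderOf (⟨y, hy⟩ : Cv)) (S : Subgroup Cv).index := by
      have h9 : (S : Subgroup Cv).index = 9 := by
        have h := Subgroup.card_mul_index (S : Subgroup Cv)
        rw [show Nat.card (S : Subgroup Cv) = 2 ^ 2 from hSc, hCv36] at h
        omega
      rw [h9, Subgroup.orderOf_mk]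
      exact Nat.Coprime.coprime_dvd_left (orderOf_dvd_of_pow_eq_one hk) (Nat.Coprime.pow_left _ (by norm_num))
    obtain ⟨m, hm⟩ := exists_pow_eq_self_of_coprime hcop.symm
    refine ⟨⟨y, hy⟩, ?_, rfl⟩
    rw [← hm]
    exact pow_mem (Subgroup.pow_index_mem _ _) m
  have hmoves : ∀ z : G, orderOf z = 3 → Commute z v → z ∉ Subgroup.zpowers v → ∀ x ∈ X, x * x = 1 →
      Commute z x → x = 1 := by
    intro z hz hzv hznot x hx hx2 hzx
    by_contra hx1
    obtain ⟨-, h12⟩ := K.cen_six hG (orderOf_involution hx2 hx1) hv (Subgroup.mem_centralizer_singleton_iff.1 (hXle hx))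
    set U := Subgroup.centralizer ({x} : Set G) ⊓ Cv
    let W : Subgroup G := Subgroup.zpowers v ⊔ Subgroup.zpowers z
    have hWU : W ≤ U := sup_le (Subgroup.zpowers_le.2 (Subgroup.mem_inf.2
        ⟨Subgroup.mem_centralizer_singleton_iff.2 (Subgroup.mem_centralizer_singleton_iff.1 (hXle hx)).symm, hvC⟩))
      (Subgroup.zpowers_le.2 (Subgroup.mem_inf.2 ⟨Subgroup.mem_centralizer_singleton_iff.2 hzx.eq,
        Subgroup.mem_centralizer_singleton_iff.2 hzv.eq⟩))
    have hp : IsPGroup 3 W := by
      refine (IsPGroup.of_card (n := 1) (by rw [Nat.card_zpowers, hv, pow_one])).to_sup_of_normal_left'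
        (IsPGroup.of_card (n := 1) (by rw [Nat.card_zpowers, hz, pow_one])) ?_
      refine Subgroup.zpowers_le.2 (mem_normalizer_of_inv (v := z) fun y hy => ?_)
      obtain ⟨i, rfl⟩ := Subgroup.mem_zpowers_iff.1 hy
      rw [(hzv.zpow_right i).eq, mul_inv_cancel_right]
      exact zpow_mem (Subgroup.mem_zpowers v) i
    obtain ⟨n, hn⟩ := IsPGroup.iff_card.1 hp
    have hdvd : 3 ^ n ∣ 12 := hn ▸ h12 ▸ Subgroup.card_dvd_of_le hWU
    have hn1 : n ≤ 1 := by
      by_contra h
      have := (Nat.pow_dvd_pow 3 (show 2 ≤ n by omega)).trans hdvd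
      norm_num at this
    refine hznot ?_
    have : Subgroup.zpowers v = W := Subgroup.eq_of_le_of_card_ge le_sup_left (by
      rw [hn, Nat.card_zpowers, hv]; interval_cases n <;> norm_num)
    exact this ▸ le_sup_right (a := Subgroup.zpowers v) (Subgroup.mem_zpowers z)
  -- exponent two
  have hsq : ∀ y ∈ X, y * y = 1 := by
    by_contra hne
    push_neg at hne
    obtain ⟨a, ha, ha2⟩ := hne
    obtain ⟨P, hP⟩ := (IsPGroup.of_card (p := 3) (G := ↥(Subgroup.zpowers (⟨v, hvC⟩ : Cv))) (n := 1)
      (by rw [Nat.card_zpowers, Subgroup.orderOf_mk, hv, pow_one])).exists_le_sylow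
    have h32 : (36 : ℕ).factorization 3 = 2 := by
      rw [show (36 : ℕ) = 3 ^ 2 * 4 by norm_num, Nat.factorization_mul (by norm_num) (by norm_num),
        Finsupp.add_apply, Nat.Prime.factorization_pow Nat.prime_three, Finsupp.single_eq_same,
        Nat.factorization_eq_zero_of_not_dvd (by norm_num : ¬ 3 ∣ 4)]
    have hPc : Nat.card P = 9 := by rw [P.card_eq_multiplicity, hCv36, h32]; norm_num
    -- the unique involution is centralised by everything
    have ha4 : (a * a) * (a * a) = 1 := by
      have h := pow_card_eq_one' (x := (⟨a, ha⟩ : X))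
      rw [hXc] at h
      have h' : a ^ 4 = 1 := congrArg Subtype.val h
      rw [← h']; simp [pow_succ, mul_assoc]
    have huniq : ∀ y ∈ X, y * y = 1 → y ≠ 1 → y = a * a := by
      intro y hy hy2 hy1
      by_contra hne'
      haveI := Fintype.ofFinite X
      have ha1 : a ≠ 1 := fun e => ha2 (by rw [e, one_mul])
      have hye : y ≠ a := fun e => ha2 (e ▸ hy2)
      have e3 : a ^ 3 ≠ a := fun e => ha2 (by
        have : a ^ 3 * a = a * a := by rw [e]
        rw [← this, ← ha4]; simp [pow_succ, mul_assoc])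
      have h5 : 5 ≤ Fintype.card X := by
        refine le_trans (le_of_eq ?_) (Finset.card_le_card (Finset.subset_univ
          ({⟨1, one_mem _⟩, ⟨a, ha⟩, ⟨a * a, mul_mem ha ha⟩, ⟨a ^ 3, pow_mem ha 3⟩, ⟨y, hy⟩} : Finset X)))
        have e1 : a * a ≠ a := fun e => ha1 (mul_eq_left.1 e)
        have e4 : a ^ 3 ≠ 1 := fun e => ha1 (by
          have : a ^ 4 = 1 := by rw [← ha4]; simp [pow_succ, mul_assoc]
          calc a = a ^ 3 * a := by rw [e, one_mul]
            _ = 1 := by rw [← pow_succ]; exact this)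
        have e5 : a ^ 3 ≠ a * a := fun e => ha1 (by
          rw [show a ^ 3 = a * a * a by simp [pow_succ, mul_assoc]] at e
          exact mul_eq_left.1 e)
        have e6 : y ≠ a ^ 3 := fun e => ha2 (by
          have h : a ^ 3 * a ^ 3 = 1 := e ▸ hy2
          calc a * a = a * a * ((a * a) * (a * a)) := by rw [ha4, mul_one]
            _ = a ^ 3 * a ^ 3 := by simp [pow_succ, mul_assoc]
            _ = 1 := h)
        rw [Finset.card_insert_of_notMem, Finset.card_insert_of_notMem, Finset.card_insert_of_notMem,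
          Finset.card_insert_of_notMem, Finset.card_singleton]
        all_goals simp [Ne.symm hy1, Ne.symm ha1, Ne.symm ha2, Ne.symm e1, Ne.symm e3, Ne.symm e4, Ne.symm e5,
          Ne.symm hne', Ne.symm hye, Ne.symm e6]
      rw [← Nat.card_eq_fintype_card, hXc] at h5
      omega
    obtain ⟨z, hzP, hznot⟩ : ∃ z ∈ (P : Subgroup Cv), (z : G) ∉ Subgroup.zpowers v := by
      by_contra h
      push_neg at h
      have hle : (P : Subgroup Cv).map Cv.subtype ≤ Subgroup.zpowers v := by
        rintro _ ⟨z, hz, rfl⟩; exact h z hz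
      have := Subgroup.card_le_of_le hle
      rw [← Nat.card_congr ((P : Subgroup Cv).equivMapOfInjective _ Cv.subtype_injective).toEquiv,
        Nat.card_zpowers, hv] at this
      rw [show Nat.card (P : Subgroup Cv) = 9 from hPc] at this
      omega
    have haa : a * a ≠ 1 := ha2
    have hzx : Commute (z : G) (a * a) := by
      have hy : (z : G) * (a * a) * (z : G)⁻¹ ∈ X :=
        (Subgroup.mem_normalizer_iff.1 (hXn z.2) _).1 (mul_mem ha ha)
      have h := huniq _ hy (by
        rw [show (z : G) * (a * a) * (z : G)⁻¹ * ((z : G) * (a * a) * (z : G)⁻¹) =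
          (z : G) * ((a * a) * (a * a)) * (z : G)⁻¹ by group, ha4]; group) (fun e => haa (conj_eq_one_iff.1 e))
      exact mul_inv_eq_iff_eq_mul.1 h
    obtain ⟨-, h12⟩ := K.cen_six hG (orderOf_involution ha4 haa) hv
      (Subgroup.mem_centralizer_singleton_iff.1 (hXle (mul_mem ha ha)))
    set Xc := Subgroup.centralizer ({a * a} : Set G) ⊓ Cv
    let W : Subgroup G := (P : Subgroup Cv).map Cv.subtype
    have hWle : W ≤ Xc := by
      rintro _ ⟨y, hy, rfl⟩
      refine Subgroup.mem_inf.2 ⟨Subgroup.mem_centralizer_singleton_iff.2 ?_, y.2⟩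
      have hy' : (y : G) * (a * a) * (y : G)⁻¹ ∈ X :=
        (Subgroup.mem_normalizer_iff.1 (hXn y.2) _).1 (mul_mem ha ha)
      have h := huniq _ hy' (by
        rw [show (y : G) * (a * a) * (y : G)⁻¹ * ((y : G) * (a * a) * (y : G)⁻¹) =
          (y : G) * ((a * a) * (a * a)) * (y : G)⁻¹ by group, ha4]; group) (fun e => haa (conj_eq_one_iff.1 e))
      exact mul_inv_eq_iff_eq_mul.1 h
    have := Subgroup.card_dvd_of_le hWle
    rw [h12, ← Nat.card_congr ((P : Subgroup Cv).equivMapOfInjective _ Cv.subtype_injective).toEquiv,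
      show Nat.card (P : Subgroup Cv) = 9 from hPc] at this
    norm_num at this
  exact ⟨⟨X, hv, ht, hXc, htX, hXle, hXn, hsq, htwo, fun z h1 h2 h3 x hx h4 => hmoves z h1 h2 h3 x hx (hsq x hx) h4⟩⟩

end Frame

end Cfsg.Agent.Invol.M22Ord
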