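import Mathlib
import Cfsg.Agent.Lib.Invol.Order443520.GroupTools

/-!
Orbit counting for conjugation, and internal products of commuting subgroups.
-/

set_option autoImplicit false
set_option linter.style.haveILetI false
set_option linter.unusedSectionVars false

namespace Cfsg.Agent.Invol.M22Ord

universe u

variable {G : Type u} [Group G] [Finite G]

/-- The fixed points of an element of prime order among a set it permutes. -/
theorem fixed_mod_prime [DecidableEq G] {p : ℕ} [Fact p.Prime] {v : G} (hv : v ^ p = 1) (S : Finset G)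
    (hS : ∀ y ∈ S, v * y * v⁻¹ ∈ S) : (S.filter fun y => v * y * v⁻¹ = y).card % p = S.card % p := by
  classical
  let f : {y // y ∈ S} → {y // y ∈ S} := fun y => ⟨v * y.1 * v⁻¹, hS _ y.2⟩
  have hf : Function.Injective f := fun a b h => by
    have h' : v * a.1 * v⁻¹ = v * b.1 * v⁻¹ := congrArg Subtype.val h
    exact Subtype.ext (mul_left_cancel (mul_right_cancel h'))
  let σ : Equiv.Perm {y // y ∈ S} := Equiv.ofBijective f hf.bijective_of_finite
  have h1 : ∀ y, (σ y).1 = v * y.1 * v⁻¹ := fun _ => rfl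
  have h2 : ∀ (n : ℕ) (y : {y // y ∈ S}), ((σ ^ n) y).1 = v ^ n * y.1 * (v ^ n)⁻¹ := by
    intro n
    induction n with
    | zero => intro y; simp
    | succ n ih =>
      intro y
      rw [pow_succ', Equiv.Perm.mul_apply, h1, ih, pow_succ']
      group
  have hσ : σ ^ p ^ 1 = 1 := by
    refine Equiv.ext fun y => Subtype.ext ?_
    rw [pow_one, h2, hv]
    simp
  have h := Equiv.Perm.card_compl_support_modEq (p := p) hσ
  rw [Fintype.card_coe] at h
  rw [← h]
  have e : σ.supportᶜ = S.attach.filter fun y => v * y.1 * v⁻¹ = y.1 := by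
    ext y
    simp [Equiv.Perm.mem_support, Subtype.ext_iff, h1]
  rw [e, Finset.filter_attach (fun y => v * y * v⁻¹ = y), Finset.card_map, Finset.card_attach]

/-- A group acting freely on a set by conjugation divides its cardinality. -/
theorem dvd_card_of_free [DecidableEq G] {P : Subgroup G} (S : Finset G)
    (hS : ∀ q ∈ P, ∀ y ∈ S, q * y * q⁻¹ ∈ S) (hfree : ∀ y ∈ S, ∀ q ∈ P, q * y * q⁻¹ = y → q = 1) :
    Nat.card P ∣ S.card := by
  classical
  rw [Finset.card_eq_sum_card_fiberwise (f := fun y => conjSet P y) (t := S.image fun y => conjSet P y)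
    (fun y hy => Finset.mem_image.2 ⟨y, Finset.mem_coe.1 hy, rfl⟩)]
  refine Finset.dvd_sum fun O hO => ?_
  obtain ⟨y, hy, rfl⟩ := Finset.mem_image.1 hO
  have hsub : (S.filter fun z => conjSet P z = conjSet P y) = conjSet P y := by
    ext z
    simp only [Finset.mem_filter]
    refine ⟨fun h => h.2 ▸ self_mem_conjSet, fun h => ?_⟩
    obtain ⟨r, hr, rfl⟩ := mem_conjSet.1 h
    refine ⟨hS r hr y hy, ?_⟩
    ext z
    refine ⟨fun hz => ?_, fun hz => ?_⟩
    · obtain ⟨s, hs, rfl⟩ := mem_conjSet.1 hz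
      exact mem_conjSet.2 ⟨s * r, mul_mem hs hr, by group⟩
    · obtain ⟨s, hs, rfl⟩ := mem_conjSet.1 hz
      exact mem_conjSet.2 ⟨s * r⁻¹, mul_mem hs (inv_mem hr), by group⟩
  rw [hsub, card_conjSet P y]
  have : P ⊓ Subgroup.centralizer ({y} : Set G) = ⊥ := (Subgroup.eq_bot_iff_forall _).2 fun q hq =>
    hfree y hy q hq.1 (mul_inv_eq_iff_eq_mul.2 (Subgroup.mem_centralizer_singleton_iff.1 hq.2))
  rw [this, Subgroup.card_bot, mul_one]

/-- The product of two commuting subgroups meeting trivially. -/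
theorem exists_prod {A B : Subgroup G} (hc : ∀ a ∈ A, ∀ b ∈ B, a * b = b * a) (hd : ∀ y ∈ A, y ∈ B → y = 1) :
    ∃ E : Subgroup G, (∀ e, e ∈ E ↔ ∃ a ∈ A, ∃ b ∈ B, a * b = e) ∧ A ≤ E ∧ B ≤ E ∧
      Nat.card E = Nat.card A * Nat.card B := by
  let E : Subgroup G :=
    { carrier := {e | ∃ a ∈ A, ∃ b ∈ B, a * b = e}
      one_mem' := ⟨1, one_mem _, 1, one_mem _, mul_one 1⟩
      mul_mem' := by
        rintro x y ⟨a, ha, b, hb, rfl⟩ ⟨a', ha', b', hb', rfl⟩
        refine ⟨a * a', mul_mem ha ha', b * b', mul_mem hb hb', ?_⟩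
        calc a * a' * (b * b') = a * (a' * b) * b' := by group
          _ = a * (b * a') * b' := by rw [hc a' ha' b hb]
          _ = a * b * (a' * b') := by group
      inv_mem' := by
        rintro x ⟨a, ha, b, hb, rfl⟩
        exact ⟨a⁻¹, inv_mem ha, b⁻¹, inv_mem hb, by rw [hc a ha b hb, mul_inv_rev]⟩ }
  refine ⟨E, fun e => Iff.rfl, fun a ha => ⟨a, ha, 1, one_mem _, mul_one a⟩,
    fun b hb => ⟨1, one_mem _, b, hb, one_mul b⟩, ?_⟩
  rw [← Nat.card_prod]
  refine (Nat.card_congr (Equiv.ofBijective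
    (fun p : A × B => (⟨p.1 * p.2, p.1, p.1.2, p.2, p.2.2, rfl⟩ : E)) ⟨?_, ?_⟩)).symm
  · rintro ⟨⟨a, ha⟩, b, hb⟩ ⟨⟨a', ha'⟩, b', hb'⟩ h
    have h' : a * b = a' * b' := congrArg Subtype.val h
    have e : a'⁻¹ * a = b' * b⁻¹ := by
      calc a'⁻¹ * a = a'⁻¹ * (a * b) * b⁻¹ := by group
        _ = a'⁻¹ * (a' * b') * b⁻¹ := by rw [h']
        _ = b' * b⁻¹ := by group
    have h1 := hd _ (mul_mem (inv_mem ha') ha) (e ▸ mul_mem hb' (inv_mem hb))
    obtain rfl : a' = a := inv_mul_eq_one.1 h1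
    obtain rfl := mul_left_cancel h'
    rfl
  · rintro ⟨e, a, ha, b, hb, rfl⟩
    exact ⟨(⟨a, ha⟩, ⟨b, hb⟩), rfl⟩

/-- The non-identity elements of a subgroup, as a finite set. -/
noncomputable def nonOne (H : Subgroup G) : Finset G :=
  (Set.toFinite ({y | y ∈ H ∧ y ≠ 1} : Set G)).toFinset

theorem mem_nonOne {H : Subgroup G} {y : G} : y ∈ nonOne H ↔ y ∈ H ∧ y ≠ 1 := by
  simp [nonOne]

theorem card_nonOne (H : Subgroup G) : (nonOne H).card + 1 = Nat.card H := by
  classical
  haveI := Fintype.ofFinite G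
  rw [Nat.card_eq_fintype_card, Fintype.card_subtype]
  have : nonOne H = (Finset.univ.filter fun y => y ∈ H).erase 1 := by
    ext y; simp [mem_nonOne, and_comm]
  rw [this]
  exact Finset.card_erase_add_one (by simp)

theorem nonOne_closed {H : Subgroup G} {q : G} (hq : q ∈ Subgroup.normalizer (H : Set G)) {y : G}
    (hy : y ∈ nonOne H) : q * y * q⁻¹ ∈ nonOne H := by
  rw [mem_nonOne] at hy ⊢
  exact ⟨(Subgroup.mem_normalizer_iff.1 hq y).1 hy.1, fun e => hy.2 (conj_eq_one_iff.1 e)⟩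

/-- The centralizer of a subgroup is invariant under what normalizes it. -/
theorem inv_centralizer_of_mem {H : Subgroup G} {h : G} (hh : h ∈ Subgroup.normalizer (H : Set G)) :
    Inv h (Subgroup.centralizer (H : Set G)) :=
  inv_centralizer fun s hs => by
    have := (Subgroup.mem_normalizer_iff.1 (inv_mem hh) s).1 hs
    rwa [inv_inv] at this

end Cfsg.Agent.Invol.M22Ord
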