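import Mathlib
import Cfsg.Agent.Lib.Invol.Order443520.OrderThree
import Cfsg.Agent.Lib.Invol.Order443520.Orbits

/-!
Simple groups of order 443520: the normalizer of a Sylow 5-subgroup, and the absence of subgroups of order 2880.
-/

set_option autoImplicit false
set_option linter.style.haveILetI false
set_option linter.unusedSectionVars false

namespace Cfsg.Agent.Invol.M22Ord

open scoped ComplexConjugate
open Cfsg Cfsg.Agent.Block Cfsg.Agent.Char Cfsg.Agent.Invol.M12Ord

universe u

variable {G : Type u} [Group G] [Finite G] [IsSimpleGroup G]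
variable [Fact (Nat.Prime 5)] [Fact (Nat.Prime 7)] [Fact (Nat.Prime 11)]

namespace Frame

variable (K : Frame G)

include K in
/-- A subgroup of order five is its own centralizer and has index four in its normalizer. -/
theorem five_local (hG : Nat.card G = 443520) (P : Subgroup G) (hP : Nat.card P = 5) :
    Nat.card (Subgroup.centralizer (P : Set G)) = 5 ∧
      Nat.card (Subgroup.normalizer (P : Set G)) = 20 := by
  obtain ⟨B, hB, hC, -⟩ := five_self hG K.A (Sylow.ofCard P (by rw [hP, hG, fact_one (Or.inl rfl), pow_one]))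
  have hBP : (B.P : Subgroup G) = P := by rw [hB, Sylow.coe_ofCard]
  have hC' : Nat.card (Subgroup.centralizer (P : Set G)) = 5 := by
    have h := hC
    rwa [PBlk.C, hBP] at h
  refine ⟨hC', ?_⟩
  have he := B.he
  rw [hBP, Subgroup.relIndex] at he
  have h := Subgroup.card_mul_index ((Subgroup.centralizer (P : Set G)).subgroupOf
    (Subgroup.normalizer (P : Set G)))
  rw [Nat.card_congr (Subgroup.subgroupOfEquivOfLe (Subgroup.centralizer_le_normalizer (P : Set G))).toEquiv, he, hC'] at h
  omega

include K in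
theorem centralizer_five (hG : Nat.card G = 443520) {u y : G} (hu : orderOf u = 5) (hy : Commute y u) :
    orderOf y ∣ 5 := by
  obtain ⟨hC, -⟩ := K.five_local hG (Subgroup.zpowers u) (by rw [Nat.card_zpowers, hu])
  rw [← hC]
  refine Subgroup.orderOf_dvd_natCard _ (Subgroup.mem_centralizer_iff.2 fun z hz => ?_)
  obtain ⟨i, rfl⟩ := Subgroup.mem_zpowers_iff.1 hz
  exact (hy.zpow_right i).eq.symm

include K in
/-- The normalizer of a Sylow 5-subgroup inside a subgroup. -/
theorem normalizer_five (hG : Nat.card G = 443520) {H : Subgroup G}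
    (hf : (Nat.card H).factorization 5 = 1) (P : Sylow 5 H) :
    Nat.card P = 5 ∧ 5 ∣ Nat.card (Subgroup.normalizer (P : Set H)) ∧
      Nat.card (Subgroup.normalizer (P : Set H)) ∣ 20 ∧
      Nat.card (Sylow 5 H) * Nat.card (Subgroup.normalizer (P : Set H)) = Nat.card H ∧
      Nat.card (Sylow 5 H) % 5 = 1 := by
  have hP : Nat.card P = 5 := by rw [P.card_eq_multiplicity, hf, pow_one]
  have h5 : 5 ∣ Nat.card (Subgroup.normalizer (P : Set H)) :=
    (dvd_of_eq hP.symm).trans (Subgroup.card_dvd_of_le (Subgroup.le_normalizer (H := (P : Subgroup H))))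
  refine ⟨hP, h5, ?_, ?_, ?_⟩
  · set N := Subgroup.normalizer (P : Set H) with hN
    set P' := (P : Subgroup H).map H.subtype with hP'
    have hc' : Nat.card P' = 5 := by
      rw [hP', ← Nat.card_congr ((P : Subgroup H).equivMapOfInjective _ H.subtype_injective).toEquiv]
      exact hP
    obtain ⟨-, h20⟩ := K.five_local hG P' hc'
    have hle : N.map H.subtype ≤ Subgroup.normalizer (P' : Set G) := by
      rintro _ ⟨n, hn, rfl⟩
      refine mem_normalizer_of_inv fun y hy => ?_
      obtain ⟨y', hy', rfl⟩ := hy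
      exact ⟨n * y' * n⁻¹, (Subgroup.mem_normalizer_iff.1 hn y').1 hy', rfl⟩
    have := Subgroup.card_dvd_of_le hle
    rwa [← Nat.card_congr (N.equivMapOfInjective _ H.subtype_injective).toEquiv, h20] at this
  · rw [Sylow.card_eq_index_normalizer P, mul_comm]
    exact Subgroup.card_mul_index (Subgroup.normalizer (P : Set H))
  · exact card_sylow_modEq_one 5 H

include K in
/-- There is no subgroup of order 2880. -/
theorem no_2880 (hG : Nat.card G = 443520) {H : Subgroup G} (hH : Nat.card H = 2880) : False := by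
  classical
  haveI : Fact (Nat.Prime 3) := ⟨Nat.prime_three⟩
  obtain ⟨P⟩ : Nonempty (Sylow 5 H) := inferInstance
  obtain ⟨hP, h5, h20, hmul, hmod⟩ := K.normalizer_five hG (by
    rw [hH, show (2880 : ℕ) = 5 ^ 1 * 576 by norm_num, Nat.factorization_mul (by norm_num) (by norm_num),
      Finsupp.add_apply, Nat.Prime.factorization_pow (by norm_num), Finsupp.single_eq_same,
      Nat.factorization_eq_zero_of_not_dvd (by norm_num : ¬ 5 ∣ 576)]) P
  rw [hH] at hmul
  have hN : Nat.card (Subgroup.normalizer (P : Set H)) = 5 := by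
    obtain ⟨j, hj⟩ := h5
    have : Nat.card (Subgroup.normalizer (P : Set H)) ≤ 20 := Nat.le_of_dvd (by norm_num) h20
    rw [hj] at h20 hmul this ⊢
    generalize Nat.card (Sylow 5 H) = n at hmod hmul
    have : j ≤ 4 := by omega
    interval_cases j <;> omega
  have hNP : Subgroup.normalizer (P : Set H) = (P : Subgroup H) :=
    (Subgroup.eq_of_le_of_card_ge (Subgroup.le_normalizer (H := (P : Subgroup H))) (by rw [hP]; exact hN.le)).symm
  haveI hPc : IsCyclic (P : Subgroup H) := isCyclic_of_prime_card (p := 5) hP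
  have hle : Subgroup.normalizer (P : Set H) ≤ Subgroup.centralizer (P : Set H) := by
    rw [hNP]
    intro y hy
    refine Subgroup.mem_centralizer_iff.2 fun z hz => ?_
    letI := hPc.commGroup
    exact congrArg Subtype.val (mul_comm (⟨z, hz⟩ : (P : Subgroup H)) ⟨y, hy⟩)
  have hcomp := MonoidHom.ker_transferSylow_isComplement' P hle
  generalize hD : (MonoidHom.transferSylow P hle).ker = D at hcomp
  haveI : D.Normal := hD ▸ MonoidHom.normal_ker _
  have hDc : Nat.card D = 576 := by
    have h := hcomp.card_mul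
    rw [show Nat.card (P : Subgroup H) = 5 from hP, hH] at h
    omega
  obtain ⟨R⟩ : Nonempty (Sylow 3 D) := inferInstance
  have hR : Nat.card R = 9 := by
    rw [R.card_eq_multiplicity, hDc, show (576 : ℕ) = 3 ^ 2 * 64 by norm_num,
      Nat.factorization_mul (by norm_num) (by norm_num),
      Finsupp.add_apply, Nat.Prime.factorization_pow Nat.prime_three, Finsupp.single_eq_same,
      Nat.factorization_eq_zero_of_not_dvd (by norm_num : ¬ 3 ∣ 64)]
    norm_num
  set R' := (R : Subgroup D).map D.subtype with hR'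
  have hR'c : Nat.card R' = 9 := by
    rw [hR', ← Nat.card_congr ((R : Subgroup D).equivMapOfInjective _ D.subtype_injective).toEquiv]
    exact hR
  have htop := Sylow.normalizer_sup_eq_top R
  obtain ⟨u₀, hu₀⟩ := exists_prime_orderOf_dvd_card' (G := H) 5 (by rw [hH]; norm_num)
  obtain ⟨n, hn, d, hd, hnd⟩ := Subgroup.mem_sup_of_normal_right.1
    (htop.symm ▸ Subgroup.mem_top u₀ : u₀ ∈ Subgroup.normalizer ((R : Subgroup D).map D.subtype : Set H) ⊔ D)
  have h5n : 5 ∣ orderOf n := by
    have hu : u₀ ∉ D := fun h => by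
      have := Subgroup.orderOf_dvd_natCard D h
      rw [hu₀, hDc] at this
      norm_num at this
    have hne : orderOf (QuotientGroup.mk' D n) ≠ 1 := fun e => hu (by
      rw [orderOf_eq_one_iff, QuotientGroup.mk'_apply, QuotientGroup.eq_one_iff] at e
      rw [← hnd]; exact mul_mem e hd)
    have he : QuotientGroup.mk' D n = QuotientGroup.mk' D u₀ := by
      rw [← hnd, map_mul, (QuotientGroup.eq_one_iff d).2 hd |> fun h => (show QuotientGroup.mk' D d = 1 from h),
        mul_one]
    have h := orderOf_map_dvd (QuotientGroup.mk' D) u₀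
    rw [hu₀, ← he] at h
    rcases (Nat.dvd_prime (by norm_num : Nat.Prime 5)).1 h with h' | h'
    · exact absurd h' hne
    · exact h' ▸ orderOf_map_dvd (QuotientGroup.mk' D) n
  obtain ⟨⟨w, hw⟩, hwo⟩ := exists_prime_orderOf_dvd_card'
    (G := Subgroup.normalizer (R' : Set H)) 5 (h5n.trans (Subgroup.orderOf_dvd_natCard _ hn))
  rw [Subgroup.orderOf_mk] at hwo
  have hw5 : w ^ 5 = 1 := by rw [← hwo]; exact pow_orderOf_eq_one w
  have h8 : (nonOne R').card = 8 := by have := card_nonOne R'; omega
  have hfix := fixed_mod_prime (p := 5) hw5 (nonOne R') fun y hy => nonOne_closed hw hy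
  rw [h8] at hfix
  obtain ⟨z, hz⟩ := Finset.card_pos.1
    (show 0 < ((nonOne R').filter fun y => w * y * w⁻¹ = y).card by omega)
  rw [Finset.mem_filter, mem_nonOne] at hz
  have h1 : orderOf (z : G) ∣ 5 := by
    refine K.centralizer_five hG (u := (w : G)) (by rw [Subgroup.orderOf_coe, hwo]) ?_
    exact congrArg Subtype.val (mul_inv_eq_iff_eq_mul.1 hz.2).symm
  rw [Subgroup.orderOf_coe] at h1
  have h2 : orderOf z ∣ 9 := hR'c ▸ Subgroup.orderOf_dvd_natCard R' hz.1.1
  have h3 : orderOf z ∣ 1 := by simpa using Nat.dvd_gcd h1 h2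
  exact hz.1.2 (orderOf_eq_one_iff.1 (Nat.dvd_one.1 h3))

include K in
/-- There is no subgroup of order 90. -/
theorem no_90 (hG : Nat.card G = 443520) {H : Subgroup G} (hH : Nat.card H = 90) : False := by
  obtain ⟨P⟩ : Nonempty (Sylow 5 H) := inferInstance
  obtain ⟨-, h5, h20, hmul, hmod⟩ := K.normalizer_five hG (by
    rw [hH, show (90 : ℕ) = 5 ^ 1 * 18 by norm_num, Nat.factorization_mul (by norm_num) (by norm_num),
      Finsupp.add_apply, Nat.Prime.factorization_pow (by norm_num), Finsupp.single_eq_same,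
      Nat.factorization_eq_zero_of_not_dvd (by norm_num : ¬ 5 ∣ 18)]) P
  rw [hH] at hmul
  obtain ⟨j, hj⟩ := h5
  have : Nat.card (Subgroup.normalizer (P : Set H)) ≤ 20 := Nat.le_of_dvd (by norm_num) h20
  rw [hj] at h20 hmul this
  generalize Nat.card (Sylow 5 H) = n at hmod hmul
  have : j ≤ 4 := by omega
  interval_cases j <;> omega

end Frame

end Cfsg.Agent.Invol.M22Ord
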