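import Mathlib
import Cfsg.Agent.Lib.Invol.Order443520.CentralizerThree

/-!
Simple groups of order 443520: the largest normal two-subgroup of the centralizer of an involution, and the
subgroup of it centralising the four-group belonging to an element of order three.
-/

set_option autoImplicit false
set_option linter.style.haveILetI false
set_option linter.unusedSectionVars false

namespace Cfsg.Agent.Invol.M22Ord

open scoped ComplexConjugate
open Cfsg Cfsg.Agent.Block Cfsg.Agent.Char Cfsg.Agent.Invol.M12Ord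

universe u

variable {G : Type u} [Group G] [Finite G]

theorem dvd_sixtyfour {n : ℕ} (h : n ∣ 64) (h3 : n % 3 = 1) : n = 1 ∨ n = 4 ∨ n = 16 ∨ n = 64 := by
  obtain ⟨i, hi, rfl⟩ := (Nat.dvd_prime_pow Nat.prime_two).1 (show n ∣ 2 ^ 6 from h)
  interval_cases i <;> simp_all

namespace Klein

variable {v t : G} (L : Klein v t)

include L

theorem pgroup : IsPGroup 2 L.X := IsPGroup.of_card (n := 2) (by rw [L.card]; norm_num)

theorem comm_v {y : G} (hy : y ∈ L.X) : Commute y v :=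
  Subgroup.mem_centralizer_singleton_iff.1 (L.le_cen hy)

theorem comm_t : Commute t v := L.comm_v L.t_mem

theorem le_cen_t : L.X ≤ Subgroup.centralizer ({t} : Set G) := fun y hy =>
  Subgroup.mem_centralizer_singleton_iff.2 (comm_of_sq L.sq hy L.t_mem)

theorem v_mem_cen_t : v ∈ Subgroup.centralizer ({t} : Set G) :=
  Subgroup.mem_centralizer_singleton_iff.2 L.comm_t.eq.symm

theorem v_pow : v ^ 3 = 1 := by rw [← L.hv]; exact pow_orderOf_eq_one v

theorem inv_v : Inv v L.X := fun y hy => by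
  rw [← (L.comm_v hy).eq, mul_inv_cancel_right]; exact hy

theorem inv_of_inverts {h : G} (hh : h * v * h⁻¹ = v⁻¹) : Inv h L.X := by
  intro y hy
  refine L.two _ (Subgroup.mem_centralizer_singleton_iff.2 ?_) 1 ?_
  · have e : h * y * h⁻¹ * v⁻¹ = v⁻¹ * (h * y * h⁻¹) := by
      calc h * y * h⁻¹ * v⁻¹ = h * y * h⁻¹ * (h * v * h⁻¹) := by rw [hh]
        _ = h * (y * v) * h⁻¹ := by group
        _ = h * (v * y) * h⁻¹ := by rw [(L.comm_v hy).eq]
        _ = h * v * h⁻¹ * (h * y * h⁻¹) := by group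
        _ = v⁻¹ * (h * y * h⁻¹) := by rw [hh]
    exact (Commute.inv_right_iff.1 (show Commute (h * y * h⁻¹) v⁻¹ from e)).eq
  · rw [pow_one, pow_two, show h * y * h⁻¹ * (h * y * h⁻¹) = h * (y * y) * h⁻¹ by group, L.sq y hy]; group

theorem inv_of_commute {h : G} (hh : Commute h v) : Inv h L.X := fun y hy =>
  (Subgroup.mem_normalizer_iff.1 (L.norm (Subgroup.mem_centralizer_singleton_iff.2 hh.eq)) y).1 hy

theorem orbit {g : G} (hg : orderOf g = 3) (hc : Commute g v) (hn : g ∉ Subgroup.zpowers v) {y : G}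
    (hy : y ∈ L.X) (hy1 : y ≠ 1) : ∃ i : ℕ, g ^ i * t * (g ^ i)⁻¹ = y := by
  classical
  haveI := Fintype.ofFinite L.X
  by_contra h
  push Not at h
  have hI := L.inv_of_commute hc
  have ht1 : t ≠ 1 := fun e => by have := L.ht; rw [e, orderOf_one] at this; norm_num at this
  have hgt : g * t * g⁻¹ ∈ L.X := hI _ L.t_mem
  have hgt2 : g * (g * t * g⁻¹) * g⁻¹ ∈ L.X := hI _ hgt
  have hne : g * t * g⁻¹ ≠ t := fun e => ht1 (L.moves g hg hc hn t L.t_mem (mul_inv_eq_iff_eq_mul.1 e))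
  have hg3 : g * g * g = 1 := by
    have h3 := pow_orderOf_eq_one g
    rwa [hg, pow_succ, pow_two] at h3
  have hne2 : g * (g * t * g⁻¹) * g⁻¹ ≠ t := fun e => hne (by
    calc g * t * g⁻¹ = g * (g * (g * t * g⁻¹) * g⁻¹) * g⁻¹ := by rw [e]
      _ = (g * g * g) * t * (g * g * g)⁻¹ := by group
      _ = t := by rw [hg3]; group)
  have hne3 : g * (g * t * g⁻¹) * g⁻¹ ≠ g * t * g⁻¹ := fun e => hne (mul_left_cancel (mul_right_cancel e))
  have h1 : g * t * g⁻¹ ≠ 1 := fun e => ht1 (conj_eq_one_iff.1 e)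
  have h2 : g * (g * t * g⁻¹) * g⁻¹ ≠ 1 := fun e => h1 (conj_eq_one_iff.1 e)
  have e1 : g * t * g⁻¹ ≠ y := by simpa using h 1
  have e2 : g * (g * t * g⁻¹) * g⁻¹ ≠ y := by
    have e := h 2
    rwa [pow_two, show g * g * t * (g * g)⁻¹ = g * (g * t * g⁻¹) * g⁻¹ by group] at e
  have e0 : t ≠ y := by simpa using h 0
  have h5 : 5 ≤ Fintype.card L.X := by
    refine le_trans (le_of_eq ?_) (Finset.card_le_card (Finset.subset_univ
      ({⟨1, one_mem _⟩, ⟨t, L.t_mem⟩, ⟨_, hgt⟩, ⟨_, hgt2⟩, ⟨y, hy⟩} : Finset L.X)))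
    rw [Finset.card_insert_of_notMem, Finset.card_insert_of_notMem, Finset.card_insert_of_notMem,
      Finset.card_insert_of_notMem, Finset.card_singleton]
    all_goals simp [-conj_eq_one_iff, Ne.symm ht1, Ne.symm hy1, Ne.symm hne, Ne.symm hne2, Ne.symm hne3,
      Ne.symm h1, Ne.symm h2, e0, e1, e2]
  rw [← Nat.card_eq_fintype_card, L.card] at h5
  omega

end Klein

/-- A commuting pair of elements of orders three and two, with the two-subgroup of the centralizer. -/
structure Loc (v t : G) extends Klein v t where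
  Q : Subgroup G
  Q_le : Q ≤ Subgroup.centralizer ({t} : Set G)
  Q_card : Nat.card Q = 64
  Q_norm : Subgroup.centralizer ({t} : Set G) ≤ Subgroup.normalizer (Q : Set G)
  maxQ : ∀ T : Subgroup G, T ≤ Subgroup.centralizer ({t} : Set G) → IsPGroup 2 T → Inv v T → T ≤ Q
  g : G
  hg : orderOf g = 3
  g_comm : Commute g v
  g_not : g ∉ Subgroup.zpowers v
  w : G
  w_inv : w * v * w⁻¹ = v⁻¹
  w_comm : w ∈ Subgroup.centralizer ({t} : Set G)
  w_pow : w ^ 2 ^ 7 = 1
  w_not : w ∉ Q

namespace Loc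

variable {v t : G} (L : Loc v t)

theorem pgroupQ : IsPGroup 2 L.Q := IsPGroup.of_card (n := 6) (by rw [L.Q_card]; norm_num)

theorem X_le_Q : L.X ≤ L.Q := L.maxQ _ L.toKlein.le_cen_t L.toKlein.pgroup L.toKlein.inv_v

theorem inv_Q : Inv v L.Q := inv_normalizer (L.Q_norm L.toKlein.v_mem_cen_t)

theorem fix_mem {y : G} (hy : y ∈ L.Q) (h : v * y * v⁻¹ = y) : y ∈ L.X := by
  refine L.two y (Subgroup.mem_centralizer_singleton_iff.2 (mul_inv_eq_iff_eq_mul.1 h).symm) 6 ?_
  have h' := pow_card_eq_one' (x := (⟨y, hy⟩ : L.Q))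
  rw [L.Q_card] at h'
  exact congrArg Subtype.val h'

/-- The centralizer of the four-group in the two-subgroup. -/
def E : Subgroup G := L.Q ⊓ Subgroup.centralizer (L.X : Set G)

theorem X_le_E : L.X ≤ L.E :=
  le_inf L.X_le_Q fun _ ha => Subgroup.mem_centralizer_iff.2 fun _ hb => comm_of_sq L.sq hb ha

theorem inv_cen_X : Inv v (Subgroup.centralizer (L.X : Set G)) :=
  inv_centralizer fun s hs => by
    have := L.toKlein.comm_v (show s ∈ L.X from hs)
    rw [mul_assoc, this.eq, inv_mul_cancel_left]; exact hs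

theorem inv_E : Inv v L.E := L.inv_Q.inf L.inv_cen_X

theorem card_mod {H : Subgroup G} (hH : H ≤ L.Q) (hi : Inv v H) (hX : L.X ≤ H) : Nat.card H % 3 = 1 := by
  rw [sdiff_mod_three L.toKlein.v_pow hX L.toKlein.inv_v hi fun y hy h => L.fix_mem (hH hy) h, L.card]

theorem normalizer_le_cen {q : G} (hq : q ∈ L.Q) (hqn : q ∈ Subgroup.normalizer (L.X : Set G)) :
    q ∈ Subgroup.centralizer (L.X : Set G) := by
  classical
  haveI := Fintype.ofFinite G
  set R : Finset G := Finset.univ.filter fun r => r ∈ L.Q ∧ ∀ y ∈ L.X, r * y * r⁻¹ = q * y * q⁻¹ with hR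
  have hRi : ∀ r ∈ R, v * r * v⁻¹ ∈ R := by
    intro r hr
    simp only [hR, Finset.mem_filter, Finset.mem_univ, true_and] at hr ⊢
    refine ⟨L.inv_Q r hr.1, fun y hy => ?_⟩
    have hy' : v⁻¹ * y * v = y := by rw [mul_assoc, (L.toKlein.comm_v hy).eq, inv_mul_cancel_left]
    have hz : q * y * q⁻¹ ∈ L.X := (Subgroup.mem_normalizer_iff.1 hqn y).1 hy
    calc v * r * v⁻¹ * y * (v * r * v⁻¹)⁻¹ = v * (r * (v⁻¹ * y * v) * r⁻¹) * v⁻¹ := by group
      _ = v * (q * y * q⁻¹) * v⁻¹ := by rw [hy', hr.2 y hy]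
      _ = q * y * q⁻¹ := by rw [← (L.toKlein.comm_v hz).eq, mul_inv_cancel_right]
  have hcard : R.card = Nat.card L.E := by
    rw [Nat.card_eq_fintype_card, Fintype.card_subtype]
    refine Finset.card_nbij' (fun r => q⁻¹ * r) (fun r => q * r) ?_ ?_ ?_ ?_
    · intro r hr
      simp only [hR, Finset.coe_filter, Finset.mem_univ, true_and, Set.mem_ofPred_eq, Finset.mem_filter,
        E, Subgroup.mem_inf, Subgroup.mem_centralizer_iff] at hr ⊢
      refine ⟨mul_mem (inv_mem hq) hr.1, fun y hy => ?_⟩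
      calc y * (q⁻¹ * r) = q⁻¹ * (q * y * q⁻¹) * r := by group
        _ = q⁻¹ * (r * y * r⁻¹) * r := by rw [hr.2 y hy]
        _ = q⁻¹ * r * y := by group
    · intro r hr
      simp only [hR, Finset.coe_filter, Finset.mem_univ, true_and, Set.mem_ofPred_eq, Finset.mem_filter,
        E, Subgroup.mem_inf, Subgroup.mem_centralizer_iff] at hr ⊢
      refine ⟨mul_mem hq hr.1, fun y hy => ?_⟩
      calc q * r * y * (q * r)⁻¹ = q * (r * y) * r⁻¹ * q⁻¹ := by group
        _ = q * (y * r) * r⁻¹ * q⁻¹ := by rw [hr.2 y hy]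
        _ = q * y * q⁻¹ := by group
    · intro r _; group
    · intro r _; group
  have h := fixed_mod_three L.toKlein.v_pow R hRi
  rw [hcard, L.card_mod (H := L.E) inf_le_left L.inv_E L.X_le_E] at h
  obtain ⟨r, hr⟩ := Finset.card_pos.1 (show 0 < (R.filter fun r => v * r * v⁻¹ = r).card by omega)
  simp only [hR, Finset.mem_filter, Finset.mem_univ, true_and] at hr
  have hrX := L.fix_mem hr.1.1 hr.2
  refine Subgroup.mem_centralizer_iff.2 fun y hy => ?_
  have e := hr.1.2 y hy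
  rw [comm_of_sq L.sq hrX hy, mul_inv_cancel_right] at e
  exact eq_mul_inv_iff_mul_eq.1 e

theorem card_E : Nat.card L.E = 16 ∨ Nat.card L.E = 64 := by
  haveI : Fact (Nat.Prime 2) := ⟨Nat.prime_two⟩
  have hd : Nat.card L.E ∣ 64 := L.Q_card ▸ Subgroup.card_dvd_of_le inf_le_left
  have h4 : 4 ≤ Nat.card L.E := L.card ▸ Subgroup.card_le_of_le L.X_le_E
  rcases dvd_sixtyfour hd (L.card_mod inf_le_left L.inv_E L.X_le_E) with h | h | h | h
  · omega
  · exfalso
    have hEX : L.X = L.E := Subgroup.eq_of_le_of_card_ge L.X_le_E (by rw [h, L.card])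
    have hne : L.X ≠ L.Q := fun e => by
      have := L.Q_card
      rw [← e, L.card] at this
      norm_num at this
    have hlt := lt_normalizer_inf L.pgroupQ L.X_le_Q hne
    refine (lt_iff_le_not_ge.1 hlt).2 fun q hq => ?_
    rw [hEX]
    exact Subgroup.mem_inf.2 ⟨hq.2, L.normalizer_le_cen hq.2 hq.1⟩
  · exact Or.inl h
  · exact Or.inr h

/-- A subgroup of order sixteen between the four-group and the two-subgroup, invariant under the element of
order three, is normal in the two-subgroup. -/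
theorem normal_sixteen {F : Subgroup G} (hX : L.X ≤ F) (hF : F ≤ L.Q) (hi : Inv v F) (hc : Nat.card F = 16) :
    L.Q ≤ Subgroup.normalizer (F : Set G) := by
  haveI : Fact (Nat.Prime 2) := ⟨Nat.prime_two⟩
  have hne : F ≠ L.Q := fun e => by
    have := L.Q_card
    rw [← e, hc] at this
    norm_num at this
  have hlt := lt_normalizer_inf L.pgroupQ hF hne
  set N := Subgroup.normalizer (F : Set G) ⊓ L.Q with hN
  have hiN : Inv v N := Inv.inf (fun y hy => mul_mem (mul_mem (mem_normalizer_of_inv hi) hy)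
    (inv_mem (mem_normalizer_of_inv hi))) L.inv_Q
  have h16 : 16 < Nat.card N := by
    refine lt_of_le_of_ne (hc ▸ Subgroup.card_le_of_le hlt.le) fun e => ne_of_lt hlt ?_
    exact Subgroup.eq_of_le_of_card_ge hlt.le (by rw [← e, hc])
  have h64 : Nat.card N = 64 := by
    have hd : Nat.card N ∣ 64 := L.Q_card ▸ Subgroup.card_dvd_of_le (inf_le_right : N ≤ L.Q)
    rcases dvd_sixtyfour hd (L.card_mod (H := N) inf_le_right hiN (hX.trans hlt.le)) with h | h | h | h <;> omega
  have hNQ : N = L.Q := Subgroup.eq_of_le_of_card_ge inf_le_right (by rw [h64, L.Q_card])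
  exact hNQ ▸ inf_le_left

end Loc

variable [IsSimpleGroup G]
variable [Fact (Nat.Prime 5)] [Fact (Nat.Prime 7)] [Fact (Nat.Prime 11)]

namespace Frame

variable (K : Frame G)

include K in
/-- No element has order nine. -/
theorem no_nine (hG : Nat.card G = 443520) {h : G} (hh : orderOf h = 9) : False := by
  haveI : Fact (Nat.Prime 3) := ⟨Nat.prime_three⟩
  have hu : orderOf (h ^ 3) = 3 := by rw [orderOf_pow' _ (by norm_num), hh]; rfl
  obtain ⟨t, ht, hc⟩ := K.exists_commuting hG hu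
  obtain ⟨L⟩ := K.exists_klein hG ht hu hc
  set Cv := Subgroup.centralizer ({h ^ 3} : Set G) with hCv
  have hCv36 : Nat.card Cv = 36 := (K.three_column hG hu).1
  obtain ⟨c, hc'⟩ := isConj_iff.1
    (K.rational hG (g := h) (k := 4) (by rw [hh]; norm_num) (by rw [hh]; norm_num) (by rw [hh]; norm_num))
  have h9 : h ^ 9 = 1 := by rw [← hh]; exact pow_orderOf_eq_one h
  have hcC : c ∈ Cv := Subgroup.mem_centralizer_singleton_iff.2 (by
    have e : c * (h ^ 4) ^ 3 * c⁻¹ = h ^ 3 := by rw [← conj_pow, hc']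
    rw [← pow_mul, show h ^ (4 * 3) = h ^ 3 by rw [show 4 * 3 = 9 + 3 from rfl, pow_add, h9, one_mul]] at e
    exact mul_inv_eq_iff_eq_mul.1 e)
  have hhC : h ∈ Cv := Subgroup.mem_centralizer_singleton_iff.2 (Commute.pow_right (Commute.refl h) 3).eq
  haveI : (L.X.subgroupOf Cv).Normal := Subgroup.normal_subgroupOf_of_le_normalizer L.norm
  have hq : Nat.card (Cv ⧸ L.X.subgroupOf Cv) = 3 ^ 2 := by
    have e := Subgroup.card_eq_card_quotient_mul_card_subgroup (L.X.subgroupOf Cv)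
    rw [Nat.card_congr (Subgroup.subgroupOfEquivOfLe (show L.X ≤ Cv from L.le_cen)).toEquiv, L.card, hCv36] at e
    omega
  have hab := IsPGroup.commutative_of_card_eq_prime_sq hq
  set π := QuotientGroup.mk' (L.X.subgroupOf Cv)
  have he : π (⟨h, hhC⟩ ^ 4) = π ⟨h, hhC⟩ := by
    have e : (⟨c, hcC⟩ : Cv) * ⟨h, hhC⟩ ^ 4 * ⟨c, hcC⟩⁻¹ = ⟨h, hhC⟩ := Subtype.ext hc'
    have e' := congrArg π e
    rwa [map_mul, map_mul, map_inv, hab (π ⟨c, hcC⟩), mul_inv_cancel_right] at e'
  have hm : (⟨h, hhC⟩ : Cv) ^ 3 ∈ L.X.subgroupOf Cv := by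
    rw [← QuotientGroup.eq_one_iff, ← QuotientGroup.mk'_apply]
    have he' : π (⟨h, hhC⟩ ^ 3) * π ⟨h, hhC⟩ = π ⟨h, hhC⟩ := by
      rw [← map_mul, ← pow_succ]; exact he
    exact mul_eq_right.1 he'
  have h6 : (h ^ 3) ^ 2 = 1 := by rw [sq]; exact L.sq _ hm
  have := orderOf_dvd_of_pow_eq_one h6
  rw [hu] at this
  norm_num at this

include K in
/-- The centralizer of an element of order three has a second such element. -/
theorem exists_second (hG : Nat.card G = 443520) {v : G} (hv : orderOf v = 3) :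
    ∃ g : G, orderOf g = 3 ∧ Commute g v ∧ g ∉ Subgroup.zpowers v := by
  haveI : Fact (Nat.Prime 3) := ⟨Nat.prime_three⟩
  set Cv := Subgroup.centralizer ({v} : Set G)
  have hCv36 : Nat.card Cv = 36 := (K.three_column hG hv).1
  obtain ⟨P⟩ : Nonempty (Sylow 3 Cv) := inferInstance
  have h32 : (36 : ℕ).factorization 3 = 2 := by
    rw [show (36 : ℕ) = 3 ^ 2 * 4 by norm_num, Nat.factorization_mul (by norm_num) (by norm_num),
      Finsupp.add_apply, Nat.Prime.factorization_pow Nat.prime_three, Finsupp.single_eq_same,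
      Nat.factorization_eq_zero_of_not_dvd (by norm_num : ¬ 3 ∣ 4)]
  have hPc : Nat.card P = 9 := by rw [P.card_eq_multiplicity, hCv36, h32]; norm_num
  obtain ⟨z, hzP, hznot⟩ : ∃ z ∈ (P : Subgroup Cv), (z : G) ∉ Subgroup.zpowers v := by
    by_contra h
    push Not at h
    have hle : (P : Subgroup Cv).map Cv.subtype ≤ Subgroup.zpowers v := by
      rintro _ ⟨z, hz, rfl⟩; exact h z hz
    have := Subgroup.card_le_of_le hle
    rw [← Nat.card_congr ((P : Subgroup Cv).equivMapOfInjective _ Cv.subtype_injective).toEquiv,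
      Nat.card_zpowers, hv, show Nat.card (P : Subgroup Cv) = 9 from hPc] at this
    omega
  have h9 : (z : G) ^ 9 = 1 := by
    have h := pow_card_eq_one' (x := (⟨z, hzP⟩ : (P : Subgroup Cv)))
    rw [show Nat.card (P : Subgroup Cv) = 9 from hPc] at h
    exact congrArg (fun s : (P : Subgroup Cv) => ((s : Cv) : G)) h
  obtain ⟨i, hi, hi'⟩ := (Nat.dvd_prime_pow Nat.prime_three).1
    (orderOf_dvd_of_pow_eq_one (show (z : G) ^ (3 ^ 2) = 1 from h9))
  refine ⟨z, ?_, Subgroup.mem_centralizer_singleton_iff.1 z.2, hznot⟩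
  interval_cases i
  · rw [pow_zero, orderOf_eq_one_iff] at hi'
    exact absurd (by rw [hi']; exact one_mem _) hznot
  · rw [hi', pow_one]
  · exact (K.no_nine hG (show orderOf (z : G) = 9 by rw [hi']; norm_num)).elim

include K in
/-- An element of two-power order fixing the involution and inverting the element of order three. -/
theorem exists_inverter (hG : Nat.card G = 443520) {v t : G} (L : Klein v t) :
    ∃ w : G, w * v * w⁻¹ = v⁻¹ ∧ w ∈ Subgroup.centralizer ({t} : Set G) ∧ w ^ 2 ^ 7 = 1 := by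
  obtain ⟨g, hg, hgc, hgn⟩ := K.exists_second hG L.hv
  obtain ⟨h, hh⟩ := isConj_iff.1
    (K.rational hG (g := v) (k := 2) (by rw [L.hv]; norm_num) (by rw [L.hv]; norm_num) (by rw [L.hv]; norm_num))
  have hh' : h * v * h⁻¹ = v⁻¹ := by
    have e : h * (v ^ 2) ^ 2 * h⁻¹ = v ^ 2 := by rw [← conj_pow, hh]
    rw [← pow_mul, show v ^ (2 * 2) = v by rw [show 2 * 2 = 3 + 1 from rfl, pow_add, L.v_pow, one_mul, pow_one]] at e
    rw [e]
    exact (inv_eq_of_mul_eq_one_left (by rw [← pow_succ, L.v_pow])).symm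
  have ht1 : t ≠ 1 := fun e => by have := L.ht; rw [e, orderOf_one] at this; norm_num at this
  have hmem : h⁻¹ * t * h ∈ L.X := by
    have hn := mem_normalizer_of_inv (L.inv_of_inverts hh')
    have := (Subgroup.mem_normalizer_iff.1 (inv_mem hn) t).1 L.t_mem
    rwa [inv_inv] at this
  obtain ⟨i, hi⟩ := L.orbit hg hgc hgn hmem (fun e => ht1 (by
    calc t = h * (h⁻¹ * t * h) * h⁻¹ := by group
      _ = 1 := by rw [e]; group))
  set k := h * g ^ i with hk
  have hkv : k * v * k⁻¹ = v⁻¹ := by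
    rw [hk, show h * g ^ i * v * (h * g ^ i)⁻¹ = h * (g ^ i * v * (g ^ i)⁻¹) * h⁻¹ by group,
      ((hgc.pow_left i)).eq, mul_inv_cancel_right, hh']
  have hkt : k ∈ Subgroup.centralizer ({t} : Set G) := Subgroup.mem_centralizer_singleton_iff.2 (by
    refine mul_inv_eq_iff_eq_mul.1 ?_
    rw [hk, show h * g ^ i * t * (h * g ^ i)⁻¹ = h * (g ^ i * t * (g ^ i)⁻¹) * h⁻¹ by group, hi]
    group)
  refine ⟨k ^ 3, ?_, pow_mem hkt 3, ?_⟩
  · have e2 : k * v⁻¹ * k⁻¹ = v := by
      rw [show k * v⁻¹ * k⁻¹ = (k * v * k⁻¹)⁻¹ by group, hkv, inv_inv]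
    calc k ^ 3 * v * (k ^ 3)⁻¹ = k * (k * (k * v * k⁻¹) * k⁻¹) * k⁻¹ := by
          simp [pow_succ, mul_assoc]
      _ = v⁻¹ := by rw [hkv, e2, hkv]
  · have h384 : Nat.card (Subgroup.centralizer ({t} : Set G)) = 384 := (K.inv_column hG L.ht).1
    have h := pow_card_eq_one' (x := (⟨k, hkt⟩ : Subgroup.centralizer ({t} : Set G)))
    rw [h384] at h
    rw [← pow_mul]
    exact congrArg Subtype.val h

include K in
/-- The local structure around a commuting pair. -/
theorem exists_loc (hG : Nat.card G = 443520) {v t : G} (ht : orderOf t = 2) (hv : orderOf v = 3)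
    (hc : Commute t v) : Nonempty (Loc v t) := by
  classical
  haveI : Fact (Nat.Prime 2) := ⟨Nat.prime_two⟩
  obtain ⟨L⟩ := K.exists_klein hG ht hv hc
  obtain ⟨g, hg, hgc, hgn⟩ := K.exists_second hG hv
  obtain ⟨w, hwv, hwt, hwp⟩ := K.exists_inverter hG L
  set C := Subgroup.centralizer ({t} : Set G) with hC
  have hC384 : Nat.card C = 384 := (K.inv_column hG ht).1
  have hvC : v ∈ C := L.v_mem_cen_t
  set vc : C := ⟨v, hvC⟩ with hvc
  have hvc3 : vc ^ 3 = 1 := Subtype.ext L.v_pow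
  have hvc1 : vc ≠ 1 := fun e => by
    have : v = 1 := congrArg Subtype.val e
    rw [this, orderOf_one] at hv; norm_num at hv
  have h27 : (384 : ℕ).factorization 2 = 7 := by
    rw [show (384 : ℕ) = 2 ^ 7 * 3 by norm_num, Nat.factorization_mul (by norm_num) (by norm_num),
      Finsupp.add_apply, Nat.Prime.factorization_pow Nat.prime_two, Finsupp.single_eq_same,
      Nat.factorization_eq_zero_of_not_dvd (by norm_num : ¬ 2 ∣ 3)]
  have hSc : ∀ R : Sylow 2 C, Nat.card R = 128 := fun R => by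
    rw [R.card_eq_multiplicity, hC384, h27]; norm_num
  have hSi : ∀ R : Sylow 2 C, (R : Subgroup C).index = 3 := fun R => by
    have h := Subgroup.card_mul_index (R : Subgroup C)
    rw [show Nat.card (R : Subgroup C) = 128 from hSc R, hC384] at h
    omega
  have hv_not : ∀ R : Sylow 2 C, vc ∉ (R : Subgroup C) := fun R hR => by
    have h := Subgroup.orderOf_dvd_natCard (R : Subgroup C) hR
    rw [show Nat.card (R : Subgroup C) = 128 from hSc R, orderOf_eq_prime (p := 3) hvc3 hvc1] at h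
    norm_num at h
  have hnn : ∀ R : Sylow 2 C, ¬ (R : Subgroup C).Normal := fun R hn => by
    haveI := hn
    have hw : (⟨w, hwt⟩ : C) ∈ (R : Subgroup C) := by
      have hcop : Nat.Coprime (R : Subgroup C).index (orderOf (⟨w, hwt⟩ : C)) := by
        rw [hSi R, Subgroup.orderOf_mk]
        exact Nat.Coprime.coprime_dvd_right (orderOf_dvd_of_pow_eq_one hwp) (Nat.Coprime.pow_right _ (by norm_num))
      obtain ⟨m, hm⟩ := exists_pow_eq_self_of_coprime hcop
      rw [← hm]
      exact pow_mem (Subgroup.pow_index_mem _ _) m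
    have h1 := mul_mem (hn.conj_mem _ hw vc) (inv_mem hw)
    have e : vc * ⟨w, hwt⟩ * vc⁻¹ * (⟨w, hwt⟩ : C)⁻¹ = vc ^ 2 := by
      refine Subtype.ext ?_
      show v * w * v⁻¹ * w⁻¹ = v ^ 2
      rw [sq, show v * w * v⁻¹ * w⁻¹ = v * (w * v * w⁻¹)⁻¹ by group, hwv, inv_inv]
    rw [e] at h1
    apply hv_not R
    have h2 := pow_mem h1 2
    rwa [← pow_mul, show 2 * 2 = 3 + 1 from rfl, pow_add, hvc3, one_mul, pow_one] at h2
  have hN : ∀ R : Sylow 2 C, Subgroup.normalizer (R : Set C) = (R : Subgroup C) := fun R => by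
    have hle : (R : Subgroup C) ≤ Subgroup.normalizer (R : Set C) := Subgroup.le_normalizer
    rcases (Nat.dvd_prime Nat.prime_three).1 (hSi R ▸ Subgroup.index_dvd_of_le hle) with h | h
    · exact absurd (Subgroup.normalizer_eq_top_iff.1 (Subgroup.index_eq_one.1 h)) (hnn R)
    · refine (Subgroup.eq_of_le_of_card_ge hle ?_).symm
      have h' := Subgroup.card_mul_index (Subgroup.normalizer (R : Set C))
      rw [h, hC384] at h'
      rw [show Nat.card (R : Subgroup C) = 128 from hSc R]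
      omega
  obtain ⟨S⟩ : Nonempty (Sylow 2 C) := inferInstance
  haveI := Fintype.ofFinite (Sylow 2 C)
  have hn2 : Fintype.card (Sylow 2 C) = 3 := by
    rw [← Nat.card_eq_fintype_card, Sylow.card_eq_index_normalizer S, hN S, hSi S]
  have hmove : ∀ R : Sylow 2 C, vc • R ≠ R := fun R e => hv_not R (hN R ▸ Sylow.smul_eq_iff_mem_normalizer.1 e)
  have hall : ∀ R₀ R : Sylow 2 C, R = R₀ ∨ R = vc • R₀ ∨ R = vc • vc • R₀ := by
    intro R₀ R
    by_contra h
    push Not at h
    have h3 : vc • vc • R₀ ≠ R₀ := fun e => hmove R₀ (by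
      calc vc • R₀ = vc • vc • vc • R₀ := by rw [e]
        _ = R₀ := by rw [smul_smul, smul_smul, show vc * vc * vc = vc ^ 3 by simp [pow_succ, mul_assoc],
          hvc3, one_smul])
    have h4 : 4 ≤ Fintype.card (Sylow 2 C) := by
      refine le_trans (le_of_eq ?_) (Finset.card_le_card (Finset.subset_univ
        ({R₀, vc • R₀, vc • vc • R₀, R} : Finset (Sylow 2 C))))
      rw [Finset.card_insert_of_notMem, Finset.card_insert_of_notMem, Finset.card_insert_of_notMem,
        Finset.card_singleton]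
      all_goals simp [(hmove R₀).symm, (hmove (vc • R₀)).symm, h3.symm, h.1.symm, h.2.1.symm, h.2.2.symm]
    omega
  set ρ := MulAction.toPermHom C (Sylow 2 C) with hρ
  have hker : ∀ y : C, y ∈ ρ.ker ↔ ∀ R : Sylow 2 C, y ∈ (R : Subgroup C) := by
    intro y
    rw [MonoidHom.mem_ker]
    refine ⟨fun h R => hN R ▸ Sylow.smul_eq_iff_mem_normalizer.1 ?_, fun h => Equiv.ext fun R => ?_⟩
    · have := congrArg (fun σ : Equiv.Perm (Sylow 2 C) => σ R) h
      simpa [hρ] using this
    · simpa [hρ] using Sylow.smul_eq_iff_mem_normalizer.2 ((hN R).symm ▸ h R)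
  have hkS : ρ.ker ≤ (S : Subgroup C) := fun y hy => (hker y).1 hy S
  have h64 : Nat.card ρ.ker = 64 := by
    have hidx : ρ.ker.index ∣ 6 := by
      rw [Subgroup.index_ker]
      have h := Subgroup.card_subgroup_dvd_card ρ.range
      rw [Nat.card_perm, (Nat.card_eq_fintype_card (α := Sylow 2 C)).trans hn2] at h
      exact h
    have hd : Nat.card ρ.ker ∣ 128 := hSc S ▸ Subgroup.card_dvd_of_le hkS
    have hne : Nat.card ρ.ker ≠ 128 := fun e => hnn S (by
      have : ρ.ker = (S : Subgroup C) := Subgroup.eq_of_le_of_card_ge hkS (by rw [e]; exact (hSc S).le)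
      exact this ▸ ρ.normal_ker)
    have hcm := Subgroup.card_mul_index ρ.ker
    rw [hC384] at hcm
    have hle : Nat.card ρ.ker ≤ 128 := Nat.le_of_dvd (by norm_num) hd
    have hi0 : ρ.ker.index ≤ 6 := Nat.le_of_dvd (by norm_num) hidx
    generalize Nat.card ρ.ker = a at hd hne hcm hle
    generalize ρ.ker.index = b at hcm hi0 hidx
    interval_cases b <;> omega
  have hDn := ρ.normal_ker
  generalize ρ.ker = D at hker hkS h64 hDn
  set Q := D.map C.subtype with hQ
  have hQle : Q ≤ C := Subgroup.map_subtype_le _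
  have hQn : C ≤ Subgroup.normalizer (Q : Set G) := fun y hy => mem_normalizer_of_inv (v := y) fun z hz => by
    obtain ⟨z', hz', rfl⟩ := hz
    exact ⟨⟨y, hy⟩ * z' * ⟨y, hy⟩⁻¹, hDn.conj_mem z' hz' ⟨y, hy⟩, rfl⟩
  have hmax : ∀ T : Subgroup G, T ≤ C → IsPGroup 2 T → Inv v T → T ≤ Q := by
    intro T hT hTp hTi y hy
    obtain ⟨R₀, hR₀⟩ := (hTp.of_equiv (Subgroup.subgroupOfEquivOfLe hT).symm).exists_le_sylow
    refine ⟨⟨y, hT hy⟩, (hker _).2 fun R => ?_, rfl⟩
    have hinv : ∀ z ∈ T, v⁻¹ * z * v ∈ T := fun z hz => by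
      have := (Subgroup.mem_normalizer_iff.1 (inv_mem (mem_normalizer_of_inv hTi)) z).1 hz
      rwa [inv_inv] at this
    have hstep : ∀ R₁ : Sylow 2 C, (∀ z (hz : z ∈ T), (⟨z, hT hz⟩ : C) ∈ (R₁ : Subgroup C)) →
        ∀ z (hz : z ∈ T), (⟨z, hT hz⟩ : C) ∈ ((vc • R₁ : Sylow 2 C) : Subgroup C) := fun R₁ h₁ z hz => by
      rw [Sylow.coe_subgroup_smul, Subgroup.mem_pointwise_smul_iff_inv_smul_mem, MulAut.smul_def,
        MulAut.conj_inv_apply]
      exact h₁ (v⁻¹ * z * v) (hinv z hz)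
    have h0 : ∀ z (hz : z ∈ T), (⟨z, hT hz⟩ : C) ∈ (R₀ : Subgroup C) := fun z hz => hR₀ (show z ∈ T from hz)
    rcases hall R₀ R with rfl | rfl | rfl
    · exact h0 y hy
    · exact hstep R₀ h0 y hy
    · exact hstep _ (hstep R₀ h0) y hy
  refine ⟨{ L with
    Q := Q, Q_le := hQle, Q_norm := hQn, maxQ := hmax
    Q_card := ?_
    g := g, hg := hg, g_comm := hgc, g_not := hgn
    w := w, w_inv := hwv, w_comm := hwt, w_pow := hwp
    w_not := ?_ }⟩
  · rw [hQ, ← Nat.card_congr (D.equivMapOfInjective _ C.subtype_injective).toEquiv, h64]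
  · rintro ⟨w', hw', hww⟩
    obtain rfl : w' = ⟨w, hwt⟩ := Subtype.ext hww
    have h1 := mul_mem (hDn.conj_mem _ hw' vc) (inv_mem hw')
    have e : vc * ⟨w, hwt⟩ * vc⁻¹ * (⟨w, hwt⟩ : C)⁻¹ = vc ^ 2 := by
      refine Subtype.ext ?_
      show v * w * v⁻¹ * w⁻¹ = v ^ 2
      rw [sq, show v * w * v⁻¹ * w⁻¹ = v * (w * v * w⁻¹)⁻¹ by group, hwv, inv_inv]
    rw [e] at h1
    apply hv_not S
    have h2 := pow_mem (hkS h1) 2
    rwa [← pow_mul, show 2 * 2 = 3 + 1 from rfl, pow_add, hvc3, one_mul, pow_one] at h2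

end Frame

end Cfsg.Agent.Invol.M22Ord
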