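import Mathlib
import Cfsg.Agent.Lib.Invol.Order443520.LocalTwo
import Cfsg.Agent.Lib.Invol.Order443520.Orbits

/-!
Simple groups of order 443520: a subgroup of index seventy-seven, when the four-group is not central in the
two-subgroup.
-/

set_option autoImplicit false
set_option linter.style.haveILetI false
set_option linter.unusedSectionVars false

namespace Cfsg.Agent.Invol.M22Ord

open scoped ComplexConjugate
open Cfsg Cfsg.Agent.Block Cfsg.Agent.Char Cfsg.Agent.Invol.M12Ord

universe u

variable {G : Type u} [Group G] [Finite G]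

/-- A subgroup of order 5760 with a normal elementary abelian subgroup of order sixteen. -/
structure Hexad (G : Type u) [Group G] where
  H : Subgroup G
  E : Subgroup G
  cardH : Nat.card H = 5760
  cardE : Nat.card E = 16
  sq : ∀ y ∈ E, y * y = 1
  le : E ≤ H
  norm : H ≤ Subgroup.normalizer (E : Set G)

namespace Klein

variable {v t : G} (L : Klein v t)

include L in
theorem t_ne : t ≠ 1 := fun e => by have := L.ht; rw [e, orderOf_one] at this; norm_num at this

include L in
theorem mem_cases {a : G} (ha : a ∈ L.X) (ha1 : a ≠ 1) (hat : a ≠ t) {y : G} (hy : y ∈ L.X) :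
    y = 1 ∨ y = t ∨ y = a ∨ y = t * a := by
  classical
  haveI := Fintype.ofFinite L.X
  by_contra h
  push Not at h
  have h1 : t * a ≠ 1 := fun e => hat (by
    calc a = t * t * a := by rw [L.sq t L.t_mem, one_mul]
      _ = t := by rw [mul_assoc, e, mul_one])
  have h2 : t * a ≠ t := fun e => ha1 (mul_eq_left.1 e)
  have h3 : t * a ≠ a := fun e => L.t_ne (mul_eq_right.1 e)
  have h5 : 5 ≤ Fintype.card L.X := by
    refine le_trans (le_of_eq ?_) (Finset.card_le_card (Finset.subset_univ
      ({⟨1, one_mem _⟩, ⟨t, L.t_mem⟩, ⟨a, ha⟩, ⟨_, mul_mem L.t_mem ha⟩, ⟨y, hy⟩} : Finset L.X)))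
    rw [Finset.card_insert_of_notMem, Finset.card_insert_of_notMem, Finset.card_insert_of_notMem,
      Finset.card_insert_of_notMem, Finset.card_singleton]
    all_goals simp [L.t_ne.symm, ha1.symm, hat.symm, h1.symm, h2.symm, h3.symm, h.1.symm, h.2.1.symm,
      h.2.2.1.symm, h.2.2.2.symm]
  rw [← Nat.card_eq_fintype_card, L.card] at h5
  omega

end Klein

namespace Loc

variable {v t : G} (L : Loc v t)

/-- An element moving the four-group and commuting with the element of order three normalizes its centralizer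
in the two-subgroup. -/
theorem mem_normalizer_E {h : G} (hh : Commute h v) : h ∈ Subgroup.normalizer (L.E : Set G) := by
  refine mem_normalizer_of_inv ?_
  have hn : h ∈ Subgroup.normalizer (L.X : Set G) := mem_normalizer_of_inv (L.toKlein.inv_of_commute hh)
  have hpull : ∀ x ∈ L.X, h⁻¹ * x * h ∈ L.X := fun x hx => by
    have := (Subgroup.mem_normalizer_iff.1 (inv_mem hn) x).1 hx
    rwa [inv_inv] at this
  set T := L.E.map (MulAut.conj h).toMonoidHom with hT
  have hmemT : ∀ e ∈ L.E, h * e * h⁻¹ ∈ T := fun e he => ⟨e, he, rfl⟩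
  have hcen : T ≤ Subgroup.centralizer (L.X : Set G) := by
    rintro _ ⟨e, he, rfl⟩
    exact inv_centralizer_of_mem hn e he.2
  have hTC : T ≤ Subgroup.centralizer ({t} : Set G) := fun y hy =>
    Subgroup.mem_centralizer_singleton_iff.2 (Subgroup.mem_centralizer_iff.1 (hcen hy) t L.t_mem).symm
  have hTp : IsPGroup 2 T := (L.pgroupQ.to_le inf_le_left).map _
  have hTi : Inv v T := by
    rintro _ ⟨e, he, rfl⟩
    refine ⟨v * e * v⁻¹, L.inv_E e he, ?_⟩
    show h * (v * e * v⁻¹) * h⁻¹ = v * (h * e * h⁻¹) * v⁻¹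
    calc h * (v * e * v⁻¹) * h⁻¹ = h * v * e * (h * v)⁻¹ := by group
      _ = v * h * e * (v * h)⁻¹ := by rw [hh.eq]
      _ = v * (h * e * h⁻¹) * v⁻¹ := by group
  exact fun e he => ⟨L.maxQ T hTC hTp hTi (hmemT e he), hcen (hmemT e he)⟩

theorem w_norm_X : L.w ∈ Subgroup.normalizer (L.X : Set G) :=
  mem_normalizer_of_inv (L.toKlein.inv_of_inverts L.w_inv)

theorem w_norm_E : L.w ∈ Subgroup.normalizer (L.E : Set G) :=
  mem_normalizer_of_inv (Inv.inf (inv_normalizer (L.Q_norm L.w_comm)) (inv_centralizer_of_mem L.w_norm_X))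

end Loc

variable [IsSimpleGroup G]
variable [Fact (Nat.Prime 5)] [Fact (Nat.Prime 7)] [Fact (Nat.Prime 11)]

namespace Frame

variable (K : Frame G)

include K in
/-- The orbit of the involution under the normalizer of a subgroup containing it. -/
theorem conj_bound (hG : Nat.card G = 443520) {v t : G} (L : Loc v t) {E : Subgroup G} (hE : Nat.card E = 16)
    (htE : t ∈ E) :
    conjSet (Subgroup.normalizer (E : Set G)) t ⊆ nonOne E ∧
      (conjSet (Subgroup.normalizer (E : Set G)) t).card ≤ 15 ∧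
      Nat.card (Subgroup.normalizer (E : Set G) ⊓ Subgroup.centralizer ({t} : Set G) : Subgroup G) ∣ 384 := by
  have hsub : conjSet (Subgroup.normalizer (E : Set G)) t ⊆ nonOne E := fun y hy => by
    obtain ⟨q, hq, rfl⟩ := mem_conjSet.1 hy
    exact nonOne_closed hq (mem_nonOne.2 ⟨htE, L.toKlein.t_ne⟩)
  refine ⟨hsub, ?_, ?_⟩
  · have h := Finset.card_le_card hsub
    have := card_nonOne E
    omega
  · have h384 : Nat.card (Subgroup.centralizer ({t} : Set G)) = 384 := (K.inv_column hG L.ht).1
    exact h384 ▸ Subgroup.card_dvd_of_le inf_le_right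

include K in
/-- When the four-group is not central, the normalizer of its centralizer has order 5760. -/
theorem hexad_of_sixteen (hG : Nat.card G = 443520) {v t : G} (L : Loc v t) (h16 : Nat.card L.E = 16) :
    Nonempty (Hexad G) := by
  classical
  haveI : Fact (Nat.Prime 2) := ⟨Nat.prime_two⟩
  set N := Subgroup.normalizer (L.E : Set G) with hN
  have hQN : L.Q ≤ N := L.normal_sixteen L.X_le_E inf_le_left L.inv_E h16
  have hvN : v ∈ N := mem_normalizer_of_inv L.inv_E
  have hgN : L.g ∈ N := L.mem_normalizer_E L.g_comm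
  -- elementary abelian
  let A : Subgroup G :=
    { carrier := {y | y ∈ L.E ∧ y * y = 1 ∧ ∀ z ∈ L.E, y * z = z * y}
      one_mem' := ⟨one_mem _, one_mul 1, fun z _ => by rw [one_mul, mul_one]⟩
      mul_mem' := by
        rintro a b ⟨ha, ha2, hac⟩ ⟨hb, hb2, hbc⟩
        refine ⟨mul_mem ha hb, ?_, fun z hz => ?_⟩
        · calc a * b * (a * b) = a * (b * a) * b := by group
            _ = a * (a * b) * b := by rw [← hac b hb]
            _ = (a * a) * (b * b) := by group
            _ = 1 := by rw [ha2, hb2, one_mul]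
        · calc a * b * z = a * (b * z) := by group
            _ = a * (z * b) := by rw [hbc z hz]
            _ = a * z * b := by group
            _ = z * a * b := by rw [hac z hz]
            _ = z * (a * b) := by group
      inv_mem' := by
        rintro a ⟨ha, ha2, hac⟩
        have e : a⁻¹ = a := inv_eq_of_mul_eq_one_left ha2
        rw [e]
        exact ⟨ha, ha2, hac⟩ }
  have hAle : A ≤ L.E := fun y hy => hy.1
  have hXA : L.X ≤ A := fun y hy => ⟨L.X_le_E hy, L.sq y hy, fun z hz =>
    Subgroup.mem_centralizer_iff.1 (Subgroup.mem_inf.1 hz).2 y hy⟩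
  have hAn : ∀ h ∈ N, Inv h A := fun h hh y hy => by
    refine ⟨(Subgroup.mem_normalizer_iff.1 hh y).1 hy.1, ?_, fun z hz => ?_⟩
    · rw [show h * y * h⁻¹ * (h * y * h⁻¹) = h * (y * y) * h⁻¹ by group, hy.2.1]; group
    · have hz' := (Subgroup.mem_normalizer_iff.1 (inv_mem hh) z).1 hz
      rw [inv_inv] at hz'
      calc h * y * h⁻¹ * z = h * (y * (h⁻¹ * z * h)) * h⁻¹ := by group
        _ = h * (h⁻¹ * z * h * y) * h⁻¹ := by rw [hy.2.2 _ hz']
        _ = z * (h * y * h⁻¹) := by group
  have hAX : Nat.card A ≠ 4 := fun e => by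
    have heq : L.X = A := Subgroup.eq_of_le_of_card_ge hXA (by rw [e, L.card])
    have hQ : L.Q ≤ L.E := fun q hq => Subgroup.mem_inf.2 ⟨hq, L.normalizer_le_cen hq
      (mem_normalizer_of_inv (heq ▸ hAn q (hQN hq)))⟩
    have := Subgroup.card_le_of_le hQ
    rw [L.Q_card, h16] at this
    omega
  have hAE : A = L.E := by
    refine Subgroup.eq_of_le_of_card_ge hAle ?_
    have hd : Nat.card A ∣ 16 := h16 ▸ Subgroup.card_dvd_of_le hAle
    have h4 : 4 ≤ Nat.card A := L.card ▸ Subgroup.card_le_of_le hXA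
    rcases dvd_sixtyfour (hd.trans (by norm_num)) (L.card_mod (hAle.trans inf_le_left) (hAn v hvN) hXA) with
      h | h | h | h <;> omega
  have hsq : ∀ y ∈ L.E, y * y = 1 := fun y hy => (hAE.symm ▸ hy : y ∈ A).2.1
  -- the stabiliser is the whole centralizer
  have htE : t ∈ L.E := L.X_le_E L.t_mem
  obtain ⟨hsub, h15, hs⟩ := K.conj_bound hG L h16 htE
  set C := Subgroup.centralizer ({t} : Set G)
  set M := N ⊓ C with hM
  have hQM : L.Q ≤ M := le_inf hQN L.Q_le
  have hvM : v ∈ M := ⟨hvN, L.toKlein.v_mem_cen_t⟩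
  have h192 : 192 ∣ Nat.card M := Nat.Coprime.mul_dvd_of_dvd_of_dvd (m := 64) (n := 3) (by norm_num)
    (L.Q_card ▸ Subgroup.card_dvd_of_le hQM) (by have h := Subgroup.orderOf_dvd_natCard M hvM; rwa [L.hv] at h)
  have hM384 : Nat.card M = 384 := by
    rcases Nat.eq_or_lt_of_le (Nat.le_of_dvd (by norm_num) hs) with h | h
    · exact h
    · exfalso
      have h' : Nat.card M = 3 * Nat.card L.Q := by
        obtain ⟨j, hj⟩ := h192
        rw [L.Q_card]
        have := Nat.card_pos (α := M)
        omega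
      exact L.w_not (mem_of_index_three hQM (inf_le_right.trans L.Q_norm) h' ⟨L.w_norm_E, L.w_comm⟩ L.w_pow)
  -- at least nine conjugates
  set S := conjSet N t with hS
  set a := L.g * t * L.g⁻¹ with ha
  have hI := L.toKlein.inv_of_commute L.g_comm
  have haX : a ∈ L.X := hI _ L.t_mem
  have ha1 : a ≠ 1 := fun e => L.toKlein.t_ne (conj_eq_one_iff.1 e)
  have hat : a ≠ t := fun e => L.toKlein.t_ne
    (L.moves L.g L.hg L.g_comm L.g_not t L.t_mem (mul_inv_eq_iff_eq_mul.1 e))
  have hta1 : t * a ≠ 1 := fun e => hat (by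
    calc a = t * t * a := by rw [L.sq t L.t_mem, one_mul]
      _ = t := by rw [mul_assoc, e, mul_one])
  have htaS : t * a ∈ S := by
    obtain ⟨i, hi⟩ := L.toKlein.orbit L.hg L.g_comm L.g_not (mul_mem L.t_mem haX) hta1
    exact mem_conjSet.2 ⟨_, pow_mem hgN i, hi⟩
  have hO : (conjSet L.Q a).card = 4 := by
    have h := card_conjSet L.Q a
    have e : L.Q ⊓ Subgroup.centralizer ({a} : Set G) = L.E := by
      refine le_antisymm (fun q hq => Subgroup.mem_inf.2 ⟨hq.1, Subgroup.mem_centralizer_iff.2 fun y hy => ?_⟩)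
        fun q hq => Subgroup.mem_inf.2 ⟨(Subgroup.mem_inf.1 hq).1, Subgroup.mem_centralizer_singleton_iff.2
          (Subgroup.mem_centralizer_iff.1 (Subgroup.mem_inf.1 hq).2 a haX).symm⟩
      have hqa : Commute q a := Subgroup.mem_centralizer_singleton_iff.1 hq.2
      have hqt : Commute q t := Subgroup.mem_centralizer_singleton_iff.1 (L.Q_le hq.1)
      rcases L.toKlein.mem_cases haX ha1 hat hy with rfl | rfl | rfl | rfl
      · rw [one_mul, mul_one]
      · exact hqt.eq.symm
      · exact hqa.eq.symm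
      · exact (hqt.mul_right hqa).eq.symm
    rw [e, L.Q_card, h16] at h
    omega
  set O := conjSet L.Q a with hOdef
  have htq : ∀ q ∈ L.Q, q * t * q⁻¹ = t := fun q hq => by
    rw [Subgroup.mem_centralizer_singleton_iff.1 (L.Q_le hq), mul_inv_cancel_right]
  have hOQ : ∀ b ∈ O, b ∈ L.Q ∧ b ≠ 1 ∧ b ≠ t := fun b hb => by
    obtain ⟨q, hq, rfl⟩ := mem_conjSet.1 hb
    refine ⟨mul_mem (mul_mem hq (L.X_le_Q haX)) (inv_mem hq), fun e => ha1 (conj_eq_one_iff.1 e), fun e => hat ?_⟩
    exact mul_left_cancel (mul_right_cancel (e.trans (htq q hq).symm))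
  have hta : t * a ∉ O := fun hmem => by
    have hOi : ∀ b ∈ O, v * b * v⁻¹ ∈ O := fun b hb => by
      obtain ⟨q, hq, rfl⟩ := mem_conjSet.1 hb
      refine mem_conjSet.2 ⟨v * q * v⁻¹, L.inv_Q q hq, ?_⟩
      have hva : v⁻¹ * a * v = a := by rw [mul_assoc, (L.toKlein.comm_v haX).eq, inv_mul_cancel_left]
      calc v * q * v⁻¹ * a * (v * q * v⁻¹)⁻¹ = v * (q * (v⁻¹ * a * v) * q⁻¹) * v⁻¹ := by group
        _ = v * (q * a * q⁻¹) * v⁻¹ := by rw [hva]
    have hfix := fixed_mod_prime (p := 3) L.toKlein.v_pow O hOi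
    have e : (O.filter fun b => v * b * v⁻¹ = b) = {a, t * a} := by
      ext b
      simp only [Finset.mem_filter, Finset.mem_insert, Finset.mem_singleton]
      refine ⟨fun h => ?_, ?_⟩
      · obtain ⟨hbQ, hb1, hbt⟩ := hOQ b h.1
        rcases L.toKlein.mem_cases haX ha1 hat (L.fix_mem hbQ h.2) with e | e | e | e
        · exact absurd e hb1
        · exact absurd e hbt
        · exact Or.inl e
        · exact Or.inr e
      · rintro (rfl | rfl)
        · exact ⟨self_mem_conjSet, by rw [← (L.toKlein.comm_v haX).eq, mul_inv_cancel_right]⟩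
        · exact ⟨hmem, by rw [← (L.toKlein.comm_v (mul_mem L.t_mem haX)).eq, mul_inv_cancel_right]⟩
    rw [e, hO, Finset.card_insert_of_notMem (by simpa using L.toKlein.t_ne),
      Finset.card_singleton] at hfix
    omega
  have hdis : ∀ b ∈ O, t * b ∉ O := fun b hb hb' => by
    obtain ⟨q, hq, rfl⟩ := mem_conjSet.1 hb
    apply hta
    have h := conjSet_closed (inv_mem hq) hb'
    rwa [inv_inv, show q⁻¹ * (t * (q * a * q⁻¹)) * q = (q⁻¹ * t * q) * a by group,
      show q⁻¹ * t * q = t by have := htq q⁻¹ (inv_mem hq); rwa [inv_inv] at this] at h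
  have haS : a ∈ S := mem_conjSet.2 ⟨L.g, hgN, rfl⟩
  have h9 : 9 ≤ S.card := by
    have hsub9 : insert t (O ∪ O.image (fun b => t * b)) ⊆ S := by
      intro b hb
      simp only [Finset.mem_insert, Finset.mem_union, Finset.mem_image] at hb
      rcases hb with rfl | hb | ⟨c, hc, rfl⟩
      · exact self_mem_conjSet
      · obtain ⟨q, hq, rfl⟩ := mem_conjSet.1 hb
        exact conjSet_closed (hQN hq) haS
      · obtain ⟨q, hq, rfl⟩ := mem_conjSet.1 hc
        have := conjSet_closed (hQN hq) htaS
        rwa [show q * (t * a) * q⁻¹ = (q * t * q⁻¹) * (q * a * q⁻¹) by group, htq q hq] at this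
    refine le_trans (le_of_eq ?_) (Finset.card_le_card hsub9)
    rw [Finset.card_insert_of_notMem, Finset.card_union_of_disjoint,
      Finset.card_image_of_injective _ (mul_right_injective t), hO]
    · rw [Finset.disjoint_left]
      intro b hb hb'
      obtain ⟨c, hc, rfl⟩ := Finset.mem_image.1 hb'
      exact hdis c hc hb
    · simp only [Finset.mem_union, Finset.mem_image, not_or, not_exists, not_and]
      refine ⟨fun h => (hOQ t h).2.2 rfl, fun c hc e => (hOQ c hc).2.1 (mul_eq_left.1 e)⟩
  -- the order of the normalizer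
  have hNc : Nat.card N = S.card * 384 := by rw [card_conjSet N t, ← hM384]
  have hd : S.card * 384 ∣ 443520 := hNc ▸ hG ▸ Subgroup.card_subgroup_dvd_card N
  have hS' : S.card = 15 := by
    have h1155 : S.card ∣ 1155 := Nat.dvd_of_mul_dvd_mul_right (by norm_num : 0 < 384)
      (hd.trans (by norm_num) : S.card * 384 ∣ 1155 * 384)
    have h11 : S.card ≠ 11 := fun e => by
      obtain ⟨⟨u, hu⟩, huo⟩ := exists_prime_orderOf_dvd_card' (G := N) 11 (by rw [hNc, e]; norm_num)
      rw [Subgroup.orderOf_mk] at huo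
      have hu11 : u ^ 11 = 1 := by rw [← huo]; exact pow_orderOf_eq_one u
      have hfix := fixed_mod_prime (p := 11) hu11 (nonOne L.E) fun y hy => nonOne_closed hu hy
      have := card_nonOne L.E
      obtain ⟨y, hy⟩ := Finset.card_pos.1
        (show 0 < ((nonOne L.E).filter fun y => u * y * u⁻¹ = y).card by omega)
      rw [Finset.mem_filter, mem_nonOne] at hy
      have h384 : Nat.card (Subgroup.centralizer ({y} : Set G)) = 384 :=
        (K.inv_column hG (orderOf_involution (hsq y hy.1.1) hy.1.2)).1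
      have := Subgroup.orderOf_dvd_natCard (Subgroup.centralizer ({y} : Set G))
        (Subgroup.mem_centralizer_singleton_iff.2 (mul_inv_eq_iff_eq_mul.1 hy.2) : u ∈ _)
      rw [huo, h384] at this
      norm_num at this
    generalize S.card = n at h9 h15 h1155 h11
    interval_cases n <;> simp_all +decide
  exact ⟨⟨N, L.E, by rw [hNc, hS'], h16, hsq, Subgroup.le_normalizer, le_rfl⟩⟩

end Frame

end Cfsg.Agent.Invol.M22Ord
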