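import Mathlib
import Cfsg.Agent.Lib.Invol.Order443520.Hexad
import Cfsg.Agent.Lib.Invol.Order443520.FiveLocal
import Cfsg.Agent.Lib.Invol.Order95040.CharSums

/-!
Simple groups of order 443520: a subgroup of index seventy-seven exists in every case.
-/

set_option autoImplicit false
set_option linter.style.haveILetI false
set_option linter.unusedSectionVars false

namespace Cfsg.Agent.Invol.M22Ord

open scoped ComplexConjugate
open Cfsg Cfsg.Agent.Block Cfsg.Agent.Char Cfsg.Agent.Invol.M12Ord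

universe u

variable {G : Type u} [Group G] [Finite G]

/-- If the number of points outside a subgroup is prime to nine, some element of a group of order nine fixes
one of them. -/
theorem exists_fixed_outside {P Q A : Subgroup G} (hP : Nat.card P = 9)
    (hPQ : P ≤ Subgroup.normalizer (Q : Set G)) (hPA : P ≤ Subgroup.normalizer (A : Set G)) (hAQ : A ≤ Q)
    (h9 : ¬ 9 ∣ Nat.card Q - Nat.card A) : ∃ z ∈ P, z ≠ 1 ∧ ∃ q ∈ Q, q ∉ A ∧ z * q * z⁻¹ = q := by
  classical
  haveI := Fintype.ofFinite G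
  by_contra h
  push Not at h
  apply h9
  have e : Nat.card Q - Nat.card A =
      ((Finset.univ.filter fun y => y ∈ Q) \ (Finset.univ.filter fun y => y ∈ A)).card := by
    rw [Finset.card_sdiff_of_subset (fun y hy => by simpa using hAQ (by simpa using hy)),
      Nat.card_eq_fintype_card, Nat.card_eq_fintype_card, Fintype.card_subtype, Fintype.card_subtype]
  rw [e, ← hP]
  refine dvd_card_of_free _ (fun q hq y hy => ?_) fun y hy q hq hqy => ?_
  · simp only [Finset.mem_sdiff, Finset.mem_filter, Finset.mem_univ, true_and] at hy ⊢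
    exact ⟨(Subgroup.mem_normalizer_iff.1 (hPQ hq) y).1 hy.1,
      fun e' => hy.2 ((Subgroup.mem_normalizer_iff.1 (hPA hq) y).2 e')⟩
  · simp only [Finset.mem_sdiff, Finset.mem_filter, Finset.mem_univ, true_and] at hy
    by_contra hq1
    exact h q hq hq1 y hy.1 hy.2 hqy

namespace Loc

variable {v t : G} (L : Loc v t)

theorem le_cen_of_top (h : Nat.card L.E = 64) : L.Q ≤ Subgroup.centralizer (L.X : Set G) := by
  have e : L.E = L.Q := Subgroup.eq_of_le_of_card_ge inf_le_left (by rw [h, L.Q_card])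
  exact e ▸ inf_le_right

theorem mem_normalizer_Q (h : Nat.card L.E = 64) {z : G} (hz : Commute z v) :
    z ∈ Subgroup.normalizer (L.Q : Set G) := by
  have e : L.E = L.Q := Subgroup.eq_of_le_of_card_ge inf_le_left (by rw [h, L.Q_card])
  exact e ▸ L.mem_normalizer_E hz

theorem not_mem_of_fix {z q : G} (hq : q ∈ L.Q) (hqX : q ∉ L.X) (hfix : z * q * z⁻¹ = q) :
    z ∈ Subgroup.zpowers v → z = 1 := by
  intro hz
  by_contra h1
  apply hqX
  have hgen : v ∈ Subgroup.zpowers z := by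
    haveI : Fact (Nat.Prime 3) := ⟨Nat.prime_three⟩
    exact mem_zpowers_of_prime_card (by rw [Nat.card_zpowers, L.hv]) (g := (⟨z, hz⟩ : Subgroup.zpowers v))
      (g' := ⟨v, Subgroup.mem_zpowers v⟩) (fun e => h1 (congrArg Subtype.val e)) |> fun h => by
        obtain ⟨i, hi⟩ := Subgroup.mem_zpowers_iff.1 h
        exact Subgroup.mem_zpowers_iff.2 ⟨i, congrArg Subtype.val hi⟩
  obtain ⟨i, hi⟩ := Subgroup.mem_zpowers_iff.1 hgen
  refine L.fix_mem hq ?_
  have hc : Commute z q := mul_inv_eq_iff_eq_mul.1 hfix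
  rw [← hi, (hc.zpow_left i).eq, mul_inv_cancel_right]

end Loc

variable [IsSimpleGroup G]
variable [Fact (Nat.Prime 5)] [Fact (Nat.Prime 7)] [Fact (Nat.Prime 11)]

namespace Frame

variable (K : Frame G)

include K in
/-- No subgroup of order 64 is elementary abelian. -/
theorem no_elementary (hG : Nat.card G = 443520) (W : Subgroup G) (hc : Nat.card W = 64)
    (hsq : ∀ y ∈ W, y * y = 1) : False := by
  classical
  haveI := Fintype.ofFinite W
  obtain ⟨χ, hχ⟩ := K.exists_deg hG (d := 21) (by simp [allDegs, involCol])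
  obtain ⟨n, hn⟩ := M12Ord.sum_nat (IsIrr.isCharacter χ.2) W
  have hval : ∀ y : W, (χ : G → ℂ) (y : G) = ((if y = 1 then 21 else 5 : ℤ) : ℂ) := fun y => by
    split_ifs with h
    · rw [h, OneMemClass.coe_one, value_one, ← Int.cast_natCast, hχ]
    · rw [K.inv_value_eq hG (orderOf_involution (hsq _ y.2) fun e => h (Subtype.ext e)), hχ]
      simp [invVal]
  rw [Finset.sum_congr rfl fun y _ => hval y, ← Int.cast_sum, hc] at hn
  have hn' : (∑ y : W, if y = 1 then (21 : ℤ) else 5) = (n : ℤ) * 64 := by exact_mod_cast hn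
  rw [Finset.sum_ite, Finset.sum_const, Finset.sum_const, Finset.filter_eq', if_pos (Finset.mem_univ _),
    Finset.card_singleton, Finset.filter_ne', Finset.card_erase_of_mem (Finset.mem_univ _), Finset.card_univ,
    ← Nat.card_eq_fintype_card, hc] at hn'
  norm_num at hn'
  omega

include K in
/-- The elementary group of order nine through an element of order three. -/
theorem exists_nine (hG : Nat.card G = 443520) {v t : G} (L : Loc v t) :
    ∃ P : Subgroup G, Nat.card P = 9 ∧ v ∈ P ∧ L.g ∈ P ∧ (∀ y ∈ P, ∀ z ∈ P, Commute y z) ∧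
      ∀ z ∈ P, z ≠ 1 → orderOf z = 3 := by
  haveI : Fact (Nat.Prime 3) := ⟨Nat.prime_three⟩
  set P := Subgroup.zpowers v ⊔ Subgroup.zpowers L.g with hP
  have hvP : v ∈ P := (le_sup_left : _ ≤ P) (Subgroup.mem_zpowers v)
  have hgP : L.g ∈ P := (le_sup_right : _ ≤ P) (Subgroup.mem_zpowers L.g)
  have hv : P ≤ Subgroup.centralizer ({v} : Set G) := sup_le
    (Subgroup.zpowers_le.2 (Subgroup.mem_centralizer_singleton_iff.2 rfl))
    (Subgroup.zpowers_le.2 (Subgroup.mem_centralizer_singleton_iff.2 L.g_comm.eq))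
  have hg : P ≤ Subgroup.centralizer ({L.g} : Set G) := sup_le
    (Subgroup.zpowers_le.2 (Subgroup.mem_centralizer_singleton_iff.2 L.g_comm.eq.symm))
    (Subgroup.zpowers_le.2 (Subgroup.mem_centralizer_singleton_iff.2 rfl))
  have hab : P ≤ Subgroup.centralizer (P : Set G) := sup_le
    (Subgroup.zpowers_le.2 (Subgroup.mem_centralizer_iff.2 fun z hz =>
      Subgroup.mem_centralizer_singleton_iff.1 (hv hz)))
    (Subgroup.zpowers_le.2 (Subgroup.mem_centralizer_iff.2 fun z hz =>
      Subgroup.mem_centralizer_singleton_iff.1 (hg hz)))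
  have hp : IsPGroup 3 P := by
    refine (IsPGroup.of_card (n := 1) (by rw [Nat.card_zpowers, L.hv, pow_one])).to_sup_of_normal_left'
      (IsPGroup.of_card (n := 1) (by rw [Nat.card_zpowers, L.hg, pow_one])) ?_
    refine Subgroup.zpowers_le.2 (mem_normalizer_of_inv fun y hy => ?_)
    obtain ⟨i, rfl⟩ := Subgroup.mem_zpowers_iff.1 hy
    rw [(L.g_comm.zpow_right i).eq, mul_inv_cancel_right]
    exact zpow_mem (Subgroup.mem_zpowers v) i
  obtain ⟨n, hn⟩ := IsPGroup.iff_card.1 hp
  have h36 : 3 ^ n ∣ 36 := by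
    rw [← hn]
    have h : Nat.card (Subgroup.centralizer ({v} : Set G)) = 36 := (K.three_column hG L.hv).1
    exact h ▸ Subgroup.card_dvd_of_le hv
  have h2 : 2 ≤ n := by
    by_contra h
    refine L.g_not ?_
    have heq : Subgroup.zpowers v = P := Subgroup.eq_of_le_of_card_ge le_sup_left (by
      rw [hn, Nat.card_zpowers, L.hv]; interval_cases n <;> norm_num)
    exact heq ▸ hgP
  have hc : Nat.card P = 9 := by
    rcases Nat.lt_or_ge n 3 with h | h
    · rw [hn, show n = 2 by omega]; norm_num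
    · exfalso
      have := (Nat.pow_dvd_pow 3 h).trans h36
      norm_num at this
  refine ⟨P, hc, hvP, hgP, fun y hy z hz => (Subgroup.mem_centralizer_iff.1 (hab hy) z hz).symm, fun z hz hz1 => ?_⟩
  have h9 : orderOf z ∣ 3 ^ 2 := by
    have := Subgroup.orderOf_dvd_natCard P hz
    rwa [hc] at this
  obtain ⟨i, hi, hi'⟩ := (Nat.dvd_prime_pow Nat.prime_three).1 h9
  interval_cases i
  · rw [pow_zero, orderOf_eq_one_iff] at hi'; exact absurd hi' hz1
  · rw [hi', pow_one]
  · exact (K.no_nine hG (show orderOf z = 9 by rw [hi']; norm_num)).elim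

include K in
/-- A second four-group from a fixed point of another element of order three. -/
theorem exists_four (hG : Nat.card G = 443520) {v t : G} (L : Loc v t) (h64 : Nat.card L.E = 64) {z q : G}
    (hz : orderOf z = 3) (hzv : Commute z v) (hznot : z ∉ Subgroup.zpowers v) (hq : q ∈ L.Q) (hq1 : q ≠ 1)
    (hfix : z * q * z⁻¹ = q) :
    ∃ (y₀ : G) (L' : Loc z y₀), L'.X ≤ L.Q ∧ (∀ y ∈ L.X, y ∈ L'.X → y = 1) ∧
      v ∉ Subgroup.zpowers z := by
  haveI : Fact (Nat.Prime 2) := ⟨Nat.prime_two⟩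
  haveI : Fact (Nat.Prime 3) := ⟨Nat.prime_three⟩
  set F := L.Q ⊓ Subgroup.centralizer ({z} : Set G) with hF
  have hqF : q ∈ F := ⟨hq, Subgroup.mem_centralizer_singleton_iff.2 (mul_inv_eq_iff_eq_mul.1 hfix).symm⟩
  have h2 : 2 ∣ Nat.card F := by
    obtain ⟨n, hn⟩ := IsPGroup.iff_card.1 (L.pgroupQ.to_le (inf_le_left : F ≤ L.Q))
    rw [hn]
    refine dvd_pow_self 2 fun e => hq1 ?_
    rw [e, pow_zero, Subgroup.card_eq_one] at hn
    exact (Subgroup.mem_bot).1 (hn ▸ hqF)
  obtain ⟨⟨y₀, hy₀⟩, hyo⟩ := exists_prime_orderOf_dvd_card' (G := F) 2 h2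
  rw [Subgroup.orderOf_mk] at hyo
  obtain ⟨L'⟩ := K.exists_loc hG hyo hz (Subgroup.mem_centralizer_singleton_iff.1 hy₀.2)
  have hvn : v ∉ Subgroup.zpowers z := fun h => hznot (by
    have e : Subgroup.zpowers v = Subgroup.zpowers z := Subgroup.eq_of_le_of_card_ge (Subgroup.zpowers_le.2 h)
      (by rw [Nat.card_zpowers, Nat.card_zpowers, hz, L.hv])
    exact e ▸ Subgroup.mem_zpowers z)
  refine ⟨y₀, L', fun y hy => ?_, fun y hy hy' => L.moves z hz hzv hznot y hy (L'.toKlein.comm_v hy').symm, hvn⟩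
  rcases eq_or_ne y 1 with rfl | hy1
  · exact one_mem _
  · obtain ⟨i, rfl⟩ := L'.toKlein.orbit L.hv hzv.symm hvn hy hy1
    exact (Subgroup.mem_normalizer_iff.1 (pow_mem (L.mem_normalizer_Q h64 (Commute.refl v)) i) y₀).1 hy₀.1

include K in
/-- When the four-group is always central, the normalizer of a product of two of them has order 5760. -/
theorem hexad_of_central (hG : Nat.card G = 443520)
    (hall : ∀ (v t : G) (L : Loc v t), Nat.card L.E = 64) {v t : G} (L : Loc v t) : Nonempty (Hexad G) := by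
  classical
  haveI : Fact (Nat.Prime 2) := ⟨Nat.prime_two⟩
  haveI : Fact (Nat.Prime 3) := ⟨Nat.prime_three⟩
  obtain ⟨P, hP, hvP, hgP, hPc, hP3⟩ := K.exists_nine hG L
  have hQX := L.le_cen_of_top (hall v t L)
  have hPQ : P ≤ Subgroup.normalizer (L.Q : Set G) := fun z hz => L.mem_normalizer_Q (hall v t L) (hPc z hz v hvP)
  have hPX : P ≤ Subgroup.normalizer (L.X : Set G) := fun z hz =>
    mem_normalizer_of_inv (L.toKlein.inv_of_commute (hPc z hz v hvP))
  obtain ⟨x, hxP, hx1, q, hqQ, hqX, hxq⟩ := exists_fixed_outside hP hPQ hPX L.X_le_Q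
    (by rw [L.Q_card, L.card]; norm_num)
  have hxn : x ∉ Subgroup.zpowers v := fun h => hx1 (L.not_mem_of_fix hqQ hqX hxq h)
  obtain ⟨y₀, L', hYQ, hXY, hvn⟩ := K.exists_four hG L (hall v t L) (hP3 x hxP hx1) (hPc x hxP v hvP) hxn hqQ
    (fun e => hqX (e ▸ one_mem _)) hxq
  have hcomm : ∀ a ∈ L.X, ∀ b ∈ L'.X, a * b = b * a := fun a ha b hb =>
    Subgroup.mem_centralizer_iff.1 (hQX (hYQ hb)) a ha
  obtain ⟨E, hEm, hXE, hYE, hEc⟩ := exists_prod hcomm hXY
  rw [L.card, L'.card, show 4 * 4 = 16 from rfl] at hEc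
  have hEsq : ∀ e ∈ E, e * e = 1 := fun e he => by
    obtain ⟨a, ha, b, hb, rfl⟩ := (hEm e).1 he
    calc a * b * (a * b) = a * (b * a) * b := by group
      _ = a * (a * b) * b := by rw [← hcomm a ha b hb]
      _ = (a * a) * (b * b) := by group
      _ = 1 := by rw [L.sq a ha, L'.sq b hb, one_mul]
  have hEQ : E ≤ L.Q := fun e he => by
    obtain ⟨a, ha, b, hb, rfl⟩ := (hEm e).1 he
    exact mul_mem (L.X_le_Q ha) (hYQ hb)
  have hPY : P ≤ Subgroup.normalizer (L'.X : Set G) := fun z hz =>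
    mem_normalizer_of_inv (L'.toKlein.inv_of_commute (hPc z hz x hxP))
  have hPE : P ≤ Subgroup.normalizer (E : Set G) := fun z hz => mem_normalizer_of_inv fun e he => by
    obtain ⟨a, ha, b, hb, rfl⟩ := (hEm e).1 he
    exact (hEm _).2 ⟨z * a * z⁻¹, (Subgroup.mem_normalizer_iff.1 (hPX hz) a).1 ha, z * b * z⁻¹,
      (Subgroup.mem_normalizer_iff.1 (hPY hz) b).1 hb, by group⟩
  -- fixed points in `E`
  have hfixE : ∀ z ∈ P, ∀ a ∈ L.X, ∀ b ∈ L'.X, z * (a * b) * z⁻¹ = a * b →
      Commute z a ∧ Commute z b := by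
    intro z hz a ha b hb h
    have ha' := (Subgroup.mem_normalizer_iff.1 (hPX hz) a).1 ha
    have hb' := (Subgroup.mem_normalizer_iff.1 (hPY hz) b).1 hb
    have e : a⁻¹ * (z * a * z⁻¹) = b * (z * b * z⁻¹)⁻¹ := by
      calc a⁻¹ * (z * a * z⁻¹) = a⁻¹ * (z * (a * b) * z⁻¹) * (z * b * z⁻¹)⁻¹ := by group
        _ = b * (z * b * z⁻¹)⁻¹ := by rw [h]; group
    have h1 : a⁻¹ * (z * a * z⁻¹) = 1 :=
      hXY _ (mul_mem (inv_mem ha) ha') (e ▸ mul_mem hb (inv_mem hb'))
    have h2 : b * (z * b * z⁻¹)⁻¹ = 1 := e ▸ h1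
    exact ⟨mul_inv_eq_iff_eq_mul.1 (inv_mul_eq_one.1 h1).symm, mul_inv_eq_iff_eq_mul.1 (mul_inv_eq_one.1 h2).symm⟩
  set F := L.Q ⊓ Subgroup.centralizer (L'.X : Set G) with hFdef
  have hEF : E ≤ F := le_inf hEQ fun e he => by
    obtain ⟨a, ha, b, hb, rfl⟩ := (hEm e).1 he
    refine Subgroup.mem_centralizer_iff.2 fun c hc => ?_
    calc c * (a * b) = (c * a) * b := by group
      _ = (a * c) * b := by rw [hcomm a ha c hc]
      _ = a * (c * b) := by group
      _ = a * (b * c) := by rw [comm_of_sq L'.sq hc hb]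
      _ = a * b * c := by group
  have hFi : Inv v F := L.inv_Q.inf (inv_centralizer_of_mem (hPY hvP))
  have hF16 : Nat.card F = 16 := by
    have hd : Nat.card F ∣ 64 := L.Q_card ▸ Subgroup.card_dvd_of_le inf_le_left
    have hge : 16 ≤ Nat.card F := hEc ▸ Subgroup.card_le_of_le hEF
    rcases dvd_sixtyfour hd (L.card_mod (H := F) inf_le_left hFi (hXE.trans hEF)) with h | h | h | h
    · omega
    · omega
    · exact h
    · exfalso
      have hQF : F = L.Q := Subgroup.eq_of_le_of_card_ge inf_le_left (by rw [h, L.Q_card])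
      have hQY : L.Q ≤ Subgroup.centralizer (L'.X : Set G) := hQF ▸ inf_le_right
      obtain ⟨z, hzP, hz1, r, hrQ, hrE, hzr⟩ := exists_fixed_outside hP hPQ hPE hEQ
        (by rw [L.Q_card, hEc]; norm_num)
      have hzn : z ∉ Subgroup.zpowers v := fun h' => hz1 (L.not_mem_of_fix hrQ (fun e => hrE (hXE e)) hzr h')
      obtain ⟨z₀, L'', hZQ, -, -⟩ := K.exists_four hG L (hall v t L) (hP3 z hzP hz1) (hPc z hzP v hvP) hzn hrQ
        (fun e => hrE (e ▸ one_mem _)) hzr
      have hzx : z ∉ Subgroup.zpowers x := fun h' => by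
        obtain ⟨i, hi⟩ := Subgroup.mem_zpowers_iff.1 h'
        have hxz : x ∈ Subgroup.zpowers z := by
          have heq : Subgroup.zpowers z = Subgroup.zpowers x := Subgroup.eq_of_le_of_card_ge
            (Subgroup.zpowers_le.2 h') (by rw [Nat.card_zpowers, Nat.card_zpowers, hP3 z hzP hz1, hP3 x hxP hx1])
          exact heq.symm ▸ Subgroup.mem_zpowers x
        obtain ⟨j, hj⟩ := Subgroup.mem_zpowers_iff.1 hxz
        have hxr : Commute x r := hj ▸ (show Commute z r from mul_inv_eq_iff_eq_mul.1 hzr).zpow_left j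
        refine hrE (hYE (L'.two r (Subgroup.mem_centralizer_singleton_iff.2 hxr.eq.symm) 6 ?_))
        have h' := pow_card_eq_one' (x := (⟨r, hrQ⟩ : L.Q))
        rw [L.Q_card] at h'
        exact congrArg Subtype.val h'
      have hEZ : ∀ e ∈ E, ∀ c ∈ L''.X, e * c = c * e := by
        intro e he c hc
        obtain ⟨a, ha, b, hb, rfl⟩ := (hEm e).1 he
        calc a * b * c = a * (b * c) := by group
          _ = a * (c * b) := by rw [Subgroup.mem_centralizer_iff.1 (hQY (hZQ hc)) b hb]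
          _ = (a * c) * b := by group
          _ = (c * a) * b := by rw [Subgroup.mem_centralizer_iff.1 (hQX (hZQ hc)) a ha]
          _ = c * (a * b) := by group
      have hEZd : ∀ e ∈ E, e ∈ L''.X → e = 1 := by
        intro e he he'
        obtain ⟨a, ha, b, hb, rfl⟩ := (hEm e).1 he
        obtain ⟨hza, hzb⟩ := hfixE z hzP a ha b hb (by rw [← (L''.toKlein.comm_v he').eq, mul_inv_cancel_right])
        rw [L.moves z (hP3 z hzP hz1) (hPc z hzP v hvP) hzn a ha hza,
          L'.moves z (hP3 z hzP hz1) (hPc z hzP x hxP) hzx b hb hzb, one_mul]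
      obtain ⟨W, hWm, -, -, hWc⟩ := exists_prod hEZ hEZd
      rw [hEc, L''.card] at hWc
      refine K.no_elementary hG W (by rw [hWc]) fun w hw => ?_
      obtain ⟨e, he, c, hc, rfl⟩ := (hWm w).1 hw
      calc e * c * (e * c) = e * (c * e) * c := by group
        _ = e * (e * c) * c := by rw [← hEZ e he c hc]
        _ = (e * e) * (c * c) := by group
        _ = 1 := by rw [hEsq e he, L''.sq c hc, one_mul]
  have hFE : F = E := (Subgroup.eq_of_le_of_card_ge hEF (by rw [hF16, hEc])).symm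
  -- the second two-subgroup
  have hQ'Y := L'.le_cen_of_top (hall x y₀ L')
  have hxE : Inv x E := inv_normalizer (hPE hxP)
  have hEQ' : E ≤ L'.Q := L'.maxQ E (fun e he => Subgroup.mem_centralizer_singleton_iff.2
      (comm_of_sq hEsq he (hYE L'.t_mem))) (L.pgroupQ.to_le hEQ) hxE
  set N := Subgroup.normalizer (E : Set G) with hN
  have hQN : L.Q ≤ N := L.normal_sixteen hXE hEQ (inv_normalizer (hPE hvP)) hEc
  have hQ'N : L'.Q ≤ N := L'.normal_sixteen hYE hEQ' hxE hEc
  have hinter : L'.Q ⊓ Subgroup.centralizer ({t} : Set G) = E := by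
    refine le_antisymm ?_ (le_inf hEQ' fun e he => Subgroup.mem_centralizer_singleton_iff.2
      (comm_of_sq hEsq he (hXE L.t_mem)))
    have hvQ' : Inv v L'.Q := inv_normalizer (L'.mem_normalizer_Q (hall x y₀ L') (hPc v hvP x hxP))
    have hle : L'.Q ⊓ Subgroup.centralizer ({t} : Set G) ≤ L.Q := L.maxQ _ inf_le_right
      (L'.pgroupQ.to_le inf_le_left) (hvQ'.inf (inv_normalizer (Subgroup.le_normalizer L.toKlein.v_mem_cen_t)))
    exact fun y hy => hFE ▸ (⟨hle hy, hQ'Y hy.1⟩ : y ∈ F)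
  obtain ⟨hsub, h15, hs⟩ := K.conj_bound hG L hEc (hXE L.t_mem)
  set S := conjSet N t with hS
  -- the orbit of `t` leaves the first four-group
  obtain ⟨e, he, heX⟩ : ∃ e ∈ conjSet L'.Q t, e ∉ nonOne L.X := by
    by_contra h
    push Not at h
    have h4 := card_conjSet L'.Q t
    rw [hinter, hEc, L'.Q_card] at h4
    have h3 := Finset.card_le_card (show conjSet L'.Q t ⊆ nonOne L.X from fun y hy => h y hy)
    have := card_nonOne L.X
    rw [L.card] at this
    omega
  obtain ⟨r, hr, rfl⟩ := mem_conjSet.1 he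
  set e := r * t * r⁻¹ with hedef
  have heS : e ∈ S := mem_conjSet.2 ⟨r, hQ'N hr, rfl⟩
  obtain ⟨heE, he1⟩ := mem_nonOne.1 (hsub heS)
  have heY : e ∉ L'.X := fun h => by
    have hrY : r⁻¹ * e * r = e := by
      rw [mul_assoc, Subgroup.mem_centralizer_iff.1 (hQ'Y hr) e h, inv_mul_cancel_left]
    have : e = t := by rw [← hrY, hedef]; group
    exact L.toKlein.t_ne (hXY t L.t_mem (this ▸ h))
  have heX' : e ∉ L.X := fun h => heX (mem_nonOne.2 ⟨h, he1⟩)
  -- a free orbit
  have hfree : (conjSet P e).card = 9 := by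
    have h := card_conjSet P e
    have hb : P ⊓ Subgroup.centralizer ({e} : Set G) = ⊥ := by
      refine (Subgroup.eq_bot_iff_forall _).2 fun z hz => ?_
      by_contra hz1
      obtain ⟨a, ha, b, hb, hab⟩ := (hEm e).1 heE
      have hz' : z * (a * b) * z⁻¹ = a * b := by
        rw [hab]; exact mul_inv_eq_iff_eq_mul.2 (Subgroup.mem_centralizer_singleton_iff.1 hz.2)
      obtain ⟨hza, hzb⟩ := hfixE z hz.1 a ha b hb hz'
      have ha1 : a ≠ 1 := fun h' => heY (by rw [← hab, h', one_mul]; exact hb)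
      have hb1 : b ≠ 1 := fun h' => heX' (by rw [← hab, h', mul_one]; exact ha)
      have hzv : z ∈ Subgroup.zpowers v := by
        by_contra h'
        exact ha1 (L.moves z (hP3 z hz.1 hz1) (hPc z hz.1 v hvP) h' a ha hza)
      have hzx : z ∈ Subgroup.zpowers x := by
        by_contra h'
        exact hb1 (L'.moves z (hP3 z hz.1 hz1) (hPc z hz.1 x hxP) h' b hb hzb)
      have e1 : Subgroup.zpowers z = Subgroup.zpowers v := Subgroup.eq_of_le_of_card_ge
        (Subgroup.zpowers_le.2 hzv) (by rw [Nat.card_zpowers, Nat.card_zpowers, hP3 z hz.1 hz1, L.hv])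
      have e2 : Subgroup.zpowers z = Subgroup.zpowers x := Subgroup.eq_of_le_of_card_ge
        (Subgroup.zpowers_le.2 hzx) (by rw [Nat.card_zpowers, Nat.card_zpowers, hP3 z hz.1 hz1, hP3 x hxP hx1])
      exact hxn (e1 ▸ e2.symm ▸ Subgroup.mem_zpowers x)
    rw [hb, Subgroup.card_bot, hP, mul_one] at h
    exact h.symm
  set M := conjSet P e with hM
  have hMout : ∀ y ∈ M, y ∉ L.X ∧ y ∉ L'.X := fun y hy => by
    obtain ⟨z, hz, rfl⟩ := mem_conjSet.1 hy
    exact ⟨fun h => heX' ((Subgroup.mem_normalizer_iff.1 (hPX hz) e).2 h),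
      fun h => heY ((Subgroup.mem_normalizer_iff.1 (hPY hz) e).2 h)⟩
  have hMS : M ⊆ S := fun y hy => by
    obtain ⟨z, hz, rfl⟩ := mem_conjSet.1 hy
    exact conjSet_closed (hPE hz) heS
  have hXS : nonOne L.X ⊆ S := fun y hy => by
    obtain ⟨hyX, hy1⟩ := mem_nonOne.1 hy
    obtain ⟨i, hi⟩ := L.toKlein.orbit L.hg L.g_comm L.g_not hyX hy1
    exact mem_conjSet.2 ⟨_, pow_mem (hPE hgP) i, hi⟩
  have hc3 : (nonOne L.X).card = 3 := by have := card_nonOne L.X; rw [L.card] at this; omega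
  have hc3' : (nonOne L'.X).card = 3 := by have := card_nonOne L'.X; rw [L'.card] at this; omega
  have hdXY : Disjoint (nonOne L.X) (nonOne L'.X) := Finset.disjoint_left.2 fun y hy hy' =>
    (mem_nonOne.1 hy).2 (hXY y (mem_nonOne.1 hy).1 (mem_nonOne.1 hy').1)
  have hdM : Disjoint M (nonOne L.X ∪ nonOne L'.X) := Finset.disjoint_left.2 fun y hy hy' => by
    rcases Finset.mem_union.1 hy' with h | h
    · exact (hMout y hy).1 (mem_nonOne.1 h).1
    · exact (hMout y hy).2 (mem_nonOne.1 h).1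
  have h12 : 12 ≤ S.card := by
    refine le_trans (le_of_eq ?_) (Finset.card_le_card (Finset.union_subset hMS hXS))
    rw [Finset.card_union_of_disjoint (hdM.mono_right Finset.subset_union_left), hfree, hc3]
  have hS' : S.card = 12 ∨ S.card = 15 := by
    by_cases hmeet : ∃ y ∈ nonOne L'.X, y ∈ S
    · obtain ⟨y, hy, hyS⟩ := hmeet
      refine Or.inr (le_antisymm h15 ?_)
      have hYS : nonOne L'.X ⊆ S := fun y' hy' => by
        obtain ⟨hyX, hy1⟩ := mem_nonOne.1 hy
        obtain ⟨hyX', hy1'⟩ := mem_nonOne.1 hy'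
        obtain ⟨i, hi⟩ := L'.toKlein.orbit L.hv (hPc v hvP x hxP) hvn hyX hy1
        obtain ⟨j, hj⟩ := L'.toKlein.orbit L.hv (hPc v hvP x hxP) hvn hyX' hy1'
        have hy0 : y₀ ∈ S := by
          have := conjSet_closed (inv_mem (pow_mem (hPE hvP) i)) hyS
          rwa [← hi, inv_inv, show (v ^ i)⁻¹ * (v ^ i * y₀ * (v ^ i)⁻¹) * v ^ i = y₀ by group] at this
        exact hj ▸ conjSet_closed (pow_mem (hPE hvP) j) hy0
      refine le_trans (le_of_eq ?_) (Finset.card_le_card (Finset.union_subset hMS (Finset.union_subset hXS hYS)))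
      rw [Finset.card_union_of_disjoint hdM, Finset.card_union_of_disjoint hdXY, hfree, hc3, hc3']
    · refine Or.inl (le_antisymm ?_ h12)
      have h := Finset.card_le_card (show S ⊆ nonOne E \ nonOne L'.X from fun y hy =>
        Finset.mem_sdiff.2 ⟨hsub hy, fun hy' => hmeet ⟨y, hy', hy⟩⟩)
      rw [Finset.card_sdiff_of_subset (fun y hy => mem_nonOne.2 ⟨hYE (mem_nonOne.1 hy).1, (mem_nonOne.1 hy).2⟩),
        hc3'] at h
      have := card_nonOne E
      rw [hEc] at this
      omega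
  set C := Subgroup.centralizer ({t} : Set G)
  have h192 : 192 ∣ Nat.card (N ⊓ C : Subgroup G) := Nat.Coprime.mul_dvd_of_dvd_of_dvd (m := 64) (n := 3)
    (by norm_num) (L.Q_card ▸ Subgroup.card_dvd_of_le (le_inf hQN L.Q_le))
    (by
      have h := Subgroup.orderOf_dvd_natCard (N ⊓ C) (Subgroup.mem_inf.2 ⟨hPE hvP, L.toKlein.v_mem_cen_t⟩)
      rwa [L.hv] at h)
  have hNc := card_conjSet N t
  have hd : Nat.card N ∣ 443520 := hG ▸ Subgroup.card_subgroup_dvd_card N
  have h384 := Nat.le_of_dvd (by norm_num) hs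
  obtain ⟨j, hj⟩ := h192
  have hj3 : 192 * j ≤ 384 := le_of_eq_of_le hj.symm h384
  have hj2 : j = 1 ∨ j = 2 := by
    have := Nat.card_pos (α := (N ⊓ C : Subgroup G))
    omega
  rw [← hS, hj] at hNc
  rw [hNc] at hd
  rcases hS' with h | h <;> rcases hj2 with rfl | rfl <;> rw [h] at hd hNc
  · norm_num at hd
  · norm_num at hd
  · exact (K.no_2880 hG (H := N) hNc).elim
  · exact ⟨⟨N, E, hNc, hEc, hEsq, Subgroup.le_normalizer, le_rfl⟩⟩

include K in
/-- There is a subgroup of index seventy-seven. -/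
theorem exists_hexad (hG : Nat.card G = 443520) : Nonempty (Hexad G) := by
  by_cases hall : ∀ (v t : G) (L : Loc v t), Nat.card L.E = 64
  · haveI : Fact (Nat.Prime 3) := ⟨Nat.prime_three⟩
    obtain ⟨v, hv⟩ := exists_prime_orderOf_dvd_card' (G := G) 3 (by rw [hG]; norm_num)
    obtain ⟨t, ht, hc⟩ := K.exists_commuting hG hv
    obtain ⟨L⟩ := K.exists_loc hG ht hv hc
    exact K.hexad_of_central hG hall L
  · push Not at hall
    obtain ⟨v, t, L, hL⟩ := hall
    exact K.hexad_of_sixteen hG L (L.card_E.resolve_right hL)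

end Frame

end Cfsg.Agent.Invol.M22Ord
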