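import Mathlib
import Cfsg.Agent.Lib.Invol.Order443520.HexadCentral
import Cfsg.Agent.Lib.Block.PermChar
import Cfsg.Agent.Lib.Fus.RankThreeSeventySeven

/-!
Simple groups of order 443520 act with rank three on the seventy-seven cosets of the subgroup of that index, and
so on a strongly regular graph with parameters (77, 16, 0, 4).
-/

set_option autoImplicit false
set_option linter.style.haveILetI false
set_option linter.unusedSectionVars false

namespace Cfsg.Agent.Invol.M22Ord

open scoped ComplexConjugate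
open Cfsg Cfsg.Agent.Block Cfsg.Agent.Char Cfsg.Agent.Invol.M12Ord

universe u

/-- The orbits of a point stabilizer are as many as the orbits on pairs. -/
theorem card_orbitals {G Ω : Type*} [Group G] [MulAction G Ω] [MulAction.IsPretransitive G Ω] (a : Ω) :
    Nat.card (MulAction.orbitRel.Quotient (MulAction.stabilizer G a) Ω) =
      Nat.card (MulAction.orbitRel.Quotient G (Ω × Ω)) := by
  refine Nat.card_eq_of_bijective (Quotient.lift (fun y => (⟦(a, y)⟧ : MulAction.orbitRel.Quotient G (Ω × Ω)))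
    ?_) ⟨?_, ?_⟩
  · rintro y z ⟨h, hh⟩
    refine Quotient.sound ⟨(h : G), ?_⟩
    show (h : G) • (a, z) = (a, y)
    rw [Prod.smul_mk, MulAction.mem_stabilizer_iff.1 h.2]
    exact Prod.ext rfl hh
  · intro p q
    refine Quotient.inductionOn₂ p q fun y z e => ?_
    obtain ⟨g, hg⟩ := Quotient.exact (show (⟦(a, y)⟧ : MulAction.orbitRel.Quotient G (Ω × Ω)) = ⟦(a, z)⟧ from e)
    have h1 : g • a = a := congrArg Prod.fst hg
    exact Quotient.sound ⟨⟨g, MulAction.mem_stabilizer_iff.2 h1⟩, congrArg Prod.snd hg⟩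
  · intro p
    refine Quotient.inductionOn p fun ⟨x, y⟩ => ?_
    obtain ⟨g, hg⟩ := MulAction.exists_smul_eq G x a
    refine ⟨⟦g • y⟧, Quotient.sound ⟨g, ?_⟩⟩
    show g • (x, y) = (a, g • y)
    rw [Prod.smul_mk, hg]

variable {G : Type u} [Group G] [Finite G] [IsSimpleGroup G]
variable [Fact (Nat.Prime 5)] [Fact (Nat.Prime 7)] [Fact (Nat.Prime 11)]

namespace Frame

variable (K : Frame G)

open Block.PermChar

include K in
theorem exists_unique_deg (hG : Nat.card G = 443520) {d : ℕ} (hd : allDegs.count (d : ℤ) = 1) :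
    ∃ χ : IrrCharacter G, dg χ = d ∧ ∀ ψ : IrrCharacter G, dg ψ = d → ψ = χ := by
  classical
  have h := K.card_deg hG d
  rw [hd, Finset.card_eq_one] at h
  obtain ⟨χ, hχ⟩ := h
  refine ⟨χ, ?_, fun ψ hψ => ?_⟩
  · exact (Finset.mem_filter.1 (hχ.ge (Finset.mem_singleton_self χ))).2
  · exact Finset.mem_singleton.1 (hχ.le (Finset.mem_filter.2 ⟨Finset.mem_univ _, hψ⟩))

include K in
/-- A transitive action of degree seventy-seven has rank three and involutions fix thirteen points. -/
theorem perm_char (hG : Nat.card G = 443520) {Ω : Type u} [Fintype Ω] [DecidableEq Ω] [MulAction G Ω]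
    [MulAction.IsPretransitive G Ω] (hΩ : Fintype.card Ω = 77) :
    Nat.card (MulAction.orbitRel.Quotient G (Ω × Ω)) = 3 ∧
      ∀ t : G, orderOf t = 2 → Nat.card (MulAction.fixedBy Ω t) = 13 := by
  classical
  haveI := Fintype.ofFinite G
  choose a ha using fun χ : IrrCharacter G => exists_mult (G := G) (Ω := Ω) χ
  have hdec : ∀ g : G, piFun G Ω g = ∑ χ : IrrCharacter G, (a χ : ℂ) * (χ : G → ℂ) g := fun g => by
    conv_lhs => rw [piFun_decomp (G := G) (Ω := Ω)]
    rw [Finset.sum_apply]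
    exact Finset.sum_congr rfl fun χ _ => by rw [Pi.smul_apply, smul_eq_mul, ha χ]
  -- the trivial constituent
  have htriv : a (trivialIrr G) = 1 := by
    haveI : Nonempty Ω := Fintype.card_pos_iff.1 (by rw [hΩ]; norm_num)
    haveI := Fintype.ofFinite (MulAction.orbitRel.Quotient G Ω)
    have hq : Fintype.card (MulAction.orbitRel.Quotient G Ω) = 1 := by
      haveI := (MulAction.pretransitive_iff_subsingleton_quotient G Ω).1 inferInstance
      obtain ⟨x⟩ := (inferInstance : Nonempty Ω)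
      exact Fintype.card_eq_one_iff.2 ⟨⟦x⟧, fun y => Subsingleton.elim _ _⟩
    have hb := MulAction.sum_card_fixedBy_eq_card_orbits_mul_card_group G Ω
    rw [hq, one_mul] at hb
    have h := ha (trivialIrr G)
    rw [mult, classInner] at h
    have e : ∑ g : G, piFun G Ω g * conj ((trivialIrr G : G → ℂ) g) = (Nat.card G : ℂ) := by
      rw [Nat.card_eq_fintype_card, ← hb, Nat.cast_sum]
      refine Finset.sum_congr rfl fun g _ => ?_
      show (Nat.card (MulAction.fixedBy Ω g) : ℂ) * conj (1 : ℂ) = _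
      rw [map_one, mul_one, Nat.card_eq_fintype_card]
    rw [e, inv_mul_cancel₀ (Nat.cast_ne_zero.2 Nat.card_pos.ne')] at h
    exact_mod_cast h.symm
  -- degrees
  have h77 : ∑ χ : IrrCharacter G, a χ * dg χ = 77 := by
    have h := hdec 1
    have e : piFun G Ω (1 : G) = 77 := by
      show (Nat.card (MulAction.fixedBy Ω (1 : G)) : ℂ) = 77
      rw [show MulAction.fixedBy Ω (1 : G) = Set.univ from Set.ext fun x => by simp,
        Nat.card_congr (Equiv.Set.univ Ω), Nat.card_eq_fintype_card, hΩ]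
      norm_num
    simp only [value_one] at h
    rw [e] at h
    exact_mod_cast h.symm
  obtain ⟨χ₁, h21, hu21⟩ := K.exists_unique_deg hG (d := 21) (by decide)
  obtain ⟨χ₂, h55, hu55⟩ := K.exists_unique_deg hG (d := 55) (by decide)
  set S : Finset (IrrCharacter G) := ((Finset.univ.erase (trivialIrr G)).erase χ₁).erase χ₂ with hS
  have h12 : χ₂ ≠ χ₁ := fun e => by rw [e, h21] at h55; norm_num at h55
  have htd : dg (trivialIrr G) = 1 := by
    have h : (dg (trivialIrr G) : ℂ) = 1 := (value_one (trivialIrr G)).symm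
    exact_mod_cast h
  have h1t : χ₁ ≠ trivialIrr G := fun e => by rw [e, htd] at h21; norm_num at h21
  have h2t : χ₂ ≠ trivialIrr G := fun e => by rw [e, htd] at h55; norm_num at h55
  have hsplit : ∀ {M : Type} [AddCommMonoid M] (F : IrrCharacter G → M),
      ∑ χ, F χ = F (trivialIrr G) + (F χ₁ + (F χ₂ + ∑ χ ∈ S, F χ)) := fun F => by
    rw [← Finset.add_sum_erase _ _ (Finset.mem_univ (trivialIrr G)),
      ← Finset.add_sum_erase _ _ (Finset.mem_erase.2 ⟨h1t, Finset.mem_univ χ₁⟩),
      ← Finset.add_sum_erase _ _ (Finset.mem_erase.2 ⟨h12, Finset.mem_erase.2 ⟨h2t, Finset.mem_univ χ₂⟩⟩)]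
  have hSd : ∀ χ ∈ S, dg χ = 45 ∨ 99 ≤ dg χ := by
    intro χ hχ
    simp only [hS, Finset.mem_erase, Finset.mem_univ, and_true] at hχ
    have hmem : (dg χ : ℤ) ∈ allDegs := by
      have h : (dg χ : ℤ) ∈ ((Finset.univ : Finset (IrrCharacter G)).val.map fun χ => (dg χ : ℤ)) :=
        Multiset.mem_map.2 ⟨χ, Finset.mem_univ _, rfl⟩
      rw [K.degs_eq hG] at h
      exact h
    obtain ⟨χ₀, -, hu1⟩ := K.exists_unique_deg hG (d := 1) (by decide)
    simp [allDegs, involCol] at hmem
    rcases eq_or_ne (dg χ) 1 with e | e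
    · exact absurd ((hu1 χ e).trans (hu1 _ htd).symm) hχ.2.2
    rcases eq_or_ne (dg χ) 21 with e' | e'
    · exact absurd (hu21 χ e') hχ.2.1
    rcases eq_or_ne (dg χ) 55 with e'' | e''
    · exact absurd (hu55 χ e'') hχ.1
    omega
  set k := ∑ χ ∈ S.filter (fun χ => dg χ = 45), a χ with hk
  set R := ∑ χ ∈ S.filter (fun χ => ¬ dg χ = 45), a χ * dg χ with hR
  have hsum : ∑ χ ∈ S, a χ * dg χ = 45 * k + R := by
    rw [← Finset.sum_filter_add_sum_filter_not S (fun χ => dg χ = 45), hk, Finset.mul_sum]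
    congr 1
    exact Finset.sum_congr rfl fun χ hχ => by rw [(Finset.mem_filter.1 hχ).2, mul_comm]
  have hR' : R = 0 ∨ 99 ≤ R := by
    by_cases h : ∀ χ ∈ S.filter (fun χ => ¬ dg χ = 45), a χ = 0
    · exact Or.inl (Finset.sum_eq_zero fun χ hχ => by rw [h χ hχ, zero_mul])
    · push Not at h
      obtain ⟨χ, hχ, hne⟩ := h
      refine Or.inr (le_trans ?_ (Finset.single_le_sum (f := fun χ => a χ * dg χ) (fun _ _ => Nat.zero_le _) hχ))
      obtain ⟨hχS, hχ45⟩ := Finset.mem_filter.1 hχ
      have := (hSd χ hχS).resolve_left hχ45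
      exact this.trans (Nat.le_mul_of_pos_left _ (Nat.pos_of_ne_zero hne))
  rw [hsplit, htriv, htd, h21, h55, hsum] at h77
  have hvals : a χ₁ = 1 ∧ a χ₂ = 1 ∧ k = 0 ∧ R = 0 := by omega
  have hzero : ∀ χ ∈ S, a χ = 0 := by
    intro χ hχ
    by_cases h : dg χ = 45
    · exact Finset.sum_eq_zero_iff.1 hvals.2.2.1 χ (Finset.mem_filter.2 ⟨hχ, h⟩)
    · rcases Nat.mul_eq_zero.1 (Finset.sum_eq_zero_iff.1 hvals.2.2.2 χ (Finset.mem_filter.2 ⟨hχ, h⟩)) with e | e
      · exact e
      · exact absurd e (by have := (hSd χ hχ).resolve_left h; omega)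
  refine ⟨?_, fun t ht => ?_⟩
  · have h := sum_mult_sq (G := G) (Ω := Ω)
    rw [hsplit, ha, ha, ha, htriv, hvals.1, hvals.2.1,
      Finset.sum_eq_zero fun χ hχ => by rw [ha, hzero χ hχ, Nat.cast_zero, zero_mul]] at h
    simp only [Nat.cast_one, map_one, mul_one, add_zero] at h
    generalize Nat.card (MulAction.orbitRel.Quotient G (Ω × Ω)) = n at h ⊢
    norm_num at h
    exact_mod_cast h.symm
  · have h := hdec t
    rw [hsplit, htriv, hvals.1, hvals.2.1, Finset.sum_eq_zero fun χ hχ => by rw [hzero χ hχ, Nat.cast_zero, zero_mul],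
      K.inv_value_eq hG ht χ₁, K.inv_value_eq hG ht χ₂, h21, h55] at h
    change (Nat.card (MulAction.fixedBy Ω t) : ℂ) = _ at h
    rw [show (trivialIrr G : G → ℂ) t = 1 from rfl] at h
    generalize Nat.card (MulAction.fixedBy Ω t) = n at h ⊢
    norm_num [invVal] at h
    exact_mod_cast h

include K in
/-- The graph of degree seventy-seven. -/
theorem exists_graph (hG : Nat.card G = 443520) :
    ∃ (Ω : Type u) (_ : Fintype Ω) (_ : MulAction G Ω) (Γ : SimpleGraph Ω) (_ : DecidableRel Γ.Adj),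
      MulAction.IsPretransitive G Ω ∧ Γ.IsSRGWith 77 16 0 4 ∧
        ∀ (g : G) (x y : Ω), Γ.Adj (g • x) (g • y) ↔ Γ.Adj x y := by
  classical
  obtain ⟨X⟩ := K.exists_hexad hG
  set Ω := G ⧸ X.H
  haveI : Fintype Ω := Fintype.ofFinite _
  haveI := Fintype.ofFinite G
  have hΩ : Fintype.card Ω = 77 := by
    have h := Subgroup.card_mul_index X.H
    rw [X.cardH, hG, Subgroup.index] at h
    rw [← Nat.card_eq_fintype_card]
    show Nat.card (G ⧸ X.H) = 77
    omega
  obtain ⟨h3, h13⟩ := K.perm_char hG (Ω := Ω) hΩ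
  set a : Ω := ((1 : G) : Ω) with ha
  set H := MulAction.stabilizer G a with hH
  have hHX : H = X.H := MulAction.stabilizer_quotient X.H
  have hHc : Nat.card H = 5760 := by rw [hHX, X.cardH]
  rw [← card_orbitals a, ← hH] at h3
  haveI := Fintype.ofFinite (MulAction.orbitRel.Quotient H Ω)
  have h3' : Nat.card (MulAction.orbitRel.Quotient H Ω) = 3 := h3
  set qa : MulAction.orbitRel.Quotient H Ω := ⟦a⟧ with hqa
  obtain ⟨q₁, q₂, hne, hq⟩ : ∃ q₁ q₂, q₁ ≠ q₂ ∧ Finset.univ.erase qa = {q₁, q₂} :=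
    Finset.card_eq_two.1 (by rw [Finset.card_erase_of_mem (Finset.mem_univ _), Finset.card_univ,
      ← Nat.card_eq_fintype_card, h3'])
  obtain ⟨b, rfl⟩ := Quotient.exists_rep q₁
  obtain ⟨c, rfl⟩ := Quotient.exists_rep q₂
  have hab : (⟦b⟧ : MulAction.orbitRel.Quotient H Ω) ≠ qa :=
    (Finset.mem_erase.1 (hq.ge (Finset.mem_insert_self _ _))).1
  have hac : (⟦c⟧ : MulAction.orbitRel.Quotient H Ω) ≠ qa :=
    (Finset.mem_erase.1 (hq.ge (Finset.mem_insert_of_mem (Finset.mem_singleton_self _)))).1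
  set Oa := (MulAction.orbit H a).toFinset with hOa
  set Ob := (MulAction.orbit H b).toFinset with hOb
  set Oc := (MulAction.orbit H c).toFinset with hOc
  have hmk : ∀ x y : Ω, x ∈ MulAction.orbit H y ↔ (⟦x⟧ : MulAction.orbitRel.Quotient H Ω) = ⟦y⟧ := fun x y =>
    ⟨fun h => Quotient.sound h, fun h => Quotient.exact h⟩
  have horba : Oa = {a} := by
    ext y
    simp only [hOa, Set.mem_toFinset, MulAction.mem_orbit_iff, Finset.mem_singleton]
    exact ⟨fun ⟨g, hg⟩ => hg ▸ MulAction.mem_stabilizer_iff.1 g.2, fun e => ⟨1, by rw [e, one_smul]⟩⟩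
  have hd1 : Disjoint Oa (Ob ∪ Oc) := Finset.disjoint_left.2 fun y hy hy' => by
    simp only [hOa, hOb, hOc, Finset.mem_union, Set.mem_toFinset, hmk] at hy hy'
    rcases hy' with h | h
    · exact hab (h.symm.trans hy)
    · exact hac (h.symm.trans hy)
  have hd2 : Disjoint Ob Oc := Finset.disjoint_left.2 fun y hy hy' => by
    simp only [hOb, hOc, Set.mem_toFinset, hmk] at hy hy'
    exact hne (hy.symm.trans hy')
  have huniv : Oa ∪ (Ob ∪ Oc) = Finset.univ := Finset.eq_univ_of_forall fun y => by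
    simp only [hOa, hOb, hOc, Finset.mem_union, Set.mem_toFinset, hmk]
    by_cases e : (⟦y⟧ : MulAction.orbitRel.Quotient H Ω) = qa
    · exact Or.inl e
    · have := hq.le (Finset.mem_erase.2 ⟨e, Finset.mem_univ _⟩)
      simpa [Finset.mem_insert] using Or.inr this
  have hsum : 1 + (Ob.card + Oc.card) = 77 := by
    rw [← hΩ, ← Finset.card_univ, ← huniv, Finset.card_union_of_disjoint hd1, Finset.card_union_of_disjoint hd2,
      horba, Finset.card_singleton]
  have hcard : ∀ z : Ω, (MulAction.orbit H z).toFinset.card * Nat.card (MulAction.stabilizer H z) = 5760 := fun z => by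
    rw [← Set.ncard_eq_toFinset_card', ← Nat.card_coe_set_eq, ← Nat.card_prod, ← hHc]
    exact Nat.card_congr (MulAction.orbitProdStabilizerEquivGroup H z)
  -- the elementary subgroup
  let st : Ω → ℕ := fun y => (Finset.univ.filter fun e => e ∈ X.E ∧ e • y = y).card
  have hEle : ∀ e ∈ X.E, e • a = a := fun e he => MulAction.mem_stabilizer_iff.1 (hHX.ge (X.le he) : e ∈ H)
  have hst_a : st a = 16 := by
    rw [← X.cardE, Nat.card_eq_fintype_card, Fintype.card_subtype]
    simp only [st]
    congr 1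
    ext e
    simp only [Finset.mem_filter, Finset.mem_univ, true_and]
    exact ⟨And.left, fun he => ⟨he, hEle e he⟩⟩
  have hst_const : ∀ z : Ω, ∀ y ∈ (MulAction.orbit H z).toFinset, st y = st z := by
    intro z y hy
    obtain ⟨h, rfl⟩ := Set.mem_toFinset.1 hy
    have hn : (h : G) ∈ Subgroup.normalizer (X.E : Set G) := X.norm (hHX.le h.2)
    refine Finset.card_nbij' (fun e => (h : G)⁻¹ * e * h) (fun e => (h : G) * e * (h : G)⁻¹) ?_ ?_ ?_ ?_
    · intro e he
      simp only [Finset.coe_filter, Finset.mem_univ, true_and, Set.mem_ofPred_eq] at he ⊢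
      refine ⟨?_, ?_⟩
      · have := (Subgroup.mem_normalizer_iff.1 (inv_mem hn) e).1 he.1
        rwa [inv_inv] at this
      · rw [mul_smul, mul_smul]
        have h2 : e • ((h : G) • z) = (h : G) • z := he.2
        rw [h2, inv_smul_smul]
    · intro e he
      simp only [Finset.coe_filter, Finset.mem_univ, true_and, Set.mem_ofPred_eq] at he ⊢
      refine ⟨(Subgroup.mem_normalizer_iff.1 hn e).1 he.1, ?_⟩
      show ((h : G) * e * (h : G)⁻¹) • ((h : G) • z) = (h : G) • z
      rw [← mul_smul, inv_mul_cancel_right, mul_smul, he.2]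
    · intro e _; group
    · intro e _; group
  have hdouble : ∑ y, st y = 272 := by
    simp only [st, Finset.card_filter]
    rw [Finset.sum_comm]
    have e : ∀ g : G, (∑ y : Ω, if g ∈ X.E ∧ g • y = y then 1 else 0) =
        (if g ∈ X.E then (if g = 1 then 77 else 13) else 0) := fun g => by
      by_cases hg : g ∈ X.E
      · simp only [hg, true_and, if_true]
        rw [← Finset.card_filter]
        split_ifs with h1
        · subst h1; rw [← hΩ]; simp
        · rw [← h13 g (orderOf_involution (X.sq g hg) h1), Nat.card_eq_fintype_card, Fintype.card_of_finset' ]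
          intro y; simp
      · simp [hg]
    rw [Finset.sum_congr rfl fun g _ => e g, ← Finset.sum_filter,
      ← Finset.add_sum_erase _ _ (show (1 : G) ∈ Finset.univ.filter (fun g => g ∈ X.E) by simp [one_mem])]
    rw [if_pos rfl, Finset.sum_congr rfl (g := fun _ => 13) fun g hg => if_neg (Finset.ne_of_mem_erase hg),
      Finset.sum_const, Finset.card_erase_of_mem (by simp [one_mem]), ← Fintype.card_subtype,
      ← Nat.card_eq_fintype_card, X.cardE]
    rfl
  have heq : 16 + (Ob.card * st b + Oc.card * st c) = 272 := by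
    rw [← hdouble, ← huniv, Finset.sum_union hd1, Finset.sum_union hd2, horba, Finset.sum_singleton, hst_a,
      Finset.sum_const_nat (hst_const b), Finset.sum_const_nat (hst_const c)]
  have h90 : ∀ z : Ω, (MulAction.orbit H z).toFinset.card ≠ 64 := fun z e => by
    have h := hcard z
    rw [e] at h
    refine K.no_90 hG (H := (MulAction.stabilizer H z).map H.subtype) ?_
    rw [← Nat.card_congr ((MulAction.stabilizer H z).equivMapOfInjective _ H.subtype_injective).toEquiv]
    omega
  have hst16 : ∀ z : Ω, st z = 1 ∨ st z = 2 ∨ st z = 4 ∨ st z = 8 ∨ st z = 16 := by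
    intro z
    have e : st z = Nat.card (X.E ⊓ MulAction.stabilizer G z : Subgroup G) := by
      rw [Nat.card_eq_fintype_card, Fintype.card_subtype]
      simp only [st, Subgroup.mem_inf, MulAction.mem_stabilizer_iff]
    obtain ⟨i, hi, hi'⟩ := (Nat.dvd_prime_pow Nat.prime_two).1
      (show Nat.card (X.E ⊓ MulAction.stabilizer G z : Subgroup G) ∣ 2 ^ 4 from
        (Subgroup.card_dvd_of_le inf_le_left).trans (by rw [X.cardE]; norm_num))
    rw [e, hi']
    interval_cases i <;> norm_num
  have key : ∀ A B s s' : ℕ, A ∣ 5760 → A + B = 76 → B ∣ 5760 → A * s + B * s' = 256 → A ≠ 64 → B ≠ 64 →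
      (s = 1 ∨ s = 2 ∨ s = 4 ∨ s = 8 ∨ s = 16) → (s' = 1 ∨ s' = 2 ∨ s' = 4 ∨ s' = 8 ∨ s' = 16) →
      A = 16 ∨ B = 16 := by
    intro A B s s' hA hAB hB he hA' hB' hs1 hs2
    have hs : A ≤ 76 := by omega
    interval_cases A <;> obtain rfl : B = _ := (Nat.eq_sub_of_add_eq' hAB) <;>
      first
        | omega
        | (norm_num at hA; done)
        | (norm_num at hB; done)
        | (norm_num at he ⊢; omega)
  obtain ⟨b', c', hb', hc'⟩ : ∃ b' c' : Ω, (MulAction.orbit H b').ncard = 16 ∧
      (MulAction.orbit H c').ncard = 60 := by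
    simp only [Set.ncard_eq_toFinset_card']
    rcases key Ob.card Oc.card (st b) (st c) ⟨_, (hcard b).symm⟩ (by omega) ⟨_, (hcard c).symm⟩ (by omega)
      (h90 b) (h90 c) (hst16 b) (hst16 c) with h | h
    · exact ⟨b, c, h, by show Oc.card = 60; omega⟩
    · exact ⟨c, b, h, by show Ob.card = 60; omega⟩
  obtain ⟨Γ, hdecΓ, hsrg, hinv, -⟩ := Fus.RankThreeSeventySeven.exists_srg hΩ hb' hc'
  exact ⟨Ω, inferInstance, inferInstance, Γ, hdecΓ, inferInstance, hsrg, hinv⟩

end Frame

end Cfsg.Agent.Invol.M22Ord
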