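import Mathlib
import Cfsg.Prelude.Def_Spor_Mathieu
import Cfsg.Prelude.Def_Sporadic
import Cfsg.Agent.Lib.Invol.Order443520.RankThree
import Cfsg.Agent.Lib.Fus.SRGSeventySeven
import Cfsg.Agent.Lib.Fus.MathieuTwoGroups

/-!
Simple groups of order 443520 are isomorphic to the Mathieu group of degree twenty-two.
-/

set_option autoImplicit false
set_option linter.style.haveILetI false
set_option linter.unusedSectionVars false

namespace Cfsg.Agent.Invol.M22Ord

open Cfsg Cfsg.Agent.Fus.SRGSeventySeven Cfsg.Agent.Spor Cfsg.Agent.Spor.SteinerCode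
open scoped Pointwise

universe u

/-- A simple group acting transitively on the vertices of a graph with parameters (77, 16, 0, 4) acts faithfully
on its twenty-two points, preserving the blocks. -/
theorem exists_action {G : Type u} [Group G] [IsSimpleGroup G] {V : Type u} [Fintype V] [DecidableEq V]
    [MulAction G V] [MulAction.IsPretransitive G V] {Γ : SimpleGraph V} [DecidableRel Γ.Adj]
    (h : Γ.IsSRGWith 77 16 0 4) (hinv : ∀ (g : G) (x y : V), Γ.Adj (g • x) (g • y) ↔ Γ.Adj x y) :
    ∃ ψ : G →* Equiv.Perm (Pt Γ), Function.Injective ψ ∧ ∀ g, ψ g ∈ setSystemAut (family Γ) := by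
  classical
  have hmem : ∀ (g : G) {C : Finset V}, C ∈ Coc Γ → C.image (g • ·) ∈ Coc Γ := by
    intro g C hC
    obtain ⟨hc, hi⟩ := mem_coc.1 hC
    refine mem_coc.2 ⟨by rw [Finset.card_image_of_injective _ (MulAction.injective g), hc], ?_⟩
    intro x hx y hy ha
    obtain ⟨x', hx', rfl⟩ := Finset.mem_image.1 hx
    obtain ⟨y', hy', rfl⟩ := Finset.mem_image.1 hy
    exact hi x' hx' y' hy' ((hinv g x' y').1 ha)
  have himg : ∀ (g k : G) (C : Finset V), (C.image (k • ·)).image (g • ·) = C.image ((g * k) • ·) := fun g k C => by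
    rw [Finset.image_image]; exact Finset.image_congr fun x _ => (mul_smul g k x).symm
  have hone : ∀ C : Finset V, C.image ((1 : G) • ·) = C := fun C => by
    simp
  let f : G → Equiv.Perm (Pt Γ) := fun g =>
    { toFun := fun C => ⟨C.1.image (g • ·), hmem g C.2⟩
      invFun := fun C => ⟨C.1.image (g⁻¹ • ·), hmem g⁻¹ C.2⟩
      left_inv := fun C => Subtype.ext (by simp only; rw [himg, inv_mul_cancel, hone])
      right_inv := fun C => Subtype.ext (by simp only; rw [himg, mul_inv_cancel, hone]) }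
  let ψ : G →* Equiv.Perm (Pt Γ) := MonoidHom.mk' f fun g k => Equiv.ext fun C => Subtype.ext
    (himg g k C.1).symm
  have hblk : ∀ g x, (blk Γ x).image (ψ g) = blk Γ (g • x) := fun g x => by
    ext C
    simp only [Finset.mem_image, blk, Finset.mem_filter, Finset.mem_univ, true_and]
    constructor
    · rintro ⟨D, hD, rfl⟩
      exact Finset.mem_image.2 ⟨x, hD, rfl⟩
    · intro hC
      refine ⟨(ψ g).symm C, ?_, (ψ g).apply_symm_apply C⟩
      exact Finset.mem_image.2 ⟨g • x, hC, inv_smul_smul g x⟩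
  refine ⟨ψ, ?_, fun g => SteinerAut.mem_aut.mpr fun b => ?_⟩
  · rcases Subgroup.Normal.eq_bot_or_eq_top ψ.normal_ker with hk | hk
    · exact (ψ.ker_eq_bot_iff).1 hk
    · exfalso
      obtain ⟨x, y, hne⟩ := Fintype.exists_pair_of_one_lt_card (α := V) (by rw [h.card]; norm_num)
      obtain ⟨g, hg⟩ := MulAction.exists_smul_eq G x y
      apply hne
      rw [← hg]
      refine blk_injective h ?_
      rw [← hblk, show ψ g = 1 from MonoidHom.mem_ker.1 (hk.symm ▸ Subgroup.mem_top g : g ∈ ψ.ker)]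
      simp
  · constructor
    · intro hb
      obtain ⟨y, -, hy⟩ := Finset.mem_image.1 (Finset.mem_coe.1 hb)
      refine Finset.mem_coe.2 (Finset.mem_image.2 ⟨g⁻¹ • y, Finset.mem_univ _, ?_⟩)
      apply Finset.image_injective (ψ g).injective
      show (blk Γ (g⁻¹ • y)).image (ψ g) = b.image (ψ g)
      rw [hblk, smul_inv_smul, hy]
    · intro hb
      obtain ⟨x, -, rfl⟩ := Finset.mem_image.1 (Finset.mem_coe.1 hb)
      rw [hblk]
      exact Finset.mem_coe.2 (Finset.mem_image.2 ⟨_, Finset.mem_univ _, rfl⟩)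

/-- A simple group of order 443520 acting faithfully on a Steiner system S(3, 6, 22) is the Mathieu group. -/
theorem iso_of_steiner {G : Type u} [Group G] [Finite G] [IsSimpleGroup G] (hG : Nat.card G = 443520)
    {β : Type u} [Fintype β] [DecidableEq β] {B : Set (Finset β)} (hβ : Fintype.card β = 22)
    (hB : IsSteinerSystem 3 6 B) (ψ : G →* Equiv.Perm β) (hψ : Function.Injective ψ)
    (haut : ∀ g, ψ g ∈ setSystemAut B) : Cfsg.Spor.IsoM22 G := by
  classical
  obtain ⟨e, -, -, hM⟩ := exists_equiv622 hβ hB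
  let φ : Equiv.Perm β →* Equiv.Perm GolayPt := MonoidHom.mk' (fun g => e.permCongr g.optionCongr.optionCongr)
    fun g h => Equiv.ext fun p => by
      obtain ⟨z, rfl⟩ := e.surjective p
      rcases z with _ | _ | x <;> simp [Equiv.Perm.mul_apply, Equiv.permCongr_apply]
  have hsw : ∀ g h : Equiv.Perm β, e.permCongr (g.optionCongr.optionCongr * sw β) *
      e.permCongr (h.optionCongr.optionCongr * sw β) = φ (g * h) := fun g h => Equiv.ext fun p => by
    obtain ⟨z, rfl⟩ := e.surjective p
    rcases z with _ | _ | x <;>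
      simp [φ, sw, Equiv.Perm.mul_apply, Equiv.permCongr_apply, Equiv.swap_apply_of_ne_of_ne]
  set N : Subgroup G := M24.comap (φ.comp ψ) with hN
  have hmemN : ∀ g, g ∈ N ↔ φ (ψ g) ∈ M24 := fun g => Iff.rfl
  have hprod : ∀ g h : G, g ∉ N → h ∉ N → g * h ∈ N := by
    intro g h hg hh
    rw [hmemN, map_mul, ← hsw]
    exact mul_mem ((hM _ (haut g)).resolve_left hg) ((hM _ (haut h)).resolve_left hh)
  have htop : N = ⊤ := by
    by_contra hne
    obtain ⟨a, ha⟩ : ∃ a, a ∉ N := by
      by_contra hall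
      push Not at hall
      exact hne (eq_top_iff.2 fun g _ => hall g)
    have hidx : N.index = 2 := by
      rw [Subgroup.index_eq_two_iff]
      refine ⟨a, fun b => ?_⟩
      by_cases hb : b ∈ N
      · exact Or.inr ⟨hb, fun h => ha ((Subgroup.mul_mem_cancel_left N hb).1 h)⟩
      · exact Or.inl ⟨hprod b a hb ha, hb⟩
    rcases Subgroup.Normal.eq_bot_or_eq_top (Subgroup.normal_of_index_eq_two hidx) with h | h
    · rw [h, Subgroup.index_bot, hG] at hidx
      norm_num at hidx
    · exact hne h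
  have hall : ∀ g, φ (ψ g) ∈ M24 := fun g => (hmemN g).1 (htop ▸ Subgroup.mem_top g)
  have h2 : MulAction.IsMultiplyPretransitive M24 GolayPt 2 := Golay.M24_pretransitive (by norm_num)
  obtain ⟨σ, s1, s2⟩ := (MulAction.is_two_pretransitive_iff.mp h2) (show e none ≠ e (some none) by simp)
    (show (none : GolayPt) ≠ some 0 by simp)
  have s1' : (σ : Equiv.Perm GolayPt)⁻¹ none = e none := Equiv.Perm.inv_eq_iff_eq.2 s1.symm
  have s2' : (σ : Equiv.Perm GolayPt)⁻¹ (some 0) = e (some none) := Equiv.Perm.inv_eq_iff_eq.2 s2.symm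
  have hfix : ∀ g, φ (ψ g) (e none) = e none ∧ φ (ψ g) (e (some none)) = e (some none) := fun g =>
    ⟨by simp [φ, Equiv.permCongr_apply], by simp [φ, Equiv.permCongr_apply]⟩
  let f : G →* Equiv.Perm GolayPt :=
    (MulAut.conj (σ : Equiv.Perm GolayPt)).toMonoidHom.comp (φ.comp ψ)
  have hf : ∀ g, f g = (σ : Equiv.Perm GolayPt) * φ (ψ g) * (σ : Equiv.Perm GolayPt)⁻¹ := fun g => rfl
  have hrange : ∀ g, f g ∈ Cfsg.Spor.M22 := fun g => by
    refine Subgroup.mem_inf.2 ⟨Subgroup.mem_inf.2 ⟨?_, ?_⟩, ?_⟩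
    · rw [hf]; exact mul_mem (mul_mem σ.2 (hall g)) (inv_mem σ.2)
    · show f g (none : GolayPt) = none
      rw [hf, Equiv.Perm.mul_apply, Equiv.Perm.mul_apply, s1', (hfix g).1]
      exact s1
    · show f g (some 0 : GolayPt) = some 0
      rw [hf, Equiv.Perm.mul_apply, Equiv.Perm.mul_apply, s2', (hfix g).2]
      exact s2
  have hφ : Function.Injective φ := fun g h hgh => Equiv.ext fun x => by
    have := Equiv.ext_iff.1 hgh (e (some (some x)))
    simpa [φ, Equiv.permCongr_apply] using this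
  have hinj : Function.Injective (f.codRestrict Cfsg.Spor.M22 hrange) := fun g h hgh => by
    have h' : f g = f h := congrArg Subtype.val hgh
    rw [hf, hf] at h'
    exact hψ (hφ (mul_left_cancel (mul_right_cancel h')))
  have hbij : Function.Bijective (f.codRestrict Cfsg.Spor.M22 hrange) :=
    hinj.bijective_of_nat_card_le (by rw [hG, Fus.Mathieu.card22])
  exact ⟨MulEquiv.ofBijective _ hbij⟩

/-- Simple groups of order 443520 are isomorphic to the Mathieu group of degree twenty-two. -/
theorem iso_m22 {G : Type u} [Group G] [Finite G] [IsSimpleGroup G] (hG : Nat.card G = 443520) :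
    Cfsg.Spor.IsoM22 G := by
  classical
  haveI : Fact (Nat.Prime 5) := ⟨by norm_num⟩
  haveI : Fact (Nat.Prime 7) := ⟨by norm_num⟩
  haveI : Fact (Nat.Prime 11) := ⟨by norm_num⟩
  obtain ⟨K⟩ := exists_frame (G := G) hG
  obtain ⟨Ω, hfin, hact, Γ, hdec, hpre, hsrg, hinv⟩ := K.exists_graph hG
  haveI := hpre
  obtain ⟨ψ, hψ, haut⟩ := exists_action hsrg hinv
  exact iso_of_steiner hG (card_pt hsrg) (steiner hsrg) ψ hψ haut

end Cfsg.Agent.Invol.M22Ord
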